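import Mathlib

/-!
# Coefficient fields of local rings of characteristic `p` with nilpotent maximal ideal

`section_of_nilpotent`: relative existence of sections `k → A` of a surjection `π : A → k` onto a field with
nilpotent kernel, in characteristic `p`, extending a given partial section `t : k₀ → A`, provided a
"separability" hypothesis `hsep`.  `hsep_zmod` (absolute case, `k₀ = ZMod p`) and `hsep_geomReduced`
(`k/k₀` geometrically reduced) verify it.
-/

set_option autoImplicit false
open Polynomial TensorProduct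

namespace Groth.Agent.H27.CoeffField

universe u

theorem charP_of_prime_cast_zero {R : Type*} [CommRing R] [Nontrivial R] {p : ℕ} (hp : p.Prime)
    (h : (p : R) = 0) : CharP R p := by
  have h1 := ringChar.dvd h
  rcases (Nat.dvd_prime hp).mp h1 with h2 | h2
  · exact absurd h2 (CharP.ringChar_ne_one)
  · have := ringChar.charP R
    rwa [h2] at this

theorem nontrivial_of_surj {E k : Type*} [CommRing E] [Field k] (π : E →+* k) : Nontrivial E := by
  refine ⟨⟨0, 1, fun h => ?_⟩⟩
  have := congrArg π h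
  simp at this

/-- Zorn step: a subring `K₀` containing all `p`-th powers on which `π` is injective extends to a section. -/
theorem sq_zero_section {p : ℕ} (hp : p.Prime) {E : Type u} [CommRing E] {k : Type u} [Field k]
    (π : E →+* k) (hπ : Function.Surjective π) (hpE : (p : E) = 0)
    (K₀ : Subring E) (hK₀p : ∀ e : E, e ^ p ∈ K₀) (hK₀inj : ∀ a ∈ K₀, π a = 0 → a = 0) :
    ∃ s : k →+* E, π.comp s = RingHom.id k ∧ ∀ a ∈ K₀, s (π a) = a := by
  classical
  haveI : Fact p.Prime := ⟨hp⟩
  haveI : Nontrivial E := nontrivial_of_surj π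
  have hpk : (p : k) = 0 := by have := congrArg π hpE; simpa using this
  haveI : CharP k p := charP_of_prime_cast_zero hp hpk
  haveI : ExpChar k p := ExpChar.prime hp
  let S : Set (Subring E) := {K | K₀ ≤ K ∧ ∀ a ∈ K, π a = 0 → a = 0}
  obtain ⟨M, hK₀M, hM⟩ := zorn_le_nonempty₀ S (by
    intro c hcS hc y hy
    refine ⟨sSup c, ⟨(hcS hy).1.trans (le_sSup hy), ?_⟩, fun z hz => le_sSup hz⟩
    intro a ha ha0
    rw [Subring.mem_sSup_of_directedOn ⟨y, hy⟩ hc.directedOn] at ha
    obtain ⟨K, hKc, haK⟩ := ha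
    exact (hcS hKc).2 a haK ha0) K₀ ⟨le_refl _, hK₀inj⟩
  have hMinj : ∀ a ∈ M, π a = 0 → a = 0 := hM.prop.2
  have hsurj : ∀ x : k, ∃ a ∈ M, π a = x := by
    by_contra hcon
    push_neg at hcon
    obtain ⟨x₀, hx₀⟩ := hcon
    obtain ⟨z, hz⟩ := hπ x₀
    have hcM : z ^ p ∈ M := hK₀M (hK₀p z)
    let F : Subfield k :=
      { toSubring := M.map π
        inv_mem' := by
          rintro x ⟨a, haM, rfl⟩
          by_cases hx : π a = 0
          · rw [hx, inv_zero]; exact (M.map π).zero_mem
          · obtain ⟨w, hw⟩ := hπ (π a)⁻¹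
            refine ⟨a ^ (p - 1) * w ^ p, M.mul_mem (M.pow_mem haM _) (hK₀M (hK₀p w)), ?_⟩
            have h1 : (π a) ^ p = (π a) ^ (p - 1) * π a := by
              rw [← pow_succ, Nat.sub_add_cancel hp.one_le]
            rw [map_mul, map_pow, map_pow, hw, inv_pow, h1, mul_inv, ← mul_assoc,
              mul_inv_cancel₀ (pow_ne_zero _ hx), one_mul] }
    have hFmem : ∀ x : k, x ∈ F ↔ ∃ a ∈ M, π a = x := fun x => Iff.rfl
    have hx₀F : x₀ ∉ F := by
      rintro ⟨a, haM, ha⟩
      exact hx₀ a haM ha
    let ρ : M →+* F := (π.comp M.subtype).codRestrict F (fun a => ⟨a.1, a.2, rfl⟩)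
    have hρ : ∀ a : M, ((ρ a : F) : k) = π a.1 := fun a => rfl
    have hρinj : Function.Injective ρ := by
      rw [injective_iff_map_eq_zero]
      intro a ha
      have h1 : π a.1 = 0 := by rw [← hρ, ha]; rfl
      exact Subtype.ext (hMinj a.1 a.2 h1)
    let c' : M := ⟨z ^ p, hcM⟩
    have hc' : ((ρ c' : F) : k) = x₀ ^ p := by rw [hρ]; show π (z ^ p) = _; rw [map_pow, hz]
    have hirr : Irreducible (X ^ p - C (ρ c') : F[X]) := by
      apply X_pow_sub_C_irreducible_of_prime hp
      intro b hb
      have h1 : ((b : F) : k) ^ p = x₀ ^ p := by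
        rw [← hc', ← hb]; rfl
      have h2 : (b : k) = x₀ := frobenius_inj k p h1
      exact hx₀F (h2 ▸ b.2)
    have hmonic : (X ^ p - C (ρ c') : F[X]).Monic := monic_X_pow_sub_C _ hp.ne_zero
    have hroot : aeval x₀ (X ^ p - C (ρ c') : F[X]) = 0 := by
      rw [map_sub, map_pow, aeval_X, aeval_C]
      show x₀ ^ p - ((ρ c' : F) : k) = 0
      rw [hc', sub_self]
    have hmin : (X ^ p - C (ρ c') : F[X]) = minpoly F x₀ :=
      minpoly.eq_of_irreducible_of_monic hirr hroot hmonic
    let ev : M[X] →+* E := Polynomial.eval₂RingHom M.subtype z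
    have hev : ∀ P : M[X], ev P = Polynomial.eval₂ M.subtype z P := fun P => rfl
    have hM'S : ev.range ∈ S := by
      refine ⟨fun a ha => ⟨C ⟨a, hK₀M ha⟩, by rw [hev, eval₂_C]; rfl⟩, ?_⟩
      rintro a ⟨P, rfl⟩ ha0
      have hf : (X ^ p - C c' : M[X]).Monic := monic_X_pow_sub_C _ hp.ne_zero
      have hfz : ev (X ^ p - C c' : M[X]) = 0 := by
        rw [hev, eval₂_sub, eval₂_pow, eval₂_X, eval₂_C]
        show z ^ p - z ^ p = 0
        rw [sub_self]
      have hP : ev P = ev (P %ₘ (X ^ p - C c')) := by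
        conv_lhs => rw [← Polynomial.modByMonic_add_div P (X ^ p - C c')]
        rw [map_add, map_mul, hfz, zero_mul, add_zero]
      rw [hP] at ha0 ⊢
      have hdeg : (P %ₘ (X ^ p - C c')).natDegree < p := by
        have h1 := Polynomial.natDegree_modByMonic_lt P hf (by
          intro h1
          have := congrArg natDegree h1
          rw [natDegree_X_pow_sub_C, natDegree_one] at this
          exact hp.ne_zero this)
        rwa [natDegree_X_pow_sub_C] at h1
      have hcomp : (algebraMap F k).comp ρ = π.comp M.subtype := RingHom.ext fun a => rfl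
      have hr0 : aeval x₀ ((P %ₘ (X ^ p - C c')).map ρ) = 0 := by
        rw [aeval_def, eval₂_map, hcomp, ← hz, ← Polynomial.hom_eval₂, ← hev]
        exact ha0
      have hrbar : (P %ₘ (X ^ p - C c')).map ρ = 0 := by
        by_contra hne
        have h1 := Polynomial.natDegree_le_of_dvd (minpoly.dvd F x₀ hr0) hne
        rw [← hmin, natDegree_X_pow_sub_C] at h1
        have h2 := natDegree_map_le (f := ρ) (p := P %ₘ (X ^ p - C c'))
        omega
      have hr : P %ₘ (X ^ p - C c') = 0 :=
        Polynomial.map_injective ρ hρinj (by rw [hrbar, Polynomial.map_zero])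
      rw [hr, map_zero]
    have hle : ev.range ≤ M :=
      hM.le_of_ge hM'S (fun a ha => ⟨C ⟨a, ha⟩, by rw [hev, eval₂_C]; rfl⟩)
    have hzM : z ∈ M := hle ⟨X, by rw [hev, eval₂_X]⟩
    exact hx₀ z hzM hz
  have hbij : Function.Bijective (π.comp M.subtype) := by
    refine ⟨?_, fun x => ?_⟩
    · rw [injective_iff_map_eq_zero]
      intro a ha
      exact Subtype.ext (hMinj a.1 a.2 ha)
    · obtain ⟨a, haM, ha⟩ := hsurj x
      exact ⟨⟨a, haM⟩, ha⟩
  let e := RingEquiv.ofBijective (π.comp M.subtype) hbij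
  refine ⟨M.subtype.comp (e.symm : k →+* M), ?_, ?_⟩
  · ext x
    show π ((e.symm x : M) : E) = x
    exact e.apply_symm_apply x
  · intro a ha
    have h1 : e ⟨a, hK₀M ha⟩ = π a := rfl
    show ((e.symm (π a) : M) : E) = a
    rw [← h1, e.symm_apply_apply]

/-- Relative existence of coefficient fields, by induction on the nilpotency order. -/
theorem section_of_nilpotent {p : ℕ} (hp : p.Prime) {k₀ : Type*} {k : Type u} [CommRing k₀] [Field k]
    (ι : k₀ →+* k)
    (hsep : ∀ (E : Type u) [CommRing E] (π : E →+* k) (t : k₀ →+* E), Function.Surjective π →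
      (p : E) = 0 → (∀ a b : E, π a = 0 → π b = 0 → a * b = 0) → π.comp t = ι →
      ∀ a ∈ Subring.closure (Set.range t ∪ Set.range (fun e : E => e ^ p)), π a = 0 → a = 0)
    (N : ℕ) : ∀ (A : Type u) [CommRing A] (π : A →+* k) (t : k₀ →+* A), Function.Surjective π →
      (p : A) = 0 → (RingHom.ker π) ^ N = ⊥ → π.comp t = ι →
      ∃ s : k →+* A, π.comp s = RingHom.id k ∧ s.comp ι = t := by
  induction N with
  | zero =>
    intro A _ π t hπ hpA hker ht
    exfalso
    rw [pow_zero, Ideal.one_eq_top] at hker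
    have h1 : (1 : A) ∈ (⊥ : Ideal A) := hker ▸ Submodule.mem_top
    have h2 : (1 : A) = 0 := by simpa using h1
    have := congrArg π h2
    simp at this
  | succ N ih =>
    intro A _ π t hπ hpA hker ht
    by_cases hN : N = 0
    · subst hN
      rw [zero_add, pow_one] at hker
      have hinj : Function.Injective π := (RingHom.injective_iff_ker_eq_bot π).mpr hker
      let e := RingEquiv.ofBijective π ⟨hinj, hπ⟩
      refine ⟨(e.symm : k →+* A), ?_, ?_⟩
      · ext x; exact e.apply_symm_apply x
      · ext x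
        show e.symm (ι x) = t x
        rw [← ht]
        exact e.symm_apply_apply (t x)
    · let I : Ideal A := (RingHom.ker π) ^ N
      have hIle : I ≤ RingHom.ker π := Ideal.pow_le_self hN
      let π' : A ⧸ I →+* k := Ideal.Quotient.lift I π (fun a ha => hIle ha)
      have hπ'mk : ∀ a : A, π' (Ideal.Quotient.mk I a) = π a := fun a => rfl
      let t' : k₀ →+* A ⧸ I := (Ideal.Quotient.mk I).comp t
      have hπ' : Function.Surjective π' := by
        intro x; obtain ⟨a, rfl⟩ := hπ x; exact ⟨Ideal.Quotient.mk I a, rfl⟩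
      have hpA' : (p : A ⧸ I) = 0 := by
        have := congrArg (Ideal.Quotient.mk I) hpA; simpa using this
      have hker' : (RingHom.ker π') ^ N = ⊥ := by
        have h1 : RingHom.ker π' ≤ (RingHom.ker π).map (Ideal.Quotient.mk I) := by
          intro x hx
          obtain ⟨a, rfl⟩ := Ideal.Quotient.mk_surjective x
          have h2 : π a = 0 := by rw [← hπ'mk]; exact hx
          exact Ideal.mem_map_of_mem _ h2
        have h2 : ((RingHom.ker π).map (Ideal.Quotient.mk I)) ^ N = ⊥ := by
          rw [← Ideal.map_pow]; exact Ideal.map_quotient_self I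
        exact le_bot_iff.mp ((Ideal.pow_right_mono h1 N).trans h2.le)
      have ht' : π'.comp t' = ι := by
        rw [← ht]; ext x; rfl
      obtain ⟨s', hs'1, hs'2⟩ := ih (A ⧸ I) π' t' hπ' hpA' hker' ht'
      have hs'1' : ∀ x : k, π' (s' x) = x := fun x => RingHom.congr_fun hs'1 x
      let E : Subring A := (s'.range).comap (Ideal.Quotient.mk I)
      have hEmem : ∀ a : A, a ∈ E ↔ ∃ x : k, s' x = Ideal.Quotient.mk I a := fun a => Iff.rfl
      let πE : E →+* k := π.comp E.subtype
      have hπE : Function.Surjective πE := by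
        intro x
        obtain ⟨a, ha⟩ := Ideal.Quotient.mk_surjective (s' x)
        refine ⟨⟨a, (hEmem a).mpr ⟨x, ha.symm⟩⟩, ?_⟩
        show π a = x
        rw [← hπ'mk, ha, hs'1']
      have hkerE : ∀ a : E, πE a = 0 → (a : A) ∈ I := by
        intro a ha
        obtain ⟨x, hx⟩ := (hEmem a.1).mp a.2
        have h2 : x = 0 := by
          rw [← hs'1' x, hx, hπ'mk]; exact ha
        rw [h2, map_zero] at hx
        exact Ideal.Quotient.eq_zero_iff_mem.mp hx.symm
      have hsqE : ∀ a b : E, πE a = 0 → πE b = 0 → a * b = 0 := by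
        intro a b ha hb
        have h1 : (a : A) * (b : A) ∈ I * I := Ideal.mul_mem_mul (hkerE a ha) (hkerE b hb)
        have h2 : I * I ≤ ⊥ := by
          rw [← hker]
          show (RingHom.ker π) ^ N * (RingHom.ker π) ^ N ≤ _
          rw [← pow_add]
          exact Ideal.pow_le_pow_right (by omega)
        exact Subtype.ext ((Ideal.mem_bot).mp (h2 h1))
      have hpE : (p : E) = 0 := Subtype.ext (by simpa using hpA)
      let tE : k₀ →+* E := t.codRestrict E (fun x => (hEmem _).mpr ⟨ι x, by
        have := RingHom.congr_fun hs'2 x; simpa [t'] using this⟩)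
      have htE : πE.comp tE = ι := by rw [← ht]; ext x; rfl
      obtain ⟨sE, hsE1, hsE2⟩ := sq_zero_section hp πE hπE hpE
        (Subring.closure (Set.range tE ∪ Set.range (fun e : E => e ^ p)))
        (fun e => Subring.subset_closure (Or.inr ⟨e, rfl⟩))
        (hsep E πE tE hπE hpE hsqE htE)
      refine ⟨E.subtype.comp sE, ?_, ?_⟩
      · ext x; exact RingHom.congr_fun hsE1 x
      · ext x
        have h1 := hsE2 (tE x) (Subring.subset_closure (Or.inl ⟨x, rfl⟩))
        have h2 : πE (tE x) = ι x := RingHom.congr_fun htE x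
        rw [h2] at h1
        show ((sE (ι x) : E) : A) = t x
        rw [h1]; rfl

/-- Absolute case: `k₀ = ZMod p`. -/
theorem hsep_zmod {p : ℕ} (hp : p.Prime) {k : Type u} [Field k] (E : Type u) [CommRing E]
    (π : E →+* k) (t : ZMod p →+* E) (hpE : (p : E) = 0)
    (hsq : ∀ a b : E, π a = 0 → π b = 0 → a * b = 0) :
    ∀ a ∈ Subring.closure (Set.range t ∪ Set.range (fun e : E => e ^ p)), π a = 0 → a = 0 := by
  haveI : Fact p.Prime := ⟨hp⟩
  haveI : Nontrivial E := nontrivial_of_surj π
  haveI : CharP E p := charP_of_prime_cast_zero hp hpE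
  have key : ∀ a ∈ Subring.closure (Set.range t ∪ Set.range (fun e : E => e ^ p)),
      ∃ e : E, a = e ^ p := by
    intro a ha
    induction ha using Subring.closure_induction with
    | mem x hx =>
      rcases hx with ⟨y, rfl⟩ | ⟨e, rfl⟩
      · exact ⟨t y, by rw [← map_pow, ZMod.pow_card]⟩
      · exact ⟨e, rfl⟩
    | zero => exact ⟨0, by rw [zero_pow hp.ne_zero]⟩
    | one => exact ⟨1, by rw [one_pow]⟩
    | add x y _ _ hx hy =>
      obtain ⟨e, rfl⟩ := hx; obtain ⟨f, rfl⟩ := hy
      exact ⟨e + f, (add_pow_char e f p).symm⟩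
    | neg x _ hx =>
      obtain ⟨e, rfl⟩ := hx
      exact ⟨-e, by rw [neg_pow, neg_one_pow_char E p, neg_one_mul]⟩
    | mul x y _ _ hx hy =>
      obtain ⟨e, rfl⟩ := hx; obtain ⟨f, rfl⟩ := hy
      exact ⟨e * f, (mul_pow e f p).symm⟩
  intro a ha ha0
  obtain ⟨e, rfl⟩ := key a ha
  have h1 : π e = 0 := by
    rw [map_pow] at ha0; exact (pow_eq_zero_iff hp.ne_zero).mp ha0
  have h2 : e * e = 0 := hsq e e h1 h1
  obtain ⟨q, hq⟩ : ∃ q, p = q + 2 := ⟨p - 2, by have := hp.two_le; omega⟩
  rw [hq, pow_add, pow_two, h2, mul_zero]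

end Groth.Agent.H27.CoeffField
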