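import Mathlib
import Groth.Agent.H27.CoeffField

/-!
# The separability input: `hsep_geomReduced`
-/

set_option autoImplicit false
open Polynomial TensorProduct

namespace Groth.Agent.H27.CoeffField

universe u

theorem exists_psi {p : ℕ} (hp : p.Prime) {E k : Type u} [CommRing E] [Field k] (π : E →+* k)
    (hπ : Function.Surjective π) (hpE : (p : E) = 0)
    (hsq : ∀ a b : E, π a = 0 → π b = 0 → a * b = 0) :
    ∃ ψ : k →+* E, ∀ e : E, ψ (π e) = e ^ p := by
  classical
  haveI : Fact p.Prime := ⟨hp⟩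
  haveI : Nontrivial E := nontrivial_of_surj π
  haveI : CharP E p := charP_of_prime_cast_zero hp hpE
  obtain ⟨q, hq⟩ : ∃ q, p = q + 2 := ⟨p - 2, by have := hp.two_le; omega⟩
  have key : ∀ e : E, (Function.surjInv hπ (π e)) ^ p = e ^ p := by
    intro e
    obtain ⟨d, hd⟩ : ∃ d, Function.surjInv hπ (π e) = e + d := ⟨_ - e, by ring⟩
    have hd0 : π d = 0 := by
      have h1 := Function.surjInv_eq hπ (π e)
      rw [hd, map_add] at h1
      simpa using h1
    have hdd : d ^ p = 0 := by
      rw [hq, pow_add, pow_two, hsq d d hd0 hd0, mul_zero]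
    rw [hd, add_pow_char, hdd, add_zero]
  refine ⟨{ toFun := fun x => (Function.surjInv hπ x) ^ p, map_one' := ?_, map_mul' := ?_,
            map_zero' := ?_, map_add' := ?_ }, fun e => key e⟩
  · have := key 1; simpa using this
  · intro x y
    obtain ⟨a, rfl⟩ := hπ x; obtain ⟨b, rfl⟩ := hπ y
    show (Function.surjInv hπ (π a * π b)) ^ p = _
    rw [← map_mul, key, key, key, mul_pow]
  · have := key 0; simpa [zero_pow hp.ne_zero] using this
  · intro x y
    obtain ⟨a, rfl⟩ := hπ x; obtain ⟨b, rfl⟩ := hπ y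
    show (Function.surjInv hπ (π a + π b)) ^ p = _
    rw [← map_add, key, key, key, add_pow_char]

/-- Relative case: `κ'/κ` geometrically reduced. -/
theorem hsep_geomReduced {p : ℕ} (hp : p.Prime) {κ κ' : Type u} [Field κ] [Field κ'] [Algebra κ κ']
    [Algebra.IsGeometricallyReduced κ κ'] (E : Type u) [CommRing E] (π : E →+* κ') (t : κ →+* E)
    (hπ : Function.Surjective π) (hpE : (p : E) = 0)
    (hsq : ∀ a b : E, π a = 0 → π b = 0 → a * b = 0) (ht : π.comp t = algebraMap κ κ') :
    ∀ a ∈ Subring.closure (Set.range t ∪ Set.range (fun e : E => e ^ p)), π a = 0 → a = 0 := by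
  classical
  haveI : Fact p.Prime := ⟨hp⟩
  haveI : Nontrivial E := nontrivial_of_surj π
  haveI : CharP E p := charP_of_prime_cast_zero hp hpE
  have hpκ : (p : κ) = 0 := by
    apply t.injective
    rw [map_natCast, hpE, map_zero]
  haveI : CharP κ p := charP_of_prime_cast_zero hp hpκ
  obtain ⟨ψ, hψ⟩ := exists_psi hp π hπ hpE hsq
  letI : Algebra κ E := t.toAlgebra
  have halg : ∀ r : κ, algebraMap κ E r = t r := fun r => rfl
  have hψι : ∀ r : κ, ψ (algebraMap κ κ' r) = t (r ^ p) := by
    intro r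
    have h1 : algebraMap κ κ' r = π (t r) := by rw [← ht]; rfl
    rw [h1, hψ, map_pow]
  have hπψ : ∀ b : κ', π (ψ b) = b ^ p := by
    intro b
    obtain ⟨e, rfl⟩ := hπ b
    rw [hψ, map_pow]
  haveI : CharP (AlgebraicClosure κ) p :=
    charP_of_injective_algebraMap (algebraMap κ (AlgebraicClosure κ)).injective p
  haveI : Nontrivial (AlgebraicClosure κ ⊗[κ] κ') :=
    (Algebra.TensorProduct.includeRight_injective (R := κ) (A := AlgebraicClosure κ) (B := κ')
      (algebraMap κ (AlgebraicClosure κ)).injective).nontrivial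
  haveI : CharP (AlgebraicClosure κ ⊗[κ] κ') p := by
    apply charP_of_prime_cast_zero hp
    rw [← map_natCast (algebraMap κ (AlgebraicClosure κ ⊗[κ] κ')) p, hpκ, map_zero]
  let f : AlgebraicClosure κ →+ κ' →+ AlgebraicClosure κ ⊗[κ] E :=
    { toFun := fun ω =>
        { toFun := fun b => (ω ^ p) ⊗ₜ[κ] ψ b
          map_zero' := by simp
          map_add' := fun b b' => by simp [tmul_add] }
      map_zero' := by ext b; simp [zero_pow hp.ne_zero]
      map_add' := fun ω ω' => by ext b; simp [add_pow_char, add_tmul] }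
  have hfapp : ∀ ω b, f ω b = (ω ^ p) ⊗ₜ[κ] ψ b := fun ω b => rfl
  have hf : ∀ (r : κ) (ω : AlgebraicClosure κ) (b : κ'), f (r • ω) b = f ω (r • b) := by
    intro r ω b
    rw [hfapp, hfapp, Algebra.smul_def r b, map_mul, hψι, ← halg, ← Algebra.smul_def, tmul_smul,
      _root_.smul_pow, smul_tmul']
  let Ψ : AlgebraicClosure κ ⊗[κ] κ' →+ AlgebraicClosure κ ⊗[κ] E := TensorProduct.liftAddHom f hf
  have hΨt : ∀ ω b, Ψ (ω ⊗ₜ[κ] b) = (ω ^ p) ⊗ₜ[κ] ψ b := fun ω b =>
    TensorProduct.liftAddHom_tmul f hf ω b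
  have hΨmul : ∀ u v, Ψ (u * v) = Ψ u * Ψ v := by
    intro u v
    induction u using TensorProduct.induction_on with
    | zero => simp
    | tmul ω b =>
      induction v using TensorProduct.induction_on with
      | zero => simp
      | tmul ω' b' =>
        rw [Algebra.TensorProduct.tmul_mul_tmul, hΨt, hΨt, hΨt, Algebra.TensorProduct.tmul_mul_tmul,
          mul_pow, map_mul]
      | add x y hx hy => rw [mul_add, map_add, hx, hy, map_add, mul_add]
    | add x y hx hy => rw [add_mul, map_add, hx, hy, map_add, add_mul]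
  have hΨone : Ψ 1 = 1 := by
    rw [Algebra.TensorProduct.one_def, hΨt, one_pow, map_one, Algebra.TensorProduct.one_def]
  let πl : E →ₗ[κ] κ' :=
    { toFun := π
      map_add' := map_add π
      map_smul' := fun r e => by
        show π (r • e) = r • π e
        rw [Algebra.smul_def, Algebra.smul_def, map_mul, halg]
        congr 1
        exact RingHom.congr_fun ht r }
  have hPiPsi : ∀ u, (LinearMap.lTensor (AlgebraicClosure κ) πl) (Ψ u) = u ^ p := by
    intro u
    induction u using TensorProduct.induction_on with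
    | zero => simp [zero_pow hp.ne_zero]
    | tmul ω b =>
      rw [hΨt, LinearMap.lTensor_tmul, Algebra.TensorProduct.tmul_pow]
      congr 1
      exact hπψ b
    | add x y hx hy => rw [map_add, map_add, hx, hy, add_pow_char]
  have key : ∀ a ∈ Subring.closure (Set.range t ∪ Set.range (fun e : E => e ^ p)),
      ∃ u, Ψ u = (1 : AlgebraicClosure κ) ⊗ₜ[κ] a := by
    intro a ha
    induction ha using Subring.closure_induction with
    | mem x hx =>
      rcases hx with ⟨r, rfl⟩ | ⟨e, rfl⟩
      · obtain ⟨α, hα⟩ := IsAlgClosed.exists_pow_nat_eq (algebraMap κ (AlgebraicClosure κ) r) hp.pos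
        refine ⟨α ⊗ₜ[κ] 1, ?_⟩
        rw [hΨt, hα, map_one, Algebra.algebraMap_eq_smul_one, smul_tmul, ← halg,
          Algebra.algebraMap_eq_smul_one]
      · refine ⟨1 ⊗ₜ[κ] π e, ?_⟩
        rw [hΨt, one_pow, hψ]
    | zero => exact ⟨0, by rw [map_zero, tmul_zero]⟩
    | one => exact ⟨1, by rw [hΨone, Algebra.TensorProduct.one_def]⟩
    | add x y _ _ hx hy =>
      obtain ⟨u, hu⟩ := hx; obtain ⟨v, hv⟩ := hy
      exact ⟨u + v, by rw [map_add, hu, hv, tmul_add]⟩
    | neg x _ hx =>
      obtain ⟨u, hu⟩ := hx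
      exact ⟨-u, by rw [map_neg, hu, tmul_neg]⟩
    | mul x y _ _ hx hy =>
      obtain ⟨u, hu⟩ := hx; obtain ⟨v, hv⟩ := hy
      exact ⟨u * v, by rw [hΨmul, hu, hv, Algebra.TensorProduct.tmul_mul_tmul, one_mul]⟩
  intro a ha ha0
  obtain ⟨u, hu⟩ := key a ha
  have h1 : u ^ p = 0 := by
    rw [← hPiPsi, hu, LinearMap.lTensor_tmul]
    show (1 : AlgebraicClosure κ) ⊗ₜ[κ] π a = 0
    rw [ha0, tmul_zero]
  have h2 : u = 0 := IsReduced.eq_zero u ⟨p, h1⟩
  rw [h2, map_zero] at hu
  have h3 : (Algebra.TensorProduct.includeRight : E →ₐ[κ] AlgebraicClosure κ ⊗[κ] E) a = 0 := by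
    rw [Algebra.TensorProduct.includeRight_apply]; exact hu.symm
  exact (injective_iff_map_eq_zero _).mp
    (Algebra.TensorProduct.includeRight_injective (R := κ) (A := AlgebraicClosure κ) (B := E)
      (algebraMap κ (AlgebraicClosure κ)).injective) a h3

end Groth.Agent.H27.CoeffField
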