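import Mathlib
import Groth.Agent.H27.CoeffField
import Groth.Agent.H27.CoeffFieldSep

/-!
# Formal smoothness of separable field extensions, and consequences

* `formallySmooth_zmod`: every field of characteristic `p` is formally smooth over `ZMod p`.
* `formallySmooth_of_geomReduced`: a geometrically reduced (= separable) field extension is formally smooth.
* `formallySmooth_of_charZero`: every extension of fields of characteristic zero is formally smooth.
* `maximalIdeal_eq_bot`: a local ring with nilpotent maximal ideal, formally smooth over `F`, whose residue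
  field is formally smooth over `F`, is a field.
* `maximalIdeal_eq_bot_of_field`: a local ring with nilpotent maximal ideal which is formally smooth over a
  field is a field.
-/

set_option autoImplicit false

universe u v w

namespace Groth.Agent.H27.FieldSmooth

open Groth.Agent.H27.CoeffField

theorem formallySmooth_of_hsep {p : ℕ} (hp : p.Prime) {k₀ : Type w} {K : Type (max w u)}
    [Field k₀] [Field K] [Algebra k₀ K] (hpK : (p : K) = 0)
    (hsep : ∀ (E : Type (max w u)) [CommRing E] (π : E →+* K) (t : k₀ →+* E), Function.Surjective π →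
      (p : E) = 0 → (∀ a b : E, π a = 0 → π b = 0 → a * b = 0) → π.comp t = algebraMap k₀ K →
      ∀ a ∈ Subring.closure (Set.range t ∪ Set.range (fun e : E => e ^ p)), π a = 0 → a = 0) :
    Algebra.FormallySmooth k₀ K := by
  apply Algebra.FormallySmooth.of_comp_surjective
  intro B _ _ I hI g
  let P : Subring (B × K) :=
    { carrier := {x | Ideal.Quotient.mk I x.1 = g x.2}
      mul_mem' := by
        intro a b ha hb
        simp only [Set.mem_setOf_eq, Prod.fst_mul, Prod.snd_mul, map_mul] at ha hb ⊢
        rw [ha, hb]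
      one_mem' := by simp
      add_mem' := by
        intro a b ha hb
        simp only [Set.mem_setOf_eq, Prod.fst_add, Prod.snd_add, map_add] at ha hb ⊢
        rw [ha, hb]
      zero_mem' := by simp
      neg_mem' := by
        intro a ha
        simp only [Set.mem_setOf_eq, Prod.fst_neg, Prod.snd_neg, map_neg] at ha ⊢
        rw [ha] }
  have hP : ∀ x : P, Ideal.Quotient.mk I (x : B × K).1 = g (x : B × K).2 := fun x => x.2
  let π : P →+* K := (RingHom.snd B K).comp P.subtype
  let t : k₀ →+* P := RingHom.codRestrict (RingHom.prod (algebraMap k₀ B) (algebraMap k₀ K)) P (by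
    intro c
    show Ideal.Quotient.mk I (algebraMap k₀ B c) = g (algebraMap k₀ K c)
    rw [g.commutes]; rfl)
  have hπ : Function.Surjective π := by
    intro x
    obtain ⟨b, hb⟩ := Ideal.Quotient.mk_surjective (g x)
    exact ⟨⟨(b, x), hb⟩, rfl⟩
  have hpk : (p : k₀) = 0 := by
    apply (algebraMap k₀ K).injective
    rw [map_natCast, hpK, map_zero]
  have hB : (p : B) = 0 := by rw [← map_natCast (algebraMap k₀ B), hpk, map_zero]
  have hpP : (p : P) = 0 := by
    apply Subtype.ext
    exact Prod.ext (by simp [hB]) (by simp [hpK])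
  have hsq : ∀ a b : P, π a = 0 → π b = 0 → a * b = 0 := by
    intro a b ha hb
    have ha2 : (a : B × K).2 = 0 := ha
    have hb2 : (b : B × K).2 = 0 := hb
    have ha1 : (a : B × K).1 ∈ I := by
      rw [← Ideal.Quotient.eq_zero_iff_mem, hP a, ha2, map_zero]
    have hb1 : (b : B × K).1 ∈ I := by
      rw [← Ideal.Quotient.eq_zero_iff_mem, hP b, hb2, map_zero]
    apply Subtype.ext
    apply Prod.ext
    · show (a : B × K).1 * (b : B × K).1 = 0
      have : (a : B × K).1 * (b : B × K).1 ∈ I ^ 2 := by
        rw [pow_two]; exact Ideal.mul_mem_mul ha1 hb1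
      rw [hI] at this
      simpa using this
    · show (a : B × K).2 * (b : B × K).2 = 0
      rw [ha2, zero_mul]
  have hker : RingHom.ker π ^ 2 = ⊥ := by
    rw [eq_bot_iff, pow_two, Ideal.mul_le]
    intro a ha b hb
    rw [hsq a b ha hb]
    exact Submodule.zero_mem _
  have ht : π.comp t = algebraMap k₀ K := by ext c; rfl
  obtain ⟨s, hs1, hs2⟩ := section_of_nilpotent hp (algebraMap k₀ K) hsep 2 P π t hπ hpP hker ht
  refine ⟨{ toRingHom := (RingHom.fst B K).comp (P.subtype.comp s), commutes' := ?_ }, ?_⟩
  · intro c
    have h : s (algebraMap k₀ K c) = t c := RingHom.congr_fun hs2 c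
    show ((s (algebraMap k₀ K c) : P) : B × K).1 = algebraMap k₀ B c
    rw [h]; rfl
  · apply AlgHom.ext
    intro x
    show Ideal.Quotient.mk I ((s x : P) : B × K).1 = g x
    rw [hP (s x)]
    have h : π (s x) = x := RingHom.congr_fun hs1 x
    exact congrArg g h

/-- Every field of characteristic `p` is formally smooth over `ZMod p`. -/
theorem formallySmooth_zmod (p : ℕ) [hp : Fact p.Prime] (K : Type u) [Field K] [Algebra (ZMod p) K] :
    Algebra.FormallySmooth (ZMod p) K := by
  have hpK : (p : K) = 0 := by
    rw [← map_natCast (algebraMap (ZMod p) K), ZMod.natCast_self, map_zero]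
  exact formallySmooth_of_hsep.{u, 0} hp.out hpK
    (fun E _ π t hπ hpE hsq ht => hsep_zmod hp.out E π t hpE hsq)

/-- A geometrically reduced extension of fields of characteristic `p` is formally smooth. -/
theorem formallySmooth_of_geomReduced_charP {p : ℕ} (hp : p.Prime) {k K : Type u} [Field k] [Field K]
    [Algebra k K] [Algebra.IsGeometricallyReduced k K] (hpk : (p : k) = 0) :
    Algebra.FormallySmooth k K := by
  have hpK : (p : K) = 0 := by rw [← map_natCast (algebraMap k K), hpk, map_zero]
  exact formallySmooth_of_hsep.{u, u} hp hpK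
    (fun E _ π t hπ hpE hsq ht => hsep_geomReduced hp E π t hπ hpE hsq ht)

/-- Every extension of fields of characteristic zero is formally smooth. -/
theorem formallySmooth_of_charZero (k : Type u) (K : Type v) [Field k] [Field K] [Algebra k K]
    [CharZero k] : Algebra.FormallySmooth k K := by
  obtain ⟨B, hB⟩ := exists_isTranscendenceBasis k K
  haveI : CharZero K := charZero_of_injective_algebraMap (algebraMap k K).injective
  haveI : Algebra.IsAlgebraic (IntermediateField.adjoin k (Set.range ((↑) : B → K))) K :=
    hB.isAlgebraic_field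
  haveI : Algebra.IsSeparable (IntermediateField.adjoin k (Set.range ((↑) : B → K))) K :=
    inferInstance
  exact .of_algebraicIndependent_of_isSeparable hB.1

/-- A geometrically reduced (i.e. separable) extension of fields is formally smooth. -/
theorem formallySmooth_of_geomReduced {k K : Type u} [Field k] [Field K] [Algebra k K]
    [Algebra.IsGeometricallyReduced k K] : Algebra.FormallySmooth k K := by
  obtain ⟨p, hc⟩ := CharP.exists k
  rcases CharP.char_is_prime_or_zero k p with hp | rfl
  · exact formallySmooth_of_geomReduced_charP hp (CharP.cast_eq_zero k p)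
  · haveI := CharP.charP_to_charZero k
    exact formallySmooth_of_charZero k K

open IsLocalRing Polynomial in
/-- A local ring with nilpotent maximal ideal which is formally smooth over `F`, and whose residue field
is formally smooth over `F`, is a field. -/
theorem maximalIdeal_eq_bot {F : Type w} {S : Type v} [CommRing F] [CommRing S] [IsLocalRing S]
    [Algebra F S] [Algebra.FormallySmooth F S] [Algebra.FormallySmooth F (ResidueField S)]
    (hnil : IsNilpotent (maximalIdeal S)) : maximalIdeal S = ⊥ := by
  classical
  by_contra hne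
  obtain ⟨N, hN⟩ := hnil
  rw [Ideal.zero_eq_bot] at hN
  -- Step 1: a coefficient field
  let g₀ : ResidueField S →ₐ[F] S ⧸ maximalIdeal S :=
    { toRingHom := RingHom.id _, commutes' := fun r => rfl }
  obtain ⟨s, hs⟩ := Algebra.FormallySmooth.exists_lift (maximalIdeal S)
    ⟨N, by rw [Ideal.zero_eq_bot]; exact hN⟩ g₀
  have hs' : ∀ a : ResidueField S, residue S (s a) = a := fun a => AlgHom.congr_fun hs a
  -- Step 2: an element of `m \ m²`
  obtain ⟨x, hx, hx2⟩ : ∃ x ∈ maximalIdeal S, x ∉ maximalIdeal S ^ 2 := by
    by_contra hcon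
    push_neg at hcon
    have hle : maximalIdeal S ≤ maximalIdeal S ^ 2 := fun x hx => hcon x hx
    have hall : ∀ j : ℕ, maximalIdeal S ≤ maximalIdeal S ^ (j + 1) := by
      intro j
      induction j with
      | zero => simp
      | succ j ih =>
        calc maximalIdeal S ≤ maximalIdeal S ^ 2 := hle
          _ = maximalIdeal S * maximalIdeal S := pow_two _
          _ ≤ maximalIdeal S ^ (j + 1) * maximalIdeal S := Ideal.mul_mono_left ih
          _ = maximalIdeal S ^ (j + 1 + 1) := (pow_succ _ _).symm
    apply hne
    rw [eq_bot_iff]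
    calc maximalIdeal S ≤ maximalIdeal S ^ (N + 1) := hall N
      _ ≤ maximalIdeal S ^ N := Ideal.pow_le_pow_right (Nat.le_succ N)
      _ = ⊥ := hN
  -- Step 3: a functional on the cotangent space
  have hv : (maximalIdeal S).toCotangent ⟨x, hx⟩ ≠ 0 := by
    intro h0
    exact hx2 (((maximalIdeal S).toCotangent_eq_zero ⟨x, hx⟩).mp h0)
  obtain ⟨φ, hφ⟩ : ∃ φ : Module.Dual (ResidueField S) (maximalIdeal S).Cotangent,
      φ ((maximalIdeal S).toCotangent ⟨x, hx⟩) ≠ 0 := by
    by_contra hcon
    push_neg at hcon
    exact hv ((Module.forall_dual_apply_eq_zero_iff (ResidueField S) _).mp hcon)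
  -- Step 4: the derivation
  have hmem : ∀ c : S, c - s (residue S c) ∈ maximalIdeal S := by
    intro c
    rw [← residue_eq_zero_iff, map_sub, hs', sub_self]
  obtain ⟨d, hd⟩ : ∃ d : S → ResidueField S, ∀ c, d c =
      φ ((maximalIdeal S).toCotangent ⟨c - s (residue S c), hmem c⟩) := ⟨_, fun _ => rfl⟩
  have hsm : ∀ (c : S) (w : (maximalIdeal S).Cotangent), c • w = (residue S c) • w :=
    fun c w => (algebraMap_smul (ResidueField S) c w).symm
  have d_add : ∀ c c', d (c + c') = d c + d c' := by
    intro c c'
    have e : (⟨c + c' - s (residue S (c + c')), hmem _⟩ : maximalIdeal S) =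
        ⟨c - s (residue S c), hmem c⟩ + ⟨c' - s (residue S c'), hmem c'⟩ := by
      apply Subtype.ext
      show c + c' - s (residue S (c + c')) = (c - s (residue S c)) + (c' - s (residue S c'))
      rw [map_add, map_add]; ring
    rw [hd, hd, hd, e, map_add, map_add]
  have d_mul : ∀ c c', d (c * c') = residue S c * d c' + residue S c' * d c := by
    intro c c'
    have e : (⟨c * c' - s (residue S (c * c')), hmem _⟩ : maximalIdeal S) =
        c' • ⟨c - s (residue S c), hmem c⟩ + s (residue S c) • ⟨c' - s (residue S c'), hmem c'⟩ := by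
      apply Subtype.ext
      show c * c' - s (residue S (c * c')) =
        c' * (c - s (residue S c)) + s (residue S c) * (c' - s (residue S c'))
      rw [map_mul, map_mul]; ring
    rw [hd, hd, hd, e, map_add, map_smul, map_smul, hsm, hsm, hs', map_add, map_smul, map_smul,
      smul_eq_mul, smul_eq_mul]
    ring
  have d_s : ∀ a : ResidueField S, d (s a) = 0 := by
    intro a
    have e : (⟨s a - s (residue S (s a)), hmem _⟩ : maximalIdeal S) = 0 := by
      apply Subtype.ext
      show s a - s (residue S (s a)) = 0
      rw [hs', sub_self]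
    rw [hd, e, map_zero, map_zero]
  have hx0 : residue S x = 0 := (residue_eq_zero_iff x).mpr hx
  have d_x : d x ≠ 0 := by
    have e : (⟨x - s (residue S x), hmem _⟩ : maximalIdeal S) = ⟨x, hx⟩ := by
      apply Subtype.ext
      show x - s (residue S x) = x
      rw [hx0, map_zero, sub_zero]
    rw [hd, e]
    exact hφ
  -- Step 5: the truncated polynomial ring
  let J : Ideal (ResidueField S)[X] := Ideal.span {X ^ (N + 2)}
  let I : Ideal ((ResidueField S)[X] ⧸ J) := Ideal.map (Ideal.Quotient.mk J) (Ideal.span {X ^ 2})
  have hInil : IsNilpotent I := by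
    refine ⟨N + 2, ?_⟩
    rw [Ideal.zero_eq_bot, eq_bot_iff]
    show (Ideal.map (Ideal.Quotient.mk J) (Ideal.span {X ^ 2})) ^ (N + 2) ≤ ⊥
    rw [← Ideal.map_pow, Ideal.span_singleton_pow, Ideal.map_le_iff_le_comap,
      Ideal.span_singleton_le_iff_mem, Ideal.mem_comap, Ideal.mem_bot,
      Ideal.Quotient.eq_zero_iff_mem, Ideal.mem_span_singleton]
    exact ⟨X ^ (N + 2), by rw [← pow_mul, ← pow_add]; congr 1; ring⟩
  let q : (ResidueField S)[X] →+* ((ResidueField S)[X] ⧸ J) ⧸ I :=
    (Ideal.Quotient.mk I).comp (Ideal.Quotient.mk J)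
  have hq : ∀ P Q : (ResidueField S)[X], X ^ 2 ∣ P - Q → q P = q Q := by
    intro P Q h
    show Ideal.Quotient.mk I (Ideal.Quotient.mk J P) = Ideal.Quotient.mk I (Ideal.Quotient.mk J Q)
    rw [Ideal.Quotient.eq, ← map_sub]
    exact Ideal.mem_map_of_mem _ (Ideal.mem_span_singleton.mpr h)
  have d_one : d 1 = 0 := by have := d_s 1; rwa [map_one] at this
  have d_zero : d 0 = 0 := by have := d_s 0; rwa [map_zero] at this
  let g : S →ₐ[F] ((ResidueField S)[X] ⧸ J) ⧸ I :=
    { toFun := fun c => q (C (residue S c) + C (d c) * X)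
      map_one' := by
        show q (C (residue S 1) + C (d 1) * X) = 1
        rw [d_one, map_one, map_one, map_zero, zero_mul, add_zero, map_one]
      map_mul' := by
        intro c c'
        show q _ = q _ * q _
        rw [← map_mul]
        apply hq
        rw [d_mul, map_mul]
        refine ⟨- C (d c * d c'), ?_⟩
        simp only [map_mul, map_add]
        ring
      map_zero' := by
        show q (C (residue S 0) + C (d 0) * X) = 0
        rw [d_zero, map_zero, map_zero, zero_mul, add_zero, map_zero]
      map_add' := by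
        intro c c'
        show q _ = q _ + q _
        rw [← map_add, d_add, map_add (residue S)]
        congr 1
        simp only [map_add]; ring
      commutes' := by
        intro r
        show q (C (residue S (algebraMap F S r)) + C (d (algebraMap F S r)) * X) =
          algebraMap F (((ResidueField S)[X] ⧸ J) ⧸ I) r
        have h1 : algebraMap F S r = s (algebraMap F (ResidueField S) r) := (s.commutes r).symm
        have h2 : d (algebraMap F S r) = 0 := by rw [h1]; exact d_s _
        rw [h2, map_zero, zero_mul, add_zero]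
        rfl }
  -- Step 6: lift and conclude
  obtain ⟨f, hf⟩ := Algebra.FormallySmooth.exists_lift I hInil g
  have hfx : Ideal.Quotient.mk I (f x) = q (C (d x) * X) := by
    have h := AlgHom.congr_fun hf x
    calc Ideal.Quotient.mk I (f x) = g x := h
      _ = q (C (residue S x) + C (d x) * X) := rfl
      _ = q (C (d x) * X) := by rw [hx0, map_zero, zero_add]
  obtain ⟨P0, hP0⟩ := Ideal.Quotient.mk_surjective (f x)
  have hmemI : Ideal.Quotient.mk J (P0 - C (d x) * X) ∈ I := by
    rw [map_sub, hP0, ← Ideal.Quotient.eq]; exact hfx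
  obtain ⟨W, hW, hWeq⟩ := (Ideal.mem_map_iff_of_surjective _ Ideal.Quotient.mk_surjective).mp hmemI
  obtain ⟨Q, rfl⟩ := Ideal.mem_span_singleton.mp hW
  have hJ : P0 - C (d x) * X - X ^ 2 * Q ∈ J := by
    rw [← Ideal.Quotient.eq]; exact hWeq.symm
  obtain ⟨T, hT⟩ := Ideal.mem_span_singleton.mp hJ
  have hxN : x ^ N = 0 := by
    have : x ^ N ∈ maximalIdeal S ^ N := Ideal.pow_mem_pow hx N
    rw [hN] at this; simpa using this
  have h0 : Ideal.Quotient.mk J (P0 ^ N) = 0 := by
    rw [map_pow, hP0, ← map_pow, hxN, map_zero]
  obtain ⟨T2, hT2⟩ := Ideal.mem_span_singleton.mp (Ideal.Quotient.eq_zero_iff_mem.mp h0)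
  have hP0' : P0 = X * (C (d x) + X * (Q + X ^ N * T)) := by
    have : P0 = C (d x) * X + X ^ 2 * Q + X ^ (N + 2) * T := by rw [← hT]; ring
    rw [this]; ring
  rw [hP0', mul_pow, pow_add, mul_assoc] at hT2
  have h2 : (X : (ResidueField S)[X]) ^ 2 ∣ (C (d x) + X * (Q + X ^ N * T)) ^ N :=
    ⟨T2, mul_left_cancel₀ (pow_ne_zero N X_ne_zero) hT2⟩
  have h3 : (X : (ResidueField S)[X]) ∣ (C (d x) + X * (Q + X ^ N * T)) ^ N :=
    dvd_trans (dvd_pow_self X two_ne_zero) h2
  have h4 : (X : (ResidueField S)[X]) ∣ C (d x) + X * (Q + X ^ N * T) :=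
    Polynomial.prime_X.dvd_of_dvd_pow h3
  have h5 : (X : (ResidueField S)[X]) ∣ C (d x) := (dvd_add_left (dvd_mul_right X _)).mp h4
  have h6 := Polynomial.X_dvd_iff.mp h5
  rw [Polynomial.coeff_C_zero] at h6
  exact d_x h6

open IsLocalRing in
/-- A local ring with nilpotent maximal ideal which is formally smooth over a field is a field. -/
theorem maximalIdeal_eq_bot_of_field {k : Type u} {S : Type v} [Field k] [CommRing S] [IsLocalRing S]
    [Algebra k S] [Algebra.FormallySmooth k S] (hnil : IsNilpotent (maximalIdeal S)) :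
    maximalIdeal S = ⊥ := by
  obtain ⟨p, hc⟩ := CharP.exists k
  rcases CharP.char_is_prime_or_zero k p with hp | rfl
  · haveI : Fact p.Prime := ⟨hp⟩
    letI : Algebra (ZMod p) k := ZMod.algebra k p
    letI : Algebra (ZMod p) S := ((algebraMap k S).comp (algebraMap (ZMod p) k)).toAlgebra
    haveI : IsScalarTower (ZMod p) k S := IsScalarTower.of_algebraMap_eq' rfl
    haveI : Algebra.FormallySmooth (ZMod p) k := formallySmooth_zmod p k
    haveI : Algebra.FormallySmooth (ZMod p) S := Algebra.FormallySmooth.comp (ZMod p) k S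
    haveI : Algebra.FormallySmooth (ZMod p) (ResidueField S) := formallySmooth_zmod p _
    exact maximalIdeal_eq_bot (F := ZMod p) hnil
  · haveI := CharP.charP_to_charZero k
    letI : Algebra ℚ S := ((algebraMap k S).comp (algebraMap ℚ k)).toAlgebra
    haveI : IsScalarTower ℚ k S := IsScalarTower.of_algebraMap_eq' rfl
    haveI : Algebra.FormallySmooth ℚ k := formallySmooth_of_charZero ℚ k
    haveI : Algebra.FormallySmooth ℚ S := Algebra.FormallySmooth.comp ℚ k S
    haveI : Algebra.FormallySmooth ℚ (ResidueField S) := formallySmooth_of_charZero ℚ _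
    exact maximalIdeal_eq_bot (F := ℚ) hnil

end Groth.Agent.H27.FieldSmooth
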