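import Groth.Prelude.Def_W4c1tameactTame
import Mathlib.RingTheory.HopfAlgebra.Convolution
import Mathlib.RingTheory.Bialgebra.TensorProduct
import Mathlib.RingTheory.Ideal.Maps
import Mathlib.RingTheory.Ideal.Maximal
import Mathlib.Tactic

/-!
# Total integrals and the Reynolds operator (helper27 library)

`comul_antipode`: the antipode of a commutative Hopf algebra is anti-comultiplicative.
`coact_reynolds`: the Reynolds operator of a total integral lands in the invariants.
-/

set_option autoImplicit false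
universe u v w w' w''
open TensorProduct

namespace Groth.Agent.H27.HopfInt

section antipode

variable (k : Type u) [CommRing k] (A : Type v) [CommRing A] [HopfAlgebra k A]

theorem comul_antipode (a : A) :
    Coalgebra.comul (R := k) (HopfAlgebra.antipode k a) =
      TensorProduct.map (HopfAlgebra.antipode k) (HopfAlgebra.antipode k)
        (TensorProduct.comm k A A (Coalgebra.comul (R := k) a)) := by
  let D : WithConv (A →ₐ[k] A ⊗[k] A) := WithConv.toConv (Bialgebra.comulAlgHom k A)
  let L : WithConv (A →ₐ[k] A ⊗[k] A) := WithConv.toConv Algebra.TensorProduct.includeLeft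
  let Rr : WithConv (A →ₐ[k] A ⊗[k] A) := WithConv.toConv Algebra.TensorProduct.includeRight
  have hid : (Algebra.TensorProduct.lmul' k).comp
      (Algebra.TensorProduct.map (Algebra.TensorProduct.includeLeft : A →ₐ[k] A ⊗[k] A)
        (Algebra.TensorProduct.includeRight : A →ₐ[k] A ⊗[k] A)) = AlgHom.id k (A ⊗[k] A) := by
    ext <;> simp
  have hD : D = L * Rr := by
    rw [AlgHom.convMul_def]
    show WithConv.toConv (Bialgebra.comulAlgHom k A) = WithConv.toConv _
    congr 1
    rw [← AlgHom.comp_assoc]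
    erw [hid]
    rw [AlgHom.id_comp]
  have hinv : D⁻¹ = Rr⁻¹ * L⁻¹ := by rw [hD]; exact mul_inv_rev L Rr
  have h1 := congrArg (fun f => f.ofConv a) hinv
  have h2 : ∀ t : A ⊗[k] A, (Algebra.TensorProduct.lmul' k)
      (Algebra.TensorProduct.map (Rr⁻¹).ofConv (L⁻¹).ofConv t) =
      TensorProduct.map (HopfAlgebra.antipode k) (HopfAlgebra.antipode k)
        (TensorProduct.comm k A A t) := by
    intro t
    induction t using TensorProduct.induction_on with
    | zero => simp
    | tmul x y =>
      show (Algebra.TensorProduct.lmul' k) (((Algebra.TensorProduct.includeRight :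
        A →ₐ[k] A ⊗[k] A).comp (HopfAlgebra.antipodeAlgHom k A) x) ⊗ₜ
        ((Algebra.TensorProduct.includeLeft : A →ₐ[k] A ⊗[k] A).comp
          (HopfAlgebra.antipodeAlgHom k A) y)) = _
      simp
    | add x y hx hy => simp only [map_add, hx, hy]
  have h3 := h2 (Coalgebra.comul (R := k) a)
  rw [← h3]
  exact h1

end antipode

section core

variable {k : Type u} [CommRing k] {A : Type v} [CommRing A] [HopfAlgebra k A]
variable {B : Type w} [CommRing B] [Algebra k B] [HopfRep.Comod k A B] [GLin.IsCoactAlg k A B]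

/-- `ρ_B(α(S y)) = Σ α(S y₂) ⊗ S y₁`. -/
theorem coact_alpha_antipode (α : A →ₗ[k] B) (hα : Hoch.IsComodHom A α) (y : A) :
    HopfRep.Comod.coact (k := k) (A := A) (α (HopfAlgebra.antipode k y)) =
      TensorProduct.map (α ∘ₗ HopfAlgebra.antipode k) (HopfAlgebra.antipode k)
        (TensorProduct.comm k A A (Coalgebra.comul (R := k) y)) := by
  have h := LinearMap.congr_fun hα (HopfAlgebra.antipode k y)
  simp only [LinearMap.comp_apply] at h
  rw [h]
  show α.rTensor A (Coalgebra.comul (R := k) (HopfAlgebra.antipode k y)) = _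
  rw [comul_antipode]
  generalize (TensorProduct.comm k A A) (Coalgebra.comul (R := k) y) = t
  induction t using TensorProduct.induction_on with
  | zero => simp
  | tmul x y => simp
  | add x y hx hy => simp only [map_add, hx, hy]

/-- `x ⊗ y ↦ ρ_B(α(S y)) * (1 ⊗ x)` -/
noncomputable def Pmap (α : A →ₗ[k] B) : A ⊗[k] A →ₗ[k] B ⊗[k] A :=
  LinearMap.mul' k (B ⊗[k] A) ∘ₗ
    TensorProduct.map (HopfRep.Comod.coact (k := k) (A := A) ∘ₗ α ∘ₗ HopfAlgebra.antipode k)
      (Algebra.TensorProduct.includeRight : A →ₐ[k] B ⊗[k] A).toLinearMap ∘ₗ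
    (TensorProduct.comm k A A).toLinearMap

theorem Pmap_tmul (α : A →ₗ[k] B) (x y : A) :
    Pmap α (x ⊗ₜ[k] y) =
      HopfRep.Comod.coact (k := k) (A := A) (α (HopfAlgebra.antipode k y)) * ((1 : B) ⊗ₜ[k] x) := by
  simp [Pmap]

/-- `x ⊗ (y₁ ⊗ y₂) ↦ α(S y₂) ⊗ (x * S y₁)` -/
noncomputable def Qmap (α : A →ₗ[k] B) : A ⊗[k] (A ⊗[k] A) →ₗ[k] B ⊗[k] A :=
  (TensorProduct.comm k A B).toLinearMap ∘ₗ
    TensorProduct.map (LinearMap.mul' k A ∘ₗ (HopfAlgebra.antipode k).lTensor A)
      (α ∘ₗ HopfAlgebra.antipode k) ∘ₗ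
    (TensorProduct.assoc k A A A).symm.toLinearMap

theorem Qmap_tmul (α : A →ₗ[k] B) (x y₁ y₂ : A) :
    Qmap α (x ⊗ₜ[k] (y₁ ⊗ₜ[k] y₂)) =
      α (HopfAlgebra.antipode k y₂) ⊗ₜ[k] (x * HopfAlgebra.antipode k y₁) := by
  simp [Qmap]

theorem Pmap_comul (α : A →ₗ[k] B) (hα : Hoch.IsComodHom A α) (a : A) :
    Pmap α (Coalgebra.comul (R := k) a) = α (HopfAlgebra.antipode k a) ⊗ₜ[k] (1 : A) := by
  have hPQ : ∀ (x : A) (t : A ⊗[k] A), Qmap α (x ⊗ₜ[k] t) =
      TensorProduct.map (α ∘ₗ HopfAlgebra.antipode k) (HopfAlgebra.antipode k)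
        (TensorProduct.comm k A A t) * ((1 : B) ⊗ₜ[k] x) := by
    intro x t
    induction t using TensorProduct.induction_on with
    | zero => simp
    | tmul y₁ y₂ =>
      rw [Qmap_tmul]
      simp [Algebra.TensorProduct.tmul_mul_tmul, mul_comm]
    | add t t' ht ht' =>
      rw [TensorProduct.tmul_add, map_add, ht, ht', map_add, map_add, add_mul]
  have hP : ∀ u : A ⊗[k] A, Pmap α u = Qmap α ((Coalgebra.comul (R := k)).lTensor A u) := by
    intro u
    induction u using TensorProduct.induction_on with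
    | zero => simp
    | tmul x y => rw [Pmap_tmul, LinearMap.lTensor_tmul, hPQ, coact_alpha_antipode α hα]
    | add u u' hu hu' => simp only [map_add, hu, hu']
  rw [hP, ← Coalgebra.coassoc_apply]
  have hQ : ∀ u : (A ⊗[k] A) ⊗[k] A, Qmap α (TensorProduct.assoc k A A A u) =
      TensorProduct.comm k A B (TensorProduct.map
        (LinearMap.mul' k A ∘ₗ (HopfAlgebra.antipode k).lTensor A)
        (α ∘ₗ HopfAlgebra.antipode k) u) := by
    intro u; simp [Qmap]
  rw [hQ]
  have h4 : ∀ u : A ⊗[k] A, TensorProduct.map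
      (LinearMap.mul' k A ∘ₗ (HopfAlgebra.antipode k).lTensor A) (α ∘ₗ HopfAlgebra.antipode k)
        ((Coalgebra.comul (R := k)).rTensor A u) =
      TensorProduct.map (Algebra.linearMap k A) (α ∘ₗ HopfAlgebra.antipode k)
        ((Coalgebra.counit (R := k)).rTensor A u) := by
    intro u
    induction u using TensorProduct.induction_on with
    | zero => simp
    | tmul x y =>
      simp only [LinearMap.rTensor_tmul, TensorProduct.map_tmul, LinearMap.comp_apply]
      rw [HopfAlgebra.mul_antipode_lTensor_comul_apply]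
      rfl
    | add u u' hu hu' => simp only [map_add, hu, hu']
  rw [h4, Coalgebra.rTensor_counit_comul]
  simp

end core

section module

variable {k : Type u} [CommRing k] {A : Type v} [CommRing A] [HopfAlgebra k A]
variable {B : Type w} [CommRing B] [Algebra k B] [HopfRep.Comod k A B] [GLin.IsCoactAlg k A B]
variable {M : Type w'} [AddCommGroup M] [Module k M] [Module B M] [IsScalarTower k B M]

/-- `b ↦ b • m` -/
noncomputable def sig (m : M) : B →ₗ[k] M :=
  ((Algebra.lsmul k k M : B →ₐ[k] Module.End k M).toLinearMap).flip m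

theorem sig_apply (m : M) (b : B) : sig (k := k) m b = b • m := by simp [sig]

theorem hmSMul_tmul_right (w : B ⊗[k] A) (m : M) (x : A) :
    TameAct.hmSMul k A B M w (m ⊗ₜ[k] x) =
      (sig (k := k) m).rTensor A (w * ((1 : B) ⊗ₜ[k] x)) := by
  induction w using TensorProduct.induction_on with
  | zero => simp
  | tmul b c => simp [sig_apply, Algebra.TensorProduct.tmul_mul_tmul]
  | add w w' hw hw' => rw [map_add, LinearMap.add_apply, hw, hw', add_mul, map_add]

/-- `m ⊗ a ↦ α(S a) • m` -/
noncomputable def Phi (α : A →ₗ[k] B) : M ⊗[k] A →ₗ[k] M :=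
  TensorProduct.lift ((Algebra.lsmul k k M : B →ₐ[k] Module.End k M).toLinearMap ∘ₗ α ∘ₗ
    HopfAlgebra.antipode k).flip

theorem Phi_tmul (α : A →ₗ[k] B) (m : M) (a : A) :
    Phi (M := M) α (m ⊗ₜ[k] a) = α (HopfAlgebra.antipode k a) • m := by
  simp [Phi]

theorem reynolds_eq [HopfRep.Comod k A M] (α : A →ₗ[k] B) (m : M) :
    TameAct.reynolds k A B M α m = Phi α (HopfRep.Comod.coact (k := k) (A := A) m) := rfl

/-- `u ⊗ a ↦ ρ_B(α(S a)) · u` -/
noncomputable def Wmap (α : A →ₗ[k] B) : (M ⊗[k] A) ⊗[k] A →ₗ[k] M ⊗[k] A :=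
  TensorProduct.lift ((TameAct.hmSMul k A B M ∘ₗ HopfRep.Comod.coact (k := k) (A := A) ∘ₗ α ∘ₗ
    HopfAlgebra.antipode k).flip)

theorem Wmap_tmul (α : A →ₗ[k] B) (u : M ⊗[k] A) (a : A) :
    Wmap α (u ⊗ₜ[k] a) =
      TameAct.hmSMul k A B M
        (HopfRep.Comod.coact (k := k) (A := A) (α (HopfAlgebra.antipode k a))) u := by
  simp [Wmap]

theorem coact_reynolds [HopfRep.Comod k A M] [TameAct.IsHopfMod k A B M]
    (α : A →ₗ[k] B) (hα : Hoch.IsComodHom A α) (m : M) :
    HopfRep.Comod.coact (k := k) (A := A) (TameAct.reynolds k A B M α m) =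
      (TameAct.reynolds k A B M α m) ⊗ₜ[k] (1 : A) := by
  rw [reynolds_eq]
  have hI : ∀ v : M ⊗[k] A, HopfRep.Comod.coact (k := k) (A := A) (Phi α v) =
      Wmap α ((HopfRep.Comod.coact (k := k) (A := A) (V := M)).rTensor A v) := by
    intro v
    induction v using TensorProduct.induction_on with
    | zero => simp
    | tmul m' a =>
      rw [Phi_tmul, LinearMap.rTensor_tmul, Wmap_tmul]
      exact TameAct.IsHopfMod.coact_smul _ _
    | add v v' hv hv' => simp only [map_add, hv, hv']
  have hII : (HopfRep.Comod.coact (k := k) (A := A) (V := M)).rTensor A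
      (HopfRep.Comod.coact (k := k) (A := A) m) =
      (TensorProduct.assoc k M A A).symm ((Coalgebra.comul (R := k)).lTensor M
        (HopfRep.Comod.coact (k := k) (A := A) m)) := by
    rw [LinearEquiv.eq_symm_apply]
    exact LinearMap.congr_fun (HopfRep.Comod.coassoc (k := k) (A := A) (V := M)) m
  have hIII : ∀ (m' : M) (t : A ⊗[k] A),
      Wmap α ((TensorProduct.assoc k M A A).symm (m' ⊗ₜ[k] t)) =
        (sig (k := k) m').rTensor A (Pmap α t) := by
    intro m' t
    induction t using TensorProduct.induction_on with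
    | zero => simp
    | tmul x y => rw [TensorProduct.assoc_symm_tmul, Wmap_tmul, hmSMul_tmul_right, Pmap_tmul]
    | add t t' ht ht' => rw [TensorProduct.tmul_add, map_add, map_add, ht, ht', map_add, map_add]
  have hIV : ∀ v : M ⊗[k] A,
      Wmap α ((TensorProduct.assoc k M A A).symm ((Coalgebra.comul (R := k)).lTensor M v)) =
        (Phi α v) ⊗ₜ[k] (1 : A) := by
    intro v
    induction v using TensorProduct.induction_on with
    | zero => simp
    | tmul m' a =>
      rw [LinearMap.lTensor_tmul, hIII, Pmap_comul α hα, LinearMap.rTensor_tmul, sig_apply,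
        Phi_tmul]
    | add v v' hv hv' => simp only [map_add, hv, hv', TensorProduct.add_tmul]
  rw [hI, hII, hIV]

theorem reynolds_mem_fixedPts [HopfRep.Comod k A M] [TameAct.IsHopfMod k A B M]
    (α : A →ₗ[k] B) (hα : Hoch.IsComodHom A α) (m : M) :
    TameAct.reynolds k A B M α m ∈ HopfRep.fixedPts k A M :=
  coact_reynolds α hα m

theorem reynolds_of_mem_fixedPts [HopfRep.Comod k A M]
    (α : A →ₗ[k] B) (hα1 : α 1 = 1) (m : M) (hm : m ∈ HopfRep.fixedPts k A M) :
    TameAct.reynolds k A B M α m = m := by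
  have h : HopfRep.Comod.coact (k := k) (A := A) m = m ⊗ₜ[k] (1 : A) := hm
  rw [TameAct.reynolds_apply_of_coact_eq k A B M α m m 1 h, HopfAlgebra.antipode_one, hα1,
    one_smul]

theorem reynolds_natural [HopfRep.Comod k A M]
    {N : Type w''} [AddCommGroup N] [Module k N] [Module B N] [IsScalarTower k B N]
    [HopfRep.Comod k A N] (f : M →ₗ[B] N) (hf : Hoch.IsComodHom A (f.restrictScalars k))
    (α : A →ₗ[k] B) (m : M) :
    f (TameAct.reynolds k A B M α m) = TameAct.reynolds k A B N α (f m) := by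
  rw [reynolds_eq, reynolds_eq]
  have h := LinearMap.congr_fun hf m
  simp only [LinearMap.comp_apply, LinearMap.restrictScalars_apply] at h
  rw [h]
  generalize HopfRep.Comod.coact (k := k) (A := A) m = v
  induction v using TensorProduct.induction_on with
  | zero => simp
  | tmul m' a =>
    rw [Phi_tmul, LinearMap.rTensor_tmul, Phi_tmul, LinearMap.restrictScalars_apply, map_smul]
  | add v v' hv hv' => simp only [map_add, hv, hv']

end module

section self

variable {k : Type u} [CommRing k] {A : Type v} [CommRing A] [HopfAlgebra k A]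
variable {B : Type w} [CommRing B] [Algebra k B] [HopfRep.Comod k A B] [GLin.IsCoactAlg k A B]

theorem hmSMul_self (x y : B ⊗[k] A) : TameAct.hmSMul k A B B x y = x * y := by
  induction x using TensorProduct.induction_on with
  | zero => simp
  | tmul b c =>
    induction y using TensorProduct.induction_on with
    | zero => simp
    | tmul b' c' => simp [Algebra.TensorProduct.tmul_mul_tmul]
    | add x y hx hy => rw [map_add, hx, hy, mul_add]
  | add x y hx hy => rw [map_add, LinearMap.add_apply, hx, hy, add_mul]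

theorem isHopfMod_self : TameAct.IsHopfMod k A B B :=
  ⟨fun b m => by rw [smul_eq_mul, GLin.IsCoactAlg.coact_mul, hmSMul_self]⟩

theorem reynolds_self_mul (α : A →ₗ[k] B) (c b : B) (hc : c ∈ GLin.invariants k A B) :
    TameAct.reynolds k A B B α (c * b) = c * TameAct.reynolds k A B B α b := by
  have hc' : HopfRep.Comod.coact (k := k) (A := A) c = c ⊗ₜ[k] (1 : A) := hc
  rw [reynolds_eq, reynolds_eq, GLin.IsCoactAlg.coact_mul, hc']
  generalize HopfRep.Comod.coact (k := k) (A := A) b = x
  induction x using TensorProduct.induction_on with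
  | zero => simp
  | tmul b' a =>
    rw [Algebra.TensorProduct.tmul_mul_tmul, Phi_tmul, Phi_tmul, one_mul, smul_eq_mul, smul_eq_mul]
    ring
  | add x y hx hy => rw [mul_add, map_add, hx, hy, map_add, mul_add]

theorem reynolds_mem_of_isSubcomod (α : A →ₗ[k] B) (b : Ideal B)
    (hb : HopfRep.IsSubcomod (k := k) (A := A) (b.restrictScalars k)) (β : B) (hβ : β ∈ b) :
    TameAct.reynolds k A B B α β ∈ b := by
  rw [reynolds_eq]
  obtain ⟨z, hz⟩ := hb β hβ
  rw [← hz]
  clear hz
  induction z using TensorProduct.induction_on with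
  | zero => simp
  | tmul β' a =>
    rw [LinearMap.rTensor_tmul, Phi_tmul, smul_eq_mul]
    exact b.mul_mem_left _ β'.2
  | add z z' hz hz' =>
    rw [map_add, map_add]
    exact b.add_mem hz hz'

theorem exists_mem_eq_reynolds_mul (α : A →ₗ[k] B) (hα : Hoch.IsComodHom A α)
    (c : Ideal (GLin.invariants k A B)) (y : B)
    (hy : y ∈ c.map (algebraMap (GLin.invariants k A B) B)) (b' : B) :
    ∃ z ∈ c, (z : B) = TameAct.reynolds k A B B α (b' * y) := by
  have := isHopfMod_self (k := k) (A := A) (B := B)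
  induction hy using Submodule.span_induction generalizing b' with
  | mem y hy =>
    obtain ⟨z₀, hz₀, rfl⟩ := hy
    refine ⟨z₀ * ⟨TameAct.reynolds k A B B α b', reynolds_mem_fixedPts α hα b'⟩,
      c.mul_mem_right _ hz₀, ?_⟩
    show (z₀ : B) * TameAct.reynolds k A B B α b' = _
    rw [← reynolds_self_mul α _ _ z₀.2, mul_comm]
    rfl
  | zero => exact ⟨0, c.zero_mem, by simp⟩
  | add y y' _ _ hy hy' =>
    obtain ⟨z, hz, e⟩ := hy b'
    obtain ⟨z', hz', e'⟩ := hy' b'
    exact ⟨z + z', c.add_mem hz hz', by rw [mul_add, map_add, ← e, ← e']; rfl⟩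
  | smul a y _ hy =>
    obtain ⟨z, hz, e⟩ := hy (b' * a)
    exact ⟨z, hz, by rw [e, smul_eq_mul, mul_assoc]⟩

theorem comap_map_invariants (α : A →ₗ[k] B) (hα : Hoch.IsComodHom A α) (hα1 : α 1 = 1)
    (c : Ideal (GLin.invariants k A B)) :
    (c.map (algebraMap (GLin.invariants k A B) B)).comap
      (algebraMap (GLin.invariants k A B) B) = c := by
  refine le_antisymm (fun x hx => ?_) Ideal.le_comap_map
  obtain ⟨z, hz, e⟩ := exists_mem_eq_reynolds_mul α hα c _ (Ideal.mem_comap.mp hx) 1
  rw [one_mul] at e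
  have hx' : TameAct.reynolds k A B B α (algebraMap (GLin.invariants k A B) B x) =
      algebraMap (GLin.invariants k A B) B x := reynolds_of_mem_fixedPts α hα1 _ x.2
  rw [hx'] at e
  have : z = x := Subtype.ext e
  rwa [← this]

end self

end Groth.Agent.H27.HopfInt
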