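import Mathlib.RingTheory.Flat.Tensor
import Mathlib.RingTheory.Finiteness.Basic
import Mathlib.RingTheory.Ideal.Span

set_option autoImplicit false
universe u

namespace Groth.Agent.H27

open TensorProduct

/-- In a ring where every element `a` is of the form `a * a * b`, every finitely generated ideal
contains an element acting as the identity on it. -/
theorem exists_idem_of_fg {A : Type*} [CommRing A] (h : ∀ a : A, ∃ b : A, a = a * a * b)
    (I : Ideal A) (hI : I.FG) : ∃ e ∈ I, ∀ x ∈ I, e * x = x := by
  induction I, hI using Submodule.fg_induction with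
  | singleton a =>
    obtain ⟨b, hb⟩ := h a
    refine ⟨a * b, ?_, ?_⟩
    · exact Ideal.mul_mem_right _ _ (Ideal.mem_span_singleton_self a)
    · intro x hx
      obtain ⟨c, rfl⟩ := Ideal.mem_span_singleton'.mp hx
      calc a * b * (c * a) = c * (a * a * b) := by ring
        _ = c * a := by rw [← hb]
  | sup I J hI hJ ihI ihJ =>
    obtain ⟨e, heI, he⟩ := ihI
    obtain ⟨f, hfJ, hf⟩ := ihJ
    refine ⟨e + f - e * f, ?_, ?_⟩
    · refine Ideal.sub_mem _ (Ideal.add_mem _ (Ideal.mem_sup_left heI) (Ideal.mem_sup_right hfJ))
        (Ideal.mul_mem_right _ _ (Ideal.mem_sup_left heI))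
    · intro x hx
      obtain ⟨x1, hx1, x2, hx2, rfl⟩ := Submodule.mem_sup.mp hx
      have h1 := he x1 hx1
      have h2 := hf x2 hx2
      calc (e + f - e * f) * (x1 + x2)
          = e * x1 + f * (x1 - e * x1) + (f * x2 + e * (x2 - f * x2)) := by ring
        _ = x1 + x2 := by rw [h1, h2]; ring

/-- Over a ring where every element `a` is of the form `a * a * b` (a von Neumann regular ring),
every module is flat. -/
theorem flat_of_vonNeumann {A : Type u} [CommRing A] (h : ∀ a : A, ∃ b : A, a = a * a * b)
    (M : Type*) [AddCommGroup M] [Module A M] : Module.Flat A M := by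
  rw [Module.Flat.iff_rTensor_injective]
  intro I hI
  obtain ⟨e, heI, he⟩ := exists_idem_of_fg h I hI
  -- the retraction `A → I`, `x ↦ e * x`
  let r : A →ₗ[A] I :=
    LinearMap.codRestrict I (LinearMap.mulLeft A e) (fun x => Ideal.mul_mem_right _ _ heI)
  have hr : r ∘ₗ I.subtype = LinearMap.id := by
    ext x
    simp [r, he x.1 x.2]
  have : Function.LeftInverse (r.rTensor M) (I.subtype.rTensor M) := by
    intro x
    rw [← LinearMap.comp_apply, ← LinearMap.rTensor_comp, hr, LinearMap.rTensor_id,
      LinearMap.id_apply]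
  exact this.injective

end Groth.Agent.H27
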