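import Mathlib.RingTheory.AdicCompletion.Functoriality
import Mathlib.RingTheory.AdicCompletion.Algebra
import Mathlib.RingTheory.OrzechProperty
import Mathlib.RingTheory.Noetherian.Orzech
import Mathlib.RingTheory.Finiteness.Quotient
import Mathlib.Tactic

set_option autoImplicit false

namespace Groth.Agent.H27.AdicIso

open Submodule AdicCompletion

universe u v w

variable {A : Type u} [CommRing A] (I : Ideal A) {M : Type v} {N : Type w}
  [AddCommGroup M] [Module A M] [AddCommGroup N] [Module A N]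

set_option backward.isDefEq.respectTransparency false in
/-- A compatible family of maps between the quotients induces a map on completions. -/
noncomputable def mapOfCompat
    (g : ∀ n, M ⧸ (I ^ n • ⊤ : Submodule A M) →ₗ[A] N ⧸ (I ^ n • ⊤ : Submodule A N))
    (hg : ∀ {m n : ℕ} (hmn : m ≤ n),
      transitionMap I N hmn ∘ₗ g n = g m ∘ₗ transitionMap I M hmn) :
    AdicCompletion I M →ₗ[AdicCompletion I A] AdicCompletion I N where
  __ := AdicCompletion.lift I (fun n ↦ g n ∘ₗ AdicCompletion.eval I M n)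
    (fun {m n} hmn ↦ by
      rw [← LinearMap.comp_assoc, hg hmn, LinearMap.comp_assoc, transitionMap_comp_eval])
  map_smul' r x := by
    apply AdicCompletion.ext
    intro n
    obtain ⟨r₀, hr₀⟩ := Ideal.Quotient.mk_surjective (r.val n)
    change g n (r.val n • x.val n) = r.val n • g n (x.val n)
    rw [← hr₀]
    exact map_smul (g n) r₀ (x.val n)

theorem mapOfCompat_val
    (g : ∀ n, M ⧸ (I ^ n • ⊤ : Submodule A M) →ₗ[A] N ⧸ (I ^ n • ⊤ : Submodule A N))
    (hg : ∀ {m n : ℕ} (hmn : m ≤ n),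
      transitionMap I N hmn ∘ₗ g n = g m ∘ₗ transitionMap I M hmn)
    (x : AdicCompletion I M) (n : ℕ) :
    (mapOfCompat I g hg x).val n = g n (x.val n) := rfl

theorem mapOfCompat_bijective
    (g : ∀ n, M ⧸ (I ^ n • ⊤ : Submodule A M) →ₗ[A] N ⧸ (I ^ n • ⊤ : Submodule A N))
    (hg : ∀ {m n : ℕ} (hmn : m ≤ n),
      transitionMap I N hmn ∘ₗ g n = g m ∘ₗ transitionMap I M hmn)
    (hbij : ∀ n, Function.Bijective (g n)) :
    Function.Bijective (mapOfCompat I g hg) := by
  constructor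
  · rw [injective_iff_map_eq_zero]
    intro x hx
    apply AdicCompletion.ext
    intro n
    have h1 : g n (x.val n) = 0 := by
      rw [← mapOfCompat_val I g hg, hx]; rfl
    exact (hbij n).1 (h1.trans (_root_.map_zero (g n)).symm)
  · intro y
    choose xs hxs using fun n => (hbij n).2 (y.val n)
    refine ⟨⟨xs, ?_⟩, ?_⟩
    · intro m n hmn
      apply (hbij m).1
      have h2 := LinearMap.congr_fun (hg hmn) (xs n)
      simp only [LinearMap.comp_apply] at h2
      rw [← h2, hxs, hxs]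
      exact y.2 hmn
    · apply AdicCompletion.ext
      intro n
      exact hxs n

theorem sup_pow_smul_eq_top {R' : Submodule A N} (h : R' ⊔ I • (⊤ : Submodule A N) = ⊤) (k : ℕ) :
    R' ⊔ I ^ k • (⊤ : Submodule A N) = ⊤ := by
  induction k with
  | zero => simp
  | succ k ih =>
    have key : I ^ k • (⊤ : Submodule A N) ≤ R' ⊔ I ^ (k+1) • (⊤ : Submodule A N) := by
      calc I ^ k • (⊤ : Submodule A N) = I ^ k • (R' ⊔ I • (⊤ : Submodule A N)) := by rw [h]
        _ = I ^ k • R' ⊔ I ^ k • (I • (⊤ : Submodule A N)) := Submodule.smul_sup _ _ _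
        _ ≤ R' ⊔ I ^ (k+1) • (⊤ : Submodule A N) := by
          refine sup_le_sup Submodule.smul_le_right ?_
          rw [← Submodule.mul_smul, ← pow_succ]
    rw [eq_top_iff]
    calc (⊤ : Submodule A N) = R' ⊔ I ^ k • (⊤ : Submodule A N) := ih.symm
      _ ≤ R' ⊔ I ^ (k+1) • (⊤ : Submodule A N) := sup_le le_sup_left key

theorem surjective_of_comp_transition_surjective {n : ℕ} (hn : 1 ≤ n)
    (g : M →ₗ[A] N ⧸ (I ^ n • ⊤ : Submodule A N))
    (hg : Function.Surjective (transitionMap I N hn ∘ₗ g)) : Function.Surjective g := by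
  set R' : Submodule A N := (LinearMap.range g).comap (mkQ _) with hR'
  have h1 : R' ⊔ I • (⊤ : Submodule A N) = ⊤ := by
    rw [eq_top_iff]
    intro z _
    obtain ⟨x, hx⟩ := hg (mkQ _ z)
    obtain ⟨w, hw⟩ := mkQ_surjective _ (g x)
    have hzw : z - w ∈ (I ^ 1 • ⊤ : Submodule A N) := by
      rw [← Submodule.Quotient.mk_eq_zero, Submodule.Quotient.mk_sub, sub_eq_zero]
      rw [LinearMap.comp_apply, ← hw] at hx
      exact hx.symm
    rw [pow_one] at hzw
    have hz : z = w + (z - w) := by abel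
    rw [hz]
    refine Submodule.add_mem_sup ?_ hzw
    show mkQ _ w ∈ LinearMap.range g
    rw [hw]; exact ⟨x, rfl⟩
  have h2 := sup_pow_smul_eq_top I h1 n
  intro y
  obtain ⟨z, rfl⟩ := mkQ_surjective _ y
  have hz : z ∈ R' ⊔ I ^ n • (⊤ : Submodule A N) := by rw [h2]; trivial
  obtain ⟨r, hr, i, hi, rfl⟩ := Submodule.mem_sup.1 hz
  obtain ⟨x, hx⟩ := hr
  refine ⟨x, ?_⟩
  rw [hx, map_add, mkQ_apply, mkQ_apply, (Submodule.Quotient.mk_eq_zero _).2 hi, add_zero]

theorem exists_seq_of_rel {X : ℕ → Type*} (r : ∀ n, X n → X (n+1) → Prop)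
    (hr : ∀ n x, ∃ y, r n x y) (x0 : X 0) :
    ∃ s : ∀ n, X n, s 0 = x0 ∧ ∀ n, r n (s n) (s (n+1)) := by
  choose next hnext using hr
  exact ⟨fun n => Nat.rec x0 (fun n x => next n x) n, rfl, fun n => hnext n _⟩


set_option backward.isDefEq.respectTransparency false in
theorem main [Module.Finite A M] [Module.Finite A N]
    (hML : ∀ n : ℕ, ∃ m : ℕ, n ≤ m ∧ ∀ (k : ℕ) (hmk : m ≤ k) (hnm : n ≤ m)
        (ψ : M →ₗ[A] N ⧸ (I ^ m • ⊤ : Submodule A N)),
        ∃ ψ' : M →ₗ[A] N ⧸ (I ^ k • ⊤ : Submodule A N),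
          transitionMap I N (hnm.trans hmk) ∘ₗ ψ' = transitionMap I N hnm ∘ₗ ψ)
    (h : ∀ n : ℕ, Nonempty ((M ⧸ (I ^ n • ⊤ : Submodule A M)) ≃ₗ[A]
      (N ⧸ (I ^ n • ⊤ : Submodule A N)))) :
    Nonempty (AdicCompletion I M ≃ₗ[AdicCompletion I A] AdicCompletion I N) := by
  classical
  have tcomp : ∀ {a b c : ℕ} (hab : a ≤ b) (hbc : b ≤ c),
      transitionMap I N hab ∘ₗ transitionMap I N hbc = transitionMap I N (hab.trans hbc) := by
    intro a b c hab hbc
    exact Submodule.factor_comp _ _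
  let stab : ∀ n, (M →ₗ[A] N ⧸ (I ^ n • ⊤ : Submodule A N)) → Prop := fun n x =>
    ∀ k (hk : n ≤ k), ∃ ψ' : M →ₗ[A] N ⧸ (I ^ k • ⊤ : Submodule A N),
      transitionMap I N hk ∘ₗ ψ' = x
  have ML' : ∀ n, ∃ m, ∃ hnm : n ≤ m, ∀ ψ : M →ₗ[A] N ⧸ (I ^ m • ⊤ : Submodule A N),
      stab n (transitionMap I N hnm ∘ₗ ψ) := by
    intro n
    obtain ⟨m, hnm, hm⟩ := hML n
    refine ⟨m, hnm, fun ψ k hk => ?_⟩
    obtain ⟨ψ'', hψ''⟩ := hm (max k m) (le_max_right _ _) hnm ψ
    refine ⟨transitionMap I N (le_max_left k m) ∘ₗ ψ'', ?_⟩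
    rw [← LinearMap.comp_assoc, tcomp, hψ'']
  choose mm hmm hstab using ML'
  have step : ∀ n (x : M →ₗ[A] N ⧸ (I ^ n • ⊤ : Submodule A N)), stab n x →
      ∃ x' : M →ₗ[A] N ⧸ (I ^ (n+1) • ⊤ : Submodule A N),
        stab (n+1) x' ∧ transitionMap I N (Nat.le_succ n) ∘ₗ x' = x := by
    intro n x hx
    obtain ⟨ψ, hψ⟩ := hx (mm (n+1)) ((Nat.le_succ n).trans (hmm (n+1)))
    refine ⟨transitionMap I N (hmm (n+1)) ∘ₗ ψ, hstab (n+1) ψ, ?_⟩
    rw [← LinearMap.comp_assoc, tcomp, hψ]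
  obtain ⟨e1⟩ := h (mm 1)
  let x1 : M →ₗ[A] N ⧸ (I ^ 1 • ⊤ : Submodule A N) :=
    transitionMap I N (hmm 1) ∘ₗ (e1.toLinearMap ∘ₗ mkQ _)
  have hx1 : stab 1 x1 := hstab 1 _
  have hx1s : Function.Surjective x1 := by
    have ha : Function.Surjective (transitionMap I N (hmm 1)) := Submodule.factor_surjective _
    have hb : Function.Surjective (e1.toLinearMap ∘ₗ mkQ (I ^ mm 1 • ⊤ : Submodule A M)) :=
      e1.surjective.comp (mkQ_surjective _)
    exact ha.comp hb
  obtain ⟨s, hs0, hs⟩ := exists_seq_of_rel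
    (X := fun n => {x : M →ₗ[A] N ⧸ (I ^ (n+1) • ⊤ : Submodule A N) // stab (n+1) x})
    (fun n x y => transitionMap I N (Nat.le_succ (n+1)) ∘ₗ y.1 = x.1)
    (fun n x => by
      obtain ⟨x', hx', hxx'⟩ := step (n+1) x.1 x.2
      exact ⟨⟨x', hx'⟩, hxx'⟩) ⟨x1, hx1⟩
  let F : ∀ n, M →ₗ[A] N ⧸ (I ^ n • ⊤ : Submodule A N) := fun n =>
    Nat.rec (motive := fun n => M →ₗ[A] N ⧸ (I ^ n • ⊤ : Submodule A N)) 0 (fun n _ => (s n).1) n
  have hF1 : F 1 = x1 := by
    show (s 0).1 = x1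
    rw [hs0]
  have hsub0 : Subsingleton (N ⧸ (I ^ 0 • ⊤ : Submodule A N)) := by
    rw [Submodule.Quotient.subsingleton_iff]
    simp
  have hFsucc : ∀ n, transitionMap I N (Nat.le_succ n) ∘ₗ F (n+1) = F n := by
    intro n
    cases n with
    | zero =>
      apply LinearMap.ext
      intro x
      exact Subsingleton.elim _ _
    | succ k => exact hs k
  have hFc : ∀ {m n : ℕ} (hmn : m ≤ n), transitionMap I N hmn ∘ₗ F n = F m := by
    intro m n hmn
    induction n, hmn using Nat.le_induction with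
    | base =>
      apply LinearMap.ext
      intro x
      obtain ⟨z, hz⟩ := mkQ_surjective _ (F m x)
      rw [LinearMap.comp_apply, ← hz]
      rfl
    | succ n hmn ih =>
      rw [← ih, ← hFsucc n, ← LinearMap.comp_assoc, tcomp]
  have hFs : ∀ n, Function.Surjective (F n) := by
    intro n
    rcases Nat.eq_zero_or_pos n with rfl | hn
    · intro y
      exact ⟨0, Subsingleton.elim _ _⟩
    · apply surjective_of_comp_transition_surjective I hn
      rw [hFc hn]
      exact hF1 ▸ hx1s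
  have hker : ∀ n, (I ^ n • ⊤ : Submodule A M) ≤ LinearMap.ker (F n) := by
    intro n
    rw [Submodule.smul_le]
    intro a ha x _
    rw [LinearMap.mem_ker, map_smul]
    obtain ⟨z, hz⟩ := mkQ_surjective _ (F n x)
    rw [← hz, ← map_smul, mkQ_apply, Submodule.Quotient.mk_eq_zero]
    exact Submodule.smul_mem_smul ha mem_top
  let g : ∀ n, M ⧸ (I ^ n • ⊤ : Submodule A M) →ₗ[A] N ⧸ (I ^ n • ⊤ : Submodule A N) :=
    fun n => Submodule.liftQ _ (F n) (hker n)
  have hgc : ∀ {m n : ℕ} (hmn : m ≤ n),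
      transitionMap I N hmn ∘ₗ g n = g m ∘ₗ transitionMap I M hmn := by
    intro m n hmn
    apply Submodule.linearMap_qext
    apply LinearMap.ext
    intro x
    exact LinearMap.congr_fun (hFc hmn) x
  have hgs : ∀ n, Function.Surjective (g n) := by
    intro n y
    obtain ⟨x, hx⟩ := hFs n y
    exact ⟨mkQ _ x, hx⟩
  have hgi : ∀ n, Function.Injective (g n) := by
    intro n
    obtain ⟨e⟩ := h n
    have h1 : Function.Surjective (e.symm.toLinearMap ∘ₗ g n) :=
      e.symm.surjective.comp (hgs n)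
    have h2 := OrzechProperty.injective_of_surjective_endomorphism _ h1
    rw [LinearMap.coe_comp] at h2
    exact Function.Injective.of_comp h2
  exact ⟨LinearEquiv.ofBijective (mapOfCompat I g hgc)
    (mapOfCompat_bijective I g hgc (fun n => ⟨hgi n, hgs n⟩))⟩

end Groth.Agent.H27.AdicIso
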