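import Mathlib
import Groth.Prelude.Def_CAlgX
import Groth.Agent.H11.AdicJac

/-!
# The adic Jacobian criterion for quotients (Noetherian case)

`B` an `A`-algebra formally smooth for the `I`-adic topology, `C = B/J`.  Then `C` is formally
smooth for the `IC`-adic topology iff the conormal map has a left inverse modulo an ideal of
definition `Q` of `C`.
-/

set_option autoImplicit false

namespace Groth.Agent.H27.AdicJacGen

open TensorProduct KaehlerDifferential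

universe u

section SurjForm

variable {A B : Type u} [CommRing A] [CommRing B] [Algebra A B] (I : Ideal B)

/-- Adic formal smoothness, tested on surjections with square-zero kernel. -/
theorem lift_of_surj (hB : CAlgX.IsAdicFormallySmooth A B I)
    {E F : Type u} [CommRing E] [CommRing F] [Algebra A E] [Algebra A F]
    (π : E →ₐ[A] F) (hπ : Function.Surjective π)
    (hsq : ∀ x y, π x = 0 → π y = 0 → x * y = 0)
    (φ : B →ₐ[A] F) (hφ : ∃ r : ℕ, ∀ x ∈ I ^ r, φ x = 0) :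
    ∃ χ : B →ₐ[A] E, π.comp χ = φ := by
  let e : (E ⧸ RingHom.ker π) ≃ₐ[A] F := Ideal.quotientKerAlgEquivOfSurjective hπ
  have he : ∀ x : E, e (Ideal.Quotient.mk _ x) = π x := fun x => rfl
  have hK : (RingHom.ker π) ^ 2 = ⊥ := by
    rw [eq_bot_iff, pow_two, Ideal.mul_le]
    intro x hx y hy
    rw [Ideal.mem_bot]
    exact hsq x y (RingHom.mem_ker.1 hx) (RingHom.mem_ker.1 hy)
  obtain ⟨r, hr⟩ := hφ
  obtain ⟨χ, hχ⟩ := hB E (RingHom.ker π) hK ((e.symm : F →ₐ[A] E ⧸ RingHom.ker π).comp φ)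
    ⟨r, fun x hx => by
      show e.symm (φ x) = 0
      rw [hr x hx, map_zero]⟩
  refine ⟨χ, AlgHom.ext fun b => ?_⟩
  have h1 : Ideal.Quotient.mk (RingHom.ker π) (χ b) = e.symm (φ b) := AlgHom.congr_fun hχ b
  have h2 : e (Ideal.Quotient.mk _ (χ b)) = φ b := by
    rw [h1, AlgEquiv.apply_symm_apply]
  rw [he] at h2
  exact h2

end SurjForm

section Core

variable {A B : Type u} [CommRing A] [CommRing B] [Algebra A B] (I J : Ideal B)
  (Q : Ideal (B ⧸ J))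

local notation "CotJ" => Ideal.Cotangent (RingHom.ker (algebraMap B (B ⧸ J)))
local notation "kQ" => (B ⧸ J) ⧸ Q

theorem core (hB : CAlgX.IsAdicFormallySmooth A B I)
    (g : kQ ⊗[B] ((B ⧸ J) ⊗[B] Ω[B⁄A]) →ₗ[kQ] kQ ⊗[B] CotJ)
    (hg : g ∘ₗ LinearMap.baseChange kQ (KaehlerDifferential.kerCotangentToTensor A B (B ⧸ J)) =
          LinearMap.id)
    {E F : Type u} [CommRing E] [CommRing F] [Algebra A E] [Algebra A F]
    (π : E →ₐ[A] F) (hπ : Function.Surjective π)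
    (hsq : ∀ x y, π x = 0 → π y = 0 → x * y = 0)
    (ψ : (B ⧸ J) →ₐ[A] F) (hψ : ∃ r : ℕ, ∀ x ∈ (I.map (Ideal.Quotient.mk J)) ^ r, ψ x = 0)
    (hQK : ∀ c ∈ Q, ∀ e : E, π e = ψ c → ∀ x : E, π x = 0 → e * x = 0) :
    ∃ ψ₁ : (B ⧸ J) →ₐ[A] E, π.comp ψ₁ = ψ := by
  classical
  obtain ⟨r, hr⟩ := hψ
  have hφ : ∃ r : ℕ, ∀ x ∈ I ^ r, (ψ.comp (Ideal.Quotient.mkₐ A J)) x = 0 := by
    refine ⟨r, fun x hx => ?_⟩
    show ψ (Ideal.Quotient.mk J x) = 0
    apply hr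
    rw [← Ideal.map_pow]
    exact Ideal.mem_map_of_mem _ hx
  obtain ⟨χ, hχ⟩ := lift_of_surj I hB π hπ hsq (ψ.comp (Ideal.Quotient.mkₐ A J)) hφ
  have hχ' : ∀ b : B, π (χ b) = ψ (Ideal.Quotient.mk J b) := fun b => AlgHom.congr_fun hχ b
  letI : Algebra B E := χ.toRingHom.toAlgebra
  haveI : IsScalarTower A B E := IsScalarTower.of_algebraMap_eq (fun a => (χ.commutes a).symm)
  have hsmul : ∀ (b : B) (e : E), b • e = χ b * e := fun b e => rfl
  have hJ : ∀ x : B, x ∈ RingHom.ker (algebraMap B (B ⧸ J)) → π (χ x) = 0 := by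
    intro x hx
    rw [hχ']
    have : Ideal.Quotient.mk J x = 0 := hx
    rw [this, map_zero]
  let u₀ : ↥(RingHom.ker (algebraMap B (B ⧸ J))) →ₗ[B] E :=
    (Algebra.linearMap B E).domRestrict _
  have hu₀ : ∀ x, u₀ x = χ x := fun x => rfl
  let u : CotJ →ₗ[B] E := Ideal.Cotangent.lift u₀ (by
    intro x y
    show χ ((x : B) * (y : B)) = 0
    rw [map_mul]
    exact hsq _ _ (hJ x x.2) (hJ y y.2))
  have hu : ∀ x, u (Ideal.toCotangent _ x) = χ x := fun x => rfl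
  have hπu : ∀ ξ, π (u ξ) = 0 := by
    intro ξ
    obtain ⟨x, rfl⟩ := Ideal.toCotangent_surjective _ ξ
    rw [hu]; exact hJ x x.2
  let f : CotJ →ₗ[B] kQ ⊗[B] CotJ := TensorProduct.mk B kQ _ 1
  have hf1 : ∀ ξ, f ξ = (1 : kQ) ⊗ₜ[B] ξ := fun ξ => rfl
  have hsurjk : Function.Surjective (algebraMap B kQ) := by
    intro z
    obtain ⟨c, rfl⟩ := Ideal.Quotient.mk_surjective z
    obtain ⟨b, rfl⟩ := Ideal.Quotient.mk_surjective c
    exact ⟨b, rfl⟩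
  have hfsurj : Function.Surjective f := by
    intro z
    induction z using TensorProduct.induction_on with
    | zero => exact ⟨0, map_zero _⟩
    | tmul a ξ =>
      obtain ⟨b, rfl⟩ := hsurjk a
      refine ⟨b • ξ, ?_⟩
      rw [hf1, Algebra.algebraMap_eq_smul_one, TensorProduct.smul_tmul]
    | add x y hx hy =>
      obtain ⟨a, rfl⟩ := hx
      obtain ⟨b, rfl⟩ := hy
      exact ⟨a + b, map_add _ _ _⟩
  have hkerk : ∀ a : B, a ∈ RingHom.ker (algebraMap B kQ) → Ideal.Quotient.mk J a ∈ Q := by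
    intro a ha
    have : Ideal.Quotient.mk Q (Ideal.Quotient.mk J a) = 0 := ha
    exact Ideal.Quotient.eq_zero_iff_mem.1 this
  have hle : LinearMap.ker f ≤ LinearMap.ker u := by
    intro ξ hξ
    rw [LinearMap.mem_ker, hf1] at hξ
    have hmem := Groth.Agent.H11.AdicJac.mem_smul_of_one_tmul_eq_zero
      (P := B) (A := kQ) _ hsurjk ξ hξ
    rw [LinearMap.mem_ker]
    refine Submodule.smul_induction_on hmem ?_ ?_
    · intro a ha ξ' _
      rw [map_smul, hsmul]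
      exact hQK _ (hkerk a ha) (χ a) (hχ' a) _ (hπu ξ')
    · intro x y hx hy
      rw [map_add, hx, hy, add_zero]
  let ũ : kQ ⊗[B] CotJ →ₗ[B] E :=
    (Submodule.liftQ _ u hle) ∘ₗ (f.quotKerEquivOfSurjective hfsurj).symm.toLinearMap
  have hũ : ∀ ξ, ũ (f ξ) = u ξ := by
    intro ξ
    have h1 : (f.quotKerEquivOfSurjective hfsurj).symm (f ξ) = Submodule.Quotient.mk ξ := by
      rw [LinearEquiv.symm_apply_eq, LinearMap.quotKerEquivOfSurjective_apply_mk]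
    show (Submodule.liftQ _ u hle) ((f.quotKerEquivOfSurjective hfsurj).symm (f ξ)) = u ξ
    rw [h1, Submodule.liftQ_apply]
  have hπũ : ∀ z, π (ũ z) = 0 := by
    intro z
    obtain ⟨ξ, rfl⟩ := hfsurj z
    rw [hũ]; exact hπu ξ
  let g₀ : Ω[B⁄A] →ₗ[B] kQ ⊗[B] CotJ :=
    (g.restrictScalars B) ∘ₗ (TensorProduct.mk B kQ ((B ⧸ J) ⊗[B] Ω[B⁄A]) 1) ∘ₗ
      (TensorProduct.mk B (B ⧸ J) Ω[B⁄A] 1)
  have hg₀ : ∀ ω, g₀ ω = g ((1 : kQ) ⊗ₜ[B] ((1 : B ⧸ J) ⊗ₜ[B] ω)) := fun ω => rfl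
  have hgx : ∀ x : ↥(RingHom.ker (algebraMap B (B ⧸ J))),
      g₀ (D A B (x : B)) = f (Ideal.toCotangent _ x) := by
    intro x
    have h1 := LinearMap.congr_fun hg ((1 : kQ) ⊗ₜ[B] (Ideal.toCotangent _ x))
    rw [LinearMap.comp_apply, LinearMap.baseChange_tmul, kerCotangentToTensor_toCotangent,
      LinearMap.id_apply] at h1
    rw [hg₀, h1, hf1]
  let v : Ω[B⁄A] →ₗ[B] E := ũ ∘ₗ g₀
  let Dv : Derivation A B E := LinearMap.compDer v (KaehlerDifferential.D A B)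
  have hDv : ∀ b, Dv b = ũ (g₀ (D A B b)) := fun b => rfl
  have hDvJ : ∀ x : B, x ∈ RingHom.ker (algebraMap B (B ⧸ J)) → Dv x = χ x := by
    intro x hx
    rw [hDv, hgx ⟨x, hx⟩, hũ, hu]
  have hπDv : ∀ b, π (Dv b) = 0 := fun b => by rw [hDv]; exact hπũ _
  let χ' : B →ₐ[A] E := AlgHom.ofLinearMap (χ.toLinearMap - (Dv : B →ₗ[A] E))
    (by
      show χ 1 - Dv 1 = 1
      rw [map_one, Derivation.map_one_eq_zero, sub_zero])
    (by
      intro a b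
      show χ (a * b) - Dv (a * b) = (χ a - Dv a) * (χ b - Dv b)
      rw [map_mul, Derivation.leibniz, hsmul, hsmul]
      have h0 : Dv a * Dv b = 0 := hsq _ _ (hπDv a) (hπDv b)
      linear_combination (-1 : E) * h0)
  have hχ'app : ∀ b, χ' b = χ b - Dv b := fun b => rfl
  have hkill : ∀ a ∈ J, χ' a = 0 := by
    intro a ha
    have ha' : a ∈ RingHom.ker (algebraMap B (B ⧸ J)) := by
      rw [RingHom.mem_ker]; exact Ideal.Quotient.eq_zero_iff_mem.2 ha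
    rw [hχ'app, hDvJ a ha', sub_self]
  refine ⟨Ideal.Quotient.liftₐ J χ' hkill, AlgHom.ext fun c => ?_⟩
  obtain ⟨b, rfl⟩ := Ideal.Quotient.mk_surjective c
  show π (Ideal.Quotient.liftₐ J χ' hkill (Ideal.Quotient.mk J b)) = ψ (Ideal.Quotient.mk J b)
  have h1 : Ideal.Quotient.liftₐ J χ' hkill (Ideal.Quotient.mk J b) = χ' b := rfl
  rw [h1, hχ'app, map_sub, hπDv, sub_zero, hχ']

theorem induct (hB : CAlgX.IsAdicFormallySmooth A B I)
    (g : kQ ⊗[B] ((B ⧸ J) ⊗[B] Ω[B⁄A]) →ₗ[kQ] kQ ⊗[B] CotJ)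
    (hg : g ∘ₗ LinearMap.baseChange kQ (KaehlerDifferential.kerCotangentToTensor A B (B ⧸ J)) =
          LinearMap.id) (t : ℕ) :
    ∀ {E F : Type u} [CommRing E] [CommRing F] [Algebra A E] [Algebra A F]
    (π : E →ₐ[A] F) (_ : Function.Surjective π)
    (_ : ∀ x y, π x = 0 → π y = 0 → x * y = 0)
    (ψ : (B ⧸ J) →ₐ[A] F) (_ : ∃ r : ℕ, ∀ x ∈ (I.map (Ideal.Quotient.mk J)) ^ r, ψ x = 0)
    (_ : ∀ c ∈ Q ^ t, ∀ e : E, π e = ψ c → ∀ x : E, π x = 0 → e * x = 0),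
    ∃ ψ₁ : (B ⧸ J) →ₐ[A] E, π.comp ψ₁ = ψ := by
  induction t with
  | zero =>
    intro E F _ _ _ _ π hπ hsq ψ hψ hQK
    have hinj : Function.Injective π := by
      rw [injective_iff_map_eq_zero]
      intro x hx
      have := hQK 1 (by rw [pow_zero, Ideal.one_eq_top]; exact Submodule.mem_top) 1 (by rw [map_one, map_one]) x hx
      rwa [one_mul] at this
    let e := AlgEquiv.ofBijective π ⟨hinj, hπ⟩
    refine ⟨(e.symm : F →ₐ[A] E).comp ψ, AlgHom.ext fun c => ?_⟩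
    show e (e.symm (ψ c)) = ψ c
    exact e.apply_symm_apply (ψ c)
  | succ t ih =>
    intro E F _ _ _ _ π hπ hsq ψ hψ hQK
    obtain ⟨K', hK'def⟩ : ∃ K' : Ideal E,
        K' = Ideal.span {z | ∃ c ∈ Q, ∃ e x : E, π e = ψ c ∧ π x = 0 ∧ z = e * x} := ⟨_, rfl⟩
    have hK'ker : ∀ z ∈ K', π z = 0 := by
      intro z hz
      rw [hK'def] at hz
      refine Submodule.span_induction (p := fun z _ => π z = 0) ?_ ?_ ?_ ?_ hz
      · rintro _ ⟨c, _, e, x, _, hx, rfl⟩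
        rw [map_mul, hx, mul_zero]
      · exact map_zero _
      · intro x y _ _ hx hy; rw [map_add, hx, hy, add_zero]
      · intro a x _ hx; rw [smul_eq_mul, map_mul, hx, mul_zero]
    let π₁ : E →ₐ[A] E ⧸ K' := Ideal.Quotient.mkₐ A K'
    let π₂ : E ⧸ K' →ₐ[A] F := Ideal.Quotient.liftₐ K' π hK'ker
    have hπ₂₁ : ∀ e, π₂ (π₁ e) = π e := fun e => rfl
    have hπ₁surj : Function.Surjective π₁ := Ideal.Quotient.mk_surjective
    have hπ₂surj : Function.Surjective π₂ := by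
      intro y; obtain ⟨e, rfl⟩ := hπ y; exact ⟨π₁ e, hπ₂₁ e⟩
    have hπ₁zero : ∀ x, π₁ x = 0 → x ∈ K' := fun x hx => Ideal.Quotient.eq_zero_iff_mem.1 hx
    have hsq₂ : ∀ x y, π₂ x = 0 → π₂ y = 0 → x * y = 0 := by
      intro x y hx hy
      obtain ⟨x, rfl⟩ := hπ₁surj x
      obtain ⟨y, rfl⟩ := hπ₁surj y
      rw [hπ₂₁] at hx hy
      rw [← map_mul, hsq x y hx hy, map_zero]
    have hQK₂ : ∀ c ∈ Q, ∀ e : E ⧸ K', π₂ e = ψ c → ∀ x : E ⧸ K', π₂ x = 0 → e * x = 0 := by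
      intro c hc e he x hx
      obtain ⟨e, rfl⟩ := hπ₁surj e
      obtain ⟨x, rfl⟩ := hπ₁surj x
      rw [hπ₂₁] at he hx
      rw [← map_mul]
      show Ideal.Quotient.mk K' (e * x) = 0
      rw [Ideal.Quotient.eq_zero_iff_mem, hK'def]
      exact Ideal.subset_span ⟨c, hc, e, x, he, hx, rfl⟩
    obtain ⟨ψ₁, hψ₁⟩ := core I J Q hB g hg π₂ hπ₂surj hsq₂ ψ hψ hQK₂
    have hψ₁' : ∀ c, π₂ (ψ₁ c) = ψ c := fun c => AlgHom.congr_fun hψ₁ c
    have hsq₁ : ∀ x y, π₁ x = 0 → π₁ y = 0 → x * y = 0 := by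
      intro x y hx hy
      exact hsq x y (hK'ker x (hπ₁zero x hx)) (hK'ker y (hπ₁zero y hy))
    have hψ₁kill : ∃ r : ℕ, ∀ x ∈ (I.map (Ideal.Quotient.mk J)) ^ r, ψ₁ x = 0 := by
      obtain ⟨r, hr⟩ := hψ
      refine ⟨r + r, fun x hx => ?_⟩
      rw [pow_add] at hx
      refine Submodule.mul_induction_on hx ?_ ?_
      · intro a ha b hb
        rw [map_mul]
        apply hsq₂
        · rw [hψ₁', hr a ha]
        · rw [hψ₁', hr b hb]
      · intro x y hx hy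
        rw [map_add, hx, hy, add_zero]
    have hQK₁ : ∀ c ∈ Q ^ t, ∀ e : E, π₁ e = ψ₁ c → ∀ x : E, π₁ x = 0 → e * x = 0 := by
      intro c hc e he x hx
      have hx' : x ∈ K' := hπ₁zero x hx
      have heπ : π e = ψ c := by rw [← hπ₂₁, he, hψ₁']
      rw [hK'def] at hx'
      refine Submodule.span_induction (p := fun x _ => e * x = 0) ?_ ?_ ?_ ?_ hx'
      · rintro _ ⟨c₁, hc₁, e₁, x₁, he₁, hx₁, rfl⟩
        rw [← mul_assoc]
        refine hQK (c * c₁) ?_ (e * e₁) ?_ x₁ hx₁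
        · rw [pow_succ]; exact Ideal.mul_mem_mul hc hc₁
        · rw [map_mul, map_mul, heπ, he₁]
      · exact mul_zero _
      · intro x y _ _ hx hy; rw [mul_add, hx, hy, add_zero]
      · intro a x _ hx; rw [smul_eq_mul, mul_left_comm, hx, mul_zero]
    obtain ⟨χ, hχ⟩ := ih π₁ hπ₁surj hsq₁ ψ₁ hψ₁kill hQK₁
    refine ⟨χ, AlgHom.ext fun c => ?_⟩
    have h1 : π₁ (χ c) = ψ₁ c := AlgHom.congr_fun hχ c
    show π (χ c) = ψ c
    rw [← hπ₂₁, ← hψ₁']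
    exact congrArg π₂ h1

theorem backward (hB : CAlgX.IsAdicFormallySmooth A B I)
    (hQ' : ∃ m : ℕ, Q ^ m ≤ I.map (Ideal.Quotient.mk J))
    (g : kQ ⊗[B] ((B ⧸ J) ⊗[B] Ω[B⁄A]) →ₗ[kQ] kQ ⊗[B] CotJ)
    (hg : g ∘ₗ LinearMap.baseChange kQ (KaehlerDifferential.kerCotangentToTensor A B (B ⧸ J)) =
          LinearMap.id) :
    CAlgX.IsAdicFormallySmooth A (B ⧸ J) (I.map (Ideal.Quotient.mk J)) := by
  intro E _ _ K hK ψ hψ
  obtain ⟨m, hm⟩ := hQ'
  obtain ⟨r, hr⟩ := hψ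
  have hsq : ∀ x y, (Ideal.Quotient.mkₐ A K) x = 0 → (Ideal.Quotient.mkₐ A K) y = 0 →
      x * y = 0 := by
    intro x y hx hy
    have hx' : x ∈ K := Ideal.Quotient.eq_zero_iff_mem.1 hx
    have hy' : y ∈ K := Ideal.Quotient.eq_zero_iff_mem.1 hy
    have : x * y ∈ K ^ 2 := by rw [pow_two]; exact Ideal.mul_mem_mul hx' hy'
    rw [hK] at this
    exact (Ideal.mem_bot).1 this
  refine induct I J Q hB g hg (m * r) (Ideal.Quotient.mkₐ A K)
    (Ideal.Quotient.mkₐ_surjective A K) hsq ψ ⟨r, hr⟩ ?_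
  intro c hc e he x hx
  have hc' : c ∈ (I.map (Ideal.Quotient.mk J)) ^ r := by
    have : Q ^ (m * r) ≤ (I.map (Ideal.Quotient.mk J)) ^ r := by
      rw [pow_mul]; exact Ideal.pow_right_mono hm r
    exact this hc
  rw [hr c hc'] at he
  exact hsq e x he hx

end Core

section Forward

variable {A B : Type u} [CommRing A] [CommRing B] [Algebra A B] (I J : Ideal B)
  (Q : Ideal (B ⧸ J))

local notation "CotJ" => Ideal.Cotangent (RingHom.ker (algebraMap B (B ⧸ J)))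
local notation "kQ" => (B ⧸ J) ⧸ Q

theorem forward [IsNoetherianRing B] (hQ : ∃ n : ℕ, (I.map (Ideal.Quotient.mk J)) ^ n ≤ Q)
    (hC : CAlgX.IsAdicFormallySmooth A (B ⧸ J) (I.map (Ideal.Quotient.mk J))) :
    ∃ g : kQ ⊗[B] ((B ⧸ J) ⊗[B] Ω[B⁄A]) →ₗ[kQ] kQ ⊗[B] CotJ,
        g ∘ₗ LinearMap.baseChange kQ (KaehlerDifferential.kerCotangentToTensor A B (B ⧸ J)) =
          LinearMap.id := by
  classical
  obtain ⟨n, hn⟩ := hQ
  obtain ⟨Q', hQ'def⟩ : ∃ Q' : Ideal B, Q' = Q.comap (Ideal.Quotient.mk J) := ⟨_, rfl⟩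
  have hQ'mem : ∀ x, x ∈ Q' ↔ Ideal.Quotient.mk J x ∈ Q := by
    intro x; rw [hQ'def, Ideal.mem_comap]
  have hJQ' : J ≤ Q' := by
    intro x hx
    rw [hQ'mem, Ideal.Quotient.eq_zero_iff_mem.2 hx]; exact Q.zero_mem
  have hIQ' : I ^ n ≤ Q' := by
    intro x hx
    rw [hQ'mem]
    apply hn
    rw [← Ideal.map_pow]; exact Ideal.mem_map_of_mem _ hx
  have hmemJ : ∀ x : B, x ∈ RingHom.ker (algebraMap B (B ⧸ J)) ↔ x ∈ J := by
    intro x
    rw [RingHom.mem_ker]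
    exact Ideal.Quotient.eq_zero_iff_mem
  -- Artin–Rees
  obtain ⟨c, hc⟩ := Ideal.exists_pow_inf_eq_pow_smul I (J : Submodule B B)
  obtain ⟨N, hNdef⟩ : ∃ N : ℕ, N = c + n := ⟨_, rfl⟩
  have htop : ∀ k : ℕ, (I ^ k • (⊤ : Submodule B B)) = I ^ k := fun k => by
    rw [Ideal.smul_eq_mul, Ideal.mul_top]
  have hAR : ∀ x, x ∈ I ^ N → x ∈ J → x ∈ Q' * J := by
    intro x hxI hxJ
    have h1 := hc N (by rw [hNdef]; exact Nat.le_add_right c n)
    have hx' : x ∈ (I ^ N • (⊤ : Submodule B B) ⊓ J) := by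
      rw [htop]; exact ⟨hxI, hxJ⟩
    rw [h1] at hx'
    have hNc : N - c = n := by omega
    rw [hNc] at hx'
    have h2 : (I ^ n • (I ^ c • (⊤ : Submodule B B) ⊓ J) : Submodule B B) ≤ Q' * J := by
      rw [Submodule.smul_le]
      intro a ha y hy
      exact Ideal.mul_mem_mul (hIQ' ha) hy.2
    exact h2 hx'
  -- the test extension
  obtain ⟨L, hLdef⟩ : ∃ L : Ideal B, L = Q' * J ⊔ I ^ N := ⟨_, rfl⟩
  have hL1 : Q' * J ≤ L := by rw [hLdef]; exact le_sup_left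
  have hL2 : I ^ N ≤ L := by rw [hLdef]; exact le_sup_right
  obtain ⟨KE, hKEdef⟩ : ∃ KE : Ideal (B ⧸ L), KE = (J ⊔ I ^ N).map (Ideal.Quotient.mk L) :=
    ⟨_, rfl⟩
  have hKE : KE ^ 2 = ⊥ := by
    rw [hKEdef, ← Ideal.map_pow, eq_bot_iff, Ideal.map_le_iff_le_comap]
    intro x hx
    rw [Ideal.mem_comap, Ideal.mem_bot, Ideal.Quotient.eq_zero_iff_mem]
    have h1 := Groth.Agent.H11.AdicJac.sup_sq_le J (I ^ N) hx
    have h2 : J ^ 2 ⊔ I ^ N ≤ L := by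
      rw [hLdef]
      exact sup_le_sup_right (by rw [pow_two]; exact Ideal.mul_mono_left hJQ') _
    exact h2 h1
  have hmemKE : ∀ y, y ∈ J ⊔ I ^ N → Ideal.Quotient.mk L y ∈ KE := by
    intro y hy; rw [hKEdef]; exact Ideal.mem_map_of_mem _ hy
  let ψ : (B ⧸ J) →ₐ[A] (B ⧸ L) ⧸ KE :=
    Ideal.Quotient.liftₐ J ((Ideal.Quotient.mkₐ A KE).comp (Ideal.Quotient.mkₐ A L)) (by
      intro a ha
      show Ideal.Quotient.mk KE (Ideal.Quotient.mk L a) = 0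
      rw [Ideal.Quotient.eq_zero_iff_mem]
      exact hmemKE a (Ideal.mem_sup_left ha))
  have hψmk : ∀ b : B, ψ (Ideal.Quotient.mk J b) = Ideal.Quotient.mk KE (Ideal.Quotient.mk L b) :=
    fun b => rfl
  have hψkill : ∀ x ∈ (I.map (Ideal.Quotient.mk J)) ^ N, ψ x = 0 := by
    intro x hx
    rw [← Ideal.map_pow, Ideal.mem_map_iff_of_surjective _ Ideal.Quotient.mk_surjective] at hx
    obtain ⟨y, hy, rfl⟩ := hx
    rw [hψmk, Ideal.Quotient.eq_zero_iff_mem]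
    exact hmemKE y (Ideal.mem_sup_right hy)
  obtain ⟨σ, hσ⟩ := hC (B ⧸ L) KE hKE ψ ⟨N, hψkill⟩
  have hσ' : ∀ b : B, Ideal.Quotient.mk KE (σ (Ideal.Quotient.mk J b)) =
      Ideal.Quotient.mk KE (Ideal.Quotient.mk L b) := fun b => AlgHom.congr_fun hσ _
  have hdiff : ∀ b : B, ∃ x ∈ J,
      Ideal.Quotient.mk L b - σ (Ideal.Quotient.mk J b) = Ideal.Quotient.mk L x := by
    intro b
    have h1 : Ideal.Quotient.mk L b - σ (Ideal.Quotient.mk J b) ∈ KE := by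
      rw [← Ideal.Quotient.eq]
      exact (hσ' b).symm
    rw [hKEdef, Ideal.mem_map_iff_of_surjective _ Ideal.Quotient.mk_surjective] at h1
    obtain ⟨y, hy, hy'⟩ := h1
    obtain ⟨x, hx, i, hi, rfl⟩ := Submodule.mem_sup.1 hy
    refine ⟨x, hx, ?_⟩
    rw [← hy', map_add]
    have : Ideal.Quotient.mk L i = 0 := Ideal.Quotient.eq_zero_iff_mem.2 (hL2 hi)
    rw [this, add_zero]
  let p : B →ₐ[A] B ⧸ L := Ideal.Quotient.mkₐ A L
  let s : B →ₐ[A] B ⧸ L := σ.comp (Ideal.Quotient.mkₐ A J)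
  have hp : ∀ b, p b = Ideal.Quotient.mk L b := fun b => rfl
  have hs : ∀ b, s b = σ (Ideal.Quotient.mk J b) := fun b => rfl
  have hprod : ∀ a b : B, (p a - s a) * (p b - s b) = 0 := by
    intro a b
    obtain ⟨x, hx, hxe⟩ := hdiff a
    obtain ⟨y, hy, hye⟩ := hdiff b
    rw [hp, hs, hp, hs, hxe, hye, ← map_mul, Ideal.Quotient.eq_zero_iff_mem]
    exact hL1 (Ideal.mul_mem_mul (hJQ' hx) hy)
  let D₁ : Derivation A B (B ⧸ L) := Derivation.mk' (p.toLinearMap - s.toLinearMap) (by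
    intro a b
    show p (a * b) - s (a * b) = a • (p b - s b) + b • (p a - s a)
    rw [Algebra.smul_def, Algebra.smul_def]
    show p (a * b) - s (a * b) = p a * (p b - s b) + p b * (p a - s a)
    rw [map_mul, map_mul]
    linear_combination (-1 : B ⧸ L) * hprod a b)
  have hD₁ : ∀ b, D₁ b = Ideal.Quotient.mk L b - σ (Ideal.Quotient.mk J b) := fun b => rfl
  let v : Ω[B⁄A] →ₗ[B] B ⧸ L := D₁.liftKaehlerDifferential
  have hv : ∀ b, v (D A B b) = D₁ b := fun b => Derivation.liftKaehlerDifferential_comp_D _ b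
  let τ' : ↥(RingHom.ker (algebraMap B (B ⧸ J))) →ₗ[B] B ⧸ L :=
    (Algebra.linearMap B (B ⧸ L)).domRestrict _
  have hτ' : ∀ x, τ' x = Ideal.Quotient.mk L (x : B) := fun x => rfl
  have hv_range : ∀ ω, v ω ∈ LinearMap.range τ' := by
    intro ω
    have hω : ω ∈ Submodule.span B (Set.range (D A B)) := by
      rw [KaehlerDifferential.span_range_derivation]; exact Submodule.mem_top
    refine Submodule.span_induction (p := fun ω _ => v ω ∈ LinearMap.range τ') ?_ ?_ ?_ ?_ hω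
    · rintro _ ⟨b, rfl⟩
      rw [hv, hD₁]
      obtain ⟨x, hx, hxe⟩ := hdiff b
      refine ⟨⟨x, (hmemJ x).2 hx⟩, ?_⟩
      rw [hτ', hxe]
    · rw [map_zero]; exact zero_mem _
    · intro x y _ _ hx hy; rw [map_add]; exact add_mem hx hy
    · intro a x _ hx; rw [map_smul]; exact Submodule.smul_mem _ a hx
  let vR : Ω[B⁄A] →ₗ[B] ↥(LinearMap.range τ') := LinearMap.codRestrict _ v hv_range
  let f : CotJ →ₗ[B] kQ ⊗[B] CotJ := TensorProduct.mk B kQ _ 1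
  have hf1 : ∀ ξ, f ξ = (1 : kQ) ⊗ₜ[B] ξ := fun ξ => rfl
  let ρ' : ↥(RingHom.ker (algebraMap B (B ⧸ J))) →ₗ[B] kQ ⊗[B] CotJ :=
    f ∘ₗ Ideal.toCotangent _
  have hρ' : ∀ x, ρ' x = (1 : kQ) ⊗ₜ[B] (Ideal.toCotangent _ x) := fun x => rfl
  have hzero : ∀ z ∈ Q' * J, ∃ hz : z ∈ RingHom.ker (algebraMap B (B ⧸ J)),
      (1 : kQ) ⊗ₜ[B] (Ideal.toCotangent _ ⟨z, hz⟩) = 0 := by
    intro z hz
    refine Submodule.mul_induction_on hz ?_ ?_
    · intro a ha x hx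
      have hx' : x ∈ RingHom.ker (algebraMap B (B ⧸ J)) := (hmemJ x).2 hx
      refine ⟨Ideal.mul_mem_left _ _ hx', ?_⟩
      have h1 : (⟨a * x, Ideal.mul_mem_left _ _ hx'⟩ : ↥(RingHom.ker (algebraMap B (B ⧸ J)))) =
          a • ⟨x, hx'⟩ := rfl
      rw [h1, map_smul, ← TensorProduct.smul_tmul, ← Algebra.algebraMap_eq_smul_one]
      have h2 : algebraMap B kQ a = 0 := by
        show Ideal.Quotient.mk Q (Ideal.Quotient.mk J a) = 0
        exact Ideal.Quotient.eq_zero_iff_mem.2 ((hQ'mem a).1 ha)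
      rw [h2, zero_tmul]
    · rintro x y ⟨hx, hx0⟩ ⟨hy, hy0⟩
      refine ⟨add_mem hx hy, ?_⟩
      have h1 : (⟨x + y, add_mem hx hy⟩ : ↥(RingHom.ker (algebraMap B (B ⧸ J)))) =
          ⟨x, hx⟩ + ⟨y, hy⟩ := rfl
      rw [h1, map_add, tmul_add, hx0, hy0, add_zero]
  have hker : LinearMap.ker τ' ≤ LinearMap.ker ρ' := by
    intro x hx
    rw [LinearMap.mem_ker] at hx ⊢
    rw [hτ'] at hx
    have hxL : (x : B) ∈ L := Ideal.Quotient.eq_zero_iff_mem.1 hx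
    rw [hLdef] at hxL
    obtain ⟨y, hy, i, hi, hyi⟩ := Submodule.mem_sup.1 hxL
    have hxJ : (x : B) ∈ J := (hmemJ _).1 x.2
    have hiJ : i ∈ J := by
      have : i = x - y := by rw [← hyi]; ring
      rw [this]
      exact sub_mem hxJ (Ideal.mul_le_right hy)
    have hxQJ : (x : B) ∈ Q' * J := by
      rw [← hyi]; exact add_mem hy (hAR i hi hiJ)
    obtain ⟨hz, h0⟩ := hzero x hxQJ
    rw [hρ']
    exact h0
  let ρ : ↥(LinearMap.range τ') →ₗ[B] kQ ⊗[B] CotJ :=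
    (Submodule.liftQ _ ρ' hker) ∘ₗ (τ'.quotKerEquivRange).symm.toLinearMap
  have hρ : ∀ (x : ↥(RingHom.ker (algebraMap B (B ⧸ J)))) (h : τ' x ∈ LinearMap.range τ'),
      ρ ⟨τ' x, h⟩ = ρ' x := by
    intro x h
    show (Submodule.liftQ _ ρ' hker) ((τ'.quotKerEquivRange).symm ⟨τ' x, h⟩) = ρ' x
    rw [LinearMap.quotKerEquivRange_symm_apply_image, Submodule.mkQ_apply, Submodule.liftQ_apply]
  let vN : Ω[B⁄A] →ₗ[B] kQ ⊗[B] CotJ := ρ ∘ₗ vR
  have hvN : ∀ x : ↥(RingHom.ker (algebraMap B (B ⧸ J))),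
      vN (D A B (x : B)) = (1 : kQ) ⊗ₜ[B] (Ideal.toCotangent _ x) := by
    intro x
    have h1 : vR (D A B (x : B)) = ⟨τ' x, ⟨x, rfl⟩⟩ := by
      apply Subtype.ext
      show v (D A B (x : B)) = τ' x
      rw [hv, hD₁, hτ']
      have : Ideal.Quotient.mk J (x : B) = 0 := Ideal.Quotient.eq_zero_iff_mem.2 ((hmemJ _).1 x.2)
      rw [this, map_zero, sub_zero]
    show ρ (vR (D A B (x : B))) = _
    rw [h1, hρ, hρ']
  let gin : (B ⧸ J) ⊗[B] Ω[B⁄A] →ₗ[B ⧸ J] kQ ⊗[B] CotJ := LinearMap.liftBaseChange (B ⧸ J) vN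
  let g : kQ ⊗[B] ((B ⧸ J) ⊗[B] Ω[B⁄A]) →ₗ[kQ] kQ ⊗[B] CotJ :=
    LinearMap.liftBaseChange kQ (gin.restrictScalars B)
  refine ⟨g, ?_⟩
  apply TensorProduct.AlgebraTensorModule.ext
  intro a ξ
  obtain ⟨x, rfl⟩ := Ideal.toCotangent_surjective _ ξ
  rw [LinearMap.comp_apply, LinearMap.baseChange_tmul, kerCotangentToTensor_toCotangent,
    LinearMap.id_apply]
  show g (a ⊗ₜ[B] ((1 : B ⧸ J) ⊗ₜ[B] D A B (x : B))) = _
  rw [LinearMap.liftBaseChange_tmul]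
  show a • (gin ((1 : B ⧸ J) ⊗ₜ[B] D A B (x : B))) = _
  rw [LinearMap.liftBaseChange_tmul, one_smul, hvN, TensorProduct.smul_tmul', smul_eq_mul, mul_one]

end Forward

end Groth.Agent.H27.AdicJacGen
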