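import Mathlib

/-!
# Flatness of quotients

`flat_of_surjective`: if `B` is a flat `A`-algebra, `A → A'` is surjective with kernel `I` and `B → S` is
surjective with kernel `I B`, then `S` is flat over `A'`.
-/

set_option autoImplicit false

open TensorProduct

namespace Groth.Agent.H27.FlatQuot

theorem flat_of_surjective {A A' B S : Type*} [CommRing A] [CommRing A'] [CommRing B] [CommRing S]
    [Algebra A A'] [Algebra A B] [Module.Flat A B] [Algebra A' S] [Algebra B S] [Algebra A S]
    [IsScalarTower A A' S] [IsScalarTower A B S]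
    (hA' : Function.Surjective (algebraMap A A'))
    (hsurj : Function.Surjective (algebraMap B S))
    (hker : RingHom.ker (algebraMap B S) = (RingHom.ker (algebraMap A A')).map (algebraMap A B)) :
    Module.Flat A' S := by
  let ℓ : A' ⊗[A] B →ₗ[A'] S :=
    LinearMap.liftBaseChange A' (IsScalarTower.toAlgHom A B S).toLinearMap
  have hℓ : ∀ (x : A') (b : B), ℓ (x ⊗ₜ[A] b) = x • algebraMap B S b := fun x b =>
    LinearMap.liftBaseChange_tmul A' _ x b
  have hrep : ∀ t : A' ⊗[A] B, ∃ b : B, t = (1 : A') ⊗ₜ[A] b := by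
    intro t
    induction t using TensorProduct.induction_on with
    | zero => exact ⟨0, by rw [tmul_zero]⟩
    | tmul x b =>
      obtain ⟨a, rfl⟩ := hA' x
      refine ⟨a • b, ?_⟩
      rw [tmul_smul, smul_tmul', Algebra.smul_def, mul_one]
    | add t₁ t₂ h₁ h₂ =>
      obtain ⟨b₁, rfl⟩ := h₁
      obtain ⟨b₂, rfl⟩ := h₂
      exact ⟨b₁ + b₂, by rw [tmul_add]⟩
  have h0 : ∀ b ∈ (RingHom.ker (algebraMap A A')).map (algebraMap A B),
      (1 : A') ⊗ₜ[A] b = 0 := by
    intro b hb
    refine Submodule.span_induction ?_ ?_ ?_ ?_ hb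
    · rintro x ⟨a, ha, rfl⟩
      have ha0 : algebraMap A A' a = 0 := ha
      rw [Algebra.algebraMap_eq_smul_one, tmul_smul, smul_tmul', Algebra.smul_def, mul_one, ha0,
        zero_tmul]
    · rw [tmul_zero]
    · intro x y _ _ hx hy
      rw [tmul_add, hx, hy, add_zero]
    · intro c x _ hx
      have : (1 : A') ⊗ₜ[A] (c • x) = ((1 : A') ⊗ₜ[A] c) * ((1 : A') ⊗ₜ[A] x) := by
        rw [Algebra.TensorProduct.tmul_mul_tmul, mul_one, smul_eq_mul]
      rw [this, hx, mul_zero]
  have hinj : Function.Injective ℓ := by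
    rw [injective_iff_map_eq_zero]
    intro t ht
    obtain ⟨b, rfl⟩ := hrep t
    rw [hℓ, one_smul] at ht
    have hb : b ∈ RingHom.ker (algebraMap B S) := ht
    rw [hker] at hb
    exact h0 b hb
  have hsur : Function.Surjective ℓ := by
    intro s
    obtain ⟨b, rfl⟩ := hsurj s
    exact ⟨(1 : A') ⊗ₜ[A] b, by rw [hℓ, one_smul]⟩
  exact Module.Flat.of_linearEquiv (LinearEquiv.ofBijective ℓ ⟨hinj, hsur⟩).symm

end Groth.Agent.H27.FlatQuot
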