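import Mathlib
import Groth.Agent.H27.FieldSmooth
import Groth.Agent.H27.FlatQuot

/-!
# Tools around formal smoothness

* `exists_lift_ringHom`: ring-hom level infinitesimal lifting for a formally smooth ring hom.
* `formallySmooth_quot_pow`: for flat `A → B` and `π ∈ A`, if `A/π → B/πB` is formally smooth then so is
  `A/π^m → B/π^m B` for all `m ≥ 1`.
* `geomReduced_of_formallySmooth`: a formally smooth field extension is geometrically reduced.
-/

set_option autoImplicit false

universe u

open TensorProduct

namespace Groth.Agent.H27.AdicSmooth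

theorem exists_lift_ringHom {R S : Type*} [CommRing R] [CommRing S] (f : R →+* S)
    (hf : f.FormallySmooth) {E : Type*} [CommRing E] (J : Ideal E) (hJ : J ^ 2 = ⊥) (u : R →+* E)
    (v : S →+* E ⧸ J) (huv : v.comp f = (Ideal.Quotient.mk J).comp u) :
    ∃ w : S →+* E, w.comp f = u ∧ (Ideal.Quotient.mk J).comp w = v := by
  letI := f.toAlgebra
  letI : Algebra R E := u.toAlgebra
  have hfs : Algebra.FormallySmooth R S := hf
  let v' : S →ₐ[R] E ⧸ J := { toRingHom := v, commutes' := fun r => RingHom.congr_fun huv r }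
  obtain ⟨w, hw⟩ := Algebra.FormallySmooth.comp_surjective R S J hJ v'
  exact ⟨w.toRingHom, RingHom.ext (fun r => w.commutes r),
    RingHom.ext (fun s => AlgHom.congr_fun hw s)⟩

theorem formallySmooth_quot_pow {A B : Type*} [CommRing A] [CommRing B] [Algebra A B]
    [Module.Flat A B] (π : A)
    (h1 : ∀ f : A ⧸ Ideal.span {π ^ 1} →+* B ⧸ Ideal.span {algebraMap A B π ^ 1},
      (∀ a, f (Ideal.Quotient.mk _ a) = Ideal.Quotient.mk _ (algebraMap A B a)) →
        f.FormallySmooth) :
    ∀ m : ℕ, 1 ≤ m → ∀ f : A ⧸ Ideal.span {π ^ m} →+* B ⧸ Ideal.span {algebraMap A B π ^ m},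
      (∀ a, f (Ideal.Quotient.mk _ a) = Ideal.Quotient.mk _ (algebraMap A B a)) →
        f.FormallySmooth := by
  intro m hm1
  induction m, hm1 using Nat.le_induction with
  | base => exact h1
  | succ m hm1 ih =>
    intro f hf
    have hleA : Ideal.span {π ^ (m + 1)} ≤ Ideal.span {π ^ m} := by
      rw [Ideal.span_singleton_le_span_singleton]
      exact pow_dvd_pow _ (Nat.le_succ m)
    have hleB : Ideal.span {algebraMap A B π ^ (m + 1)} ≤ Ideal.span {algebraMap A B π ^ m} := by
      rw [Ideal.span_singleton_le_span_singleton]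
      exact pow_dvd_pow _ (Nat.le_succ m)
    have hcomap : Ideal.span {π ^ m} ≤ Ideal.comap (algebraMap A B)
        (Ideal.span {algebraMap A B π ^ m}) := by
      rw [Ideal.span_singleton_le_iff_mem, Ideal.mem_comap, map_pow]
      exact Ideal.mem_span_singleton_self _
    let qR : A ⧸ Ideal.span {π ^ (m + 1)} →+* A ⧸ Ideal.span {π ^ m} := Ideal.Quotient.factor hleA
    let qS : B ⧸ Ideal.span {algebraMap A B π ^ (m + 1)} →+* B ⧸ Ideal.span {algebraMap A B π ^ m} :=
      Ideal.Quotient.factor hleB
    let g : A ⧸ Ideal.span {π ^ m} →+* B ⧸ Ideal.span {algebraMap A B π ^ m} :=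
      Ideal.quotientMap _ (algebraMap A B) hcomap
    have hg : ∀ a, g (Ideal.Quotient.mk _ a) = Ideal.Quotient.mk _ (algebraMap A B a) :=
      fun a => Ideal.quotientMap_mk
    have comm : qS.comp f = g.comp qR := by
      apply Ideal.Quotient.ringHom_ext
      ext a
      show qS (f (Ideal.Quotient.mk _ a)) = g (qR (Ideal.Quotient.mk _ a))
      rw [hf]
      show Ideal.Quotient.factor hleB (Ideal.Quotient.mk _ (algebraMap A B a)) =
        g (Ideal.Quotient.factor hleA (Ideal.Quotient.mk _ a))
      rw [Ideal.Quotient.factor_mk, Ideal.Quotient.factor_mk, hg]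
    have hkerR : ∀ x ∈ RingHom.ker qR, ∃ b : A, x = Ideal.Quotient.mk _ (π ^ m * b) := by
      intro x hx
      obtain ⟨a, rfl⟩ := Ideal.Quotient.mk_surjective x
      have h1 : Ideal.Quotient.mk (Ideal.span {π ^ m}) a = 0 :=
        (Ideal.Quotient.factor_mk hleA a).symm.trans ((RingHom.mem_ker).mp hx)
      rw [Ideal.Quotient.eq_zero_iff_mem, Ideal.mem_span_singleton] at h1
      obtain ⟨b, rfl⟩ := h1
      exact ⟨b, rfl⟩
    have hπmker : Ideal.Quotient.mk (Ideal.span {π ^ (m + 1)}) (π ^ m) ∈ RingHom.ker qR := by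
      rw [RingHom.mem_ker]
      show Ideal.Quotient.factor hleA (Ideal.Quotient.mk _ (π ^ m)) = 0
      rw [Ideal.Quotient.factor_mk, Ideal.Quotient.eq_zero_iff_mem]
      exact Ideal.mem_span_singleton_self _
    refine RingHom.FormallySmooth.of_flat_of_ker_eq_map_of_square_zero f ?_ qR qS g
      (Ideal.Quotient.factor_surjective hleA) (Ideal.Quotient.factor_surjective hleB) comm ?_ ?_
      (ih g hg)
    · letI : Algebra (A ⧸ Ideal.span {π ^ (m + 1)}) (B ⧸ Ideal.span {algebraMap A B π ^ (m + 1)}) :=
        f.toAlgebra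
      haveI : IsScalarTower A (A ⧸ Ideal.span {π ^ (m + 1)})
          (B ⧸ Ideal.span {algebraMap A B π ^ (m + 1)}) :=
        IsScalarTower.of_algebraMap_eq' (RingHom.ext fun a => (hf a).symm)
      show Module.Flat (A ⧸ Ideal.span {π ^ (m + 1)}) (B ⧸ Ideal.span {algebraMap A B π ^ (m + 1)})
      refine Groth.Agent.H27.FlatQuot.flat_of_surjective (A := A) (B := B)
        Ideal.Quotient.mk_surjective Ideal.Quotient.mk_surjective ?_
      rw [Ideal.Quotient.algebraMap_eq, Ideal.mk_ker, Ideal.Quotient.algebraMap_eq, Ideal.mk_ker,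
        Ideal.map_span, Set.image_singleton, map_pow]
    · rw [eq_bot_iff, pow_two, Ideal.mul_le]
      intro x hx y hy
      obtain ⟨b, rfl⟩ := hkerR x hx
      obtain ⟨b', rfl⟩ := hkerR y hy
      rw [← map_mul, Ideal.mem_bot, Ideal.Quotient.eq_zero_iff_mem, Ideal.mem_span_singleton]
      refine ⟨π ^ (m - 1) * b * b', ?_⟩
      have e : m + m = (m + 1) + (m - 1) := by omega
      calc π ^ m * b * (π ^ m * b') = π ^ (m + m) * (b * b') := by rw [pow_add π m m]; ring
        _ = π ^ (m + 1) * (π ^ (m - 1) * b * b') := by rw [e, pow_add π (m + 1) (m - 1)]; ring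
    · apply le_antisymm
      · intro y hy
        obtain ⟨b0, rfl⟩ := Ideal.Quotient.mk_surjective y
        have h1 : Ideal.Quotient.mk (Ideal.span {algebraMap A B π ^ m}) b0 = 0 :=
          (Ideal.Quotient.factor_mk hleB b0).symm.trans ((RingHom.mem_ker).mp hy)
        rw [Ideal.Quotient.eq_zero_iff_mem, Ideal.mem_span_singleton] at h1
        obtain ⟨b1, rfl⟩ := h1
        have h2 : Ideal.Quotient.mk (Ideal.span {algebraMap A B π ^ (m + 1)})
            (algebraMap A B π ^ m * b1) =
            f (Ideal.Quotient.mk _ (π ^ m)) * Ideal.Quotient.mk _ b1 := by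
          simp only [hf, map_mul, map_pow]
        rw [h2]
        exact Ideal.mul_mem_right _ _ (Ideal.mem_map_of_mem f hπmker)
      · rw [Ideal.map_le_iff_le_comap]
        intro x hx
        rw [Ideal.mem_comap, RingHom.mem_ker]
        have h : qS (f x) = g (qR x) := RingHom.congr_fun comm x
        rw [h, (RingHom.mem_ker).mp hx, map_zero]

theorem exists_lift_ringHom_nilpotent {R S : Type*} [CommRing R] [CommRing S] (f : R →+* S)
    (hf : f.FormallySmooth) {E : Type*} [CommRing E] (J : Ideal E) (hJ : IsNilpotent J)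
    (u : R →+* E) (v : S →+* E ⧸ J) (huv : v.comp f = (Ideal.Quotient.mk J).comp u) :
    ∃ w : S →+* E, w.comp f = u ∧ (Ideal.Quotient.mk J).comp w = v := by
  letI := f.toAlgebra
  letI : Algebra R E := u.toAlgebra
  have hfs : Algebra.FormallySmooth R S := hf
  let v' : S →ₐ[R] E ⧸ J := { toRingHom := v, commutes' := fun r => RingHom.congr_fun huv r }
  obtain ⟨w, hw⟩ := Algebra.FormallySmooth.exists_lift J hJ v'
  exact ⟨w.toRingHom, RingHom.ext (fun r => w.commutes r),
    RingHom.ext (fun s => AlgHom.congr_fun hw s)⟩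

theorem formallySmooth_quot_idealPow {A B : Type*} [CommRing A] [CommRing B] [Algebra A B]
    [Module.Flat A B] (I : Ideal A)
    (h1 : ∀ f : A ⧸ I ^ 1 →+* B ⧸ (I ^ 1).map (algebraMap A B),
      (∀ a, f (Ideal.Quotient.mk _ a) = Ideal.Quotient.mk _ (algebraMap A B a)) →
        f.FormallySmooth) :
    ∀ m : ℕ, 1 ≤ m → ∀ f : A ⧸ I ^ m →+* B ⧸ (I ^ m).map (algebraMap A B),
      (∀ a, f (Ideal.Quotient.mk _ a) = Ideal.Quotient.mk _ (algebraMap A B a)) →
        f.FormallySmooth := by
  intro m hm1
  induction m, hm1 using Nat.le_induction with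
  | base => exact h1
  | succ m hm1 ih =>
    intro f hf
    have hleA : I ^ (m + 1) ≤ I ^ m := Ideal.pow_le_pow_right (Nat.le_succ m)
    have hleB : (I ^ (m + 1)).map (algebraMap A B) ≤ (I ^ m).map (algebraMap A B) :=
      Ideal.map_mono hleA
    have hcomap : I ^ m ≤ Ideal.comap (algebraMap A B) ((I ^ m).map (algebraMap A B)) :=
      Ideal.le_comap_map
    let qR : A ⧸ I ^ (m + 1) →+* A ⧸ I ^ m := Ideal.Quotient.factor hleA
    let qS : B ⧸ (I ^ (m + 1)).map (algebraMap A B) →+* B ⧸ (I ^ m).map (algebraMap A B) :=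
      Ideal.Quotient.factor hleB
    let g : A ⧸ I ^ m →+* B ⧸ (I ^ m).map (algebraMap A B) :=
      Ideal.quotientMap _ (algebraMap A B) hcomap
    have hg : ∀ a, g (Ideal.Quotient.mk _ a) = Ideal.Quotient.mk _ (algebraMap A B a) :=
      fun a => Ideal.quotientMap_mk
    have comm : qS.comp f = g.comp qR := by
      apply Ideal.Quotient.ringHom_ext
      ext a
      show qS (f (Ideal.Quotient.mk _ a)) = g (qR (Ideal.Quotient.mk _ a))
      rw [hf]
      show Ideal.Quotient.factor hleB (Ideal.Quotient.mk _ (algebraMap A B a)) =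
        g (Ideal.Quotient.factor hleA (Ideal.Quotient.mk _ a))
      rw [Ideal.Quotient.factor_mk, Ideal.Quotient.factor_mk, hg]
    have hkerR : ∀ x ∈ RingHom.ker qR, ∃ a ∈ I ^ m, x = Ideal.Quotient.mk _ a := by
      intro x hx
      obtain ⟨a, rfl⟩ := Ideal.Quotient.mk_surjective x
      have h1 : Ideal.Quotient.mk (I ^ m) a = 0 :=
        (Ideal.Quotient.factor_mk hleA a).symm.trans ((RingHom.mem_ker).mp hx)
      rw [Ideal.Quotient.eq_zero_iff_mem] at h1
      exact ⟨a, h1, rfl⟩
    have hmemker : ∀ a ∈ I ^ m, Ideal.Quotient.mk (I ^ (m + 1)) a ∈ RingHom.ker qR := by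
      intro a ha
      rw [RingHom.mem_ker]
      show Ideal.Quotient.factor hleA (Ideal.Quotient.mk _ a) = 0
      rw [Ideal.Quotient.factor_mk, Ideal.Quotient.eq_zero_iff_mem]
      exact ha
    refine RingHom.FormallySmooth.of_flat_of_ker_eq_map_of_square_zero f ?_ qR qS g
      (Ideal.Quotient.factor_surjective hleA) (Ideal.Quotient.factor_surjective hleB) comm ?_ ?_
      (ih g hg)
    · letI : Algebra (A ⧸ I ^ (m + 1)) (B ⧸ (I ^ (m + 1)).map (algebraMap A B)) := f.toAlgebra
      haveI : IsScalarTower A (A ⧸ I ^ (m + 1)) (B ⧸ (I ^ (m + 1)).map (algebraMap A B)) :=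
        IsScalarTower.of_algebraMap_eq' (RingHom.ext fun a => (hf a).symm)
      show Module.Flat (A ⧸ I ^ (m + 1)) (B ⧸ (I ^ (m + 1)).map (algebraMap A B))
      refine Groth.Agent.H27.FlatQuot.flat_of_surjective (A := A) (B := B)
        Ideal.Quotient.mk_surjective Ideal.Quotient.mk_surjective ?_
      rw [Ideal.Quotient.algebraMap_eq, Ideal.mk_ker, Ideal.Quotient.algebraMap_eq, Ideal.mk_ker]
    · rw [eq_bot_iff, pow_two, Ideal.mul_le]
      intro x hx y hy
      obtain ⟨a, ha, rfl⟩ := hkerR x hx
      obtain ⟨a', ha', rfl⟩ := hkerR y hy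
      rw [← map_mul, Ideal.mem_bot, Ideal.Quotient.eq_zero_iff_mem]
      have h2 : a * a' ∈ I ^ (m + m) := by rw [pow_add]; exact Ideal.mul_mem_mul ha ha'
      exact Ideal.pow_le_pow_right (by omega) h2
    · apply le_antisymm
      · intro y hy
        obtain ⟨b0, rfl⟩ := Ideal.Quotient.mk_surjective y
        have h1 : Ideal.Quotient.mk ((I ^ m).map (algebraMap A B)) b0 = 0 :=
          (Ideal.Quotient.factor_mk hleB b0).symm.trans ((RingHom.mem_ker).mp hy)
        rw [Ideal.Quotient.eq_zero_iff_mem] at h1
        have hle : (I ^ m).map (algebraMap A B) ≤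
            Ideal.comap (Ideal.Quotient.mk ((I ^ (m + 1)).map (algebraMap A B)))
              ((RingHom.ker qR).map f) := by
          rw [Ideal.map_le_iff_le_comap]
          intro a ha
          rw [Ideal.mem_comap, Ideal.mem_comap, ← hf a]
          exact Ideal.mem_map_of_mem f (hmemker a ha)
        exact hle h1
      · rw [Ideal.map_le_iff_le_comap]
        intro x hx
        rw [Ideal.mem_comap, RingHom.mem_ker]
        have h : qS (f x) = g (qR x) := RingHom.congr_fun comm x
        rw [h, (RingHom.mem_ker).mp hx, map_zero]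

theorem isNilpotent_maximalIdeal_of_artinian (R : Type*) [CommRing R] [IsLocalRing R]
    [IsArtinianRing R] : IsNilpotent (IsLocalRing.maximalIdeal R) := by
  have := IsArtinianRing.isNilpotent_jacobson_bot (R := R)
  rwa [IsLocalRing.jacobson_eq_maximalIdeal ⊥ bot_ne_top] at this

open IsLocalRing in
/-- A formally smooth extension of fields is geometrically reduced (i.e. separable). -/
theorem geomReduced_of_formallySmooth {k K : Type u} [Field k] [Field K] [Algebra k K]
    [Algebra.FormallySmooth k K] : Algebra.IsGeometricallyReduced k K := by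
  rw [Algebra.isGeometricallyReduced_field_iff]
  have key : IsReduced (K ⊗[k] AlgebraicClosure k) := by
    apply IsReduced.tensorProduct_of_flat_of_forall_fg
    intro B hB
    haveI : Algebra.FiniteType k B := (Subalgebra.fg_iff_finiteType B).mp hB
    haveI : Algebra.IsIntegral k B := Algebra.IsIntegral.of_injective B.val Subtype.val_injective
    haveI : Module.Finite k B := Algebra.IsIntegral.finite
    have hBf : IsField B := Subalgebra.isField_of_algebraic B
    letI : Field B := hBf.toField
    have key2 : IsReduced (B ⊗[k] K) := by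
      haveI : Module.Finite K (K ⊗[k] B) := inferInstance
      haveI : IsArtinianRing (K ⊗[k] B) := IsArtinianRing.of_finite K _
      haveI : IsArtinianRing (B ⊗[k] K) :=
        (show Function.Surjective (Algebra.TensorProduct.comm k K B).toRingEquiv.toRingHom from
          (Algebra.TensorProduct.comm k K B).surjective).isArtinianRing
      apply isReduced_ofLocalizationMaximal
      intro M hM
      haveI : Algebra.FormallySmooth B (Localization.AtPrime M) :=
        Algebra.FormallySmooth.comp B (B ⊗[k] K) _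
      have hnil : IsNilpotent (maximalIdeal (Localization.AtPrime M)) := by
        exact isNilpotent_maximalIdeal_of_artinian (Localization.AtPrime M)
      have hbot := Groth.Agent.H27.FieldSmooth.maximalIdeal_eq_bot_of_field (k := B)
        (S := Localization.AtPrime M) hnil
      constructor
      intro x hx
      have hx1 : x ∈ maximalIdeal (Localization.AtPrime M) := by
        rw [IsLocalRing.mem_maximalIdeal]
        intro hu
        obtain ⟨n, hn⟩ := hx
        have hu' := hu.pow n
        rw [hn] at hu'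
        exact not_isUnit_zero hu'
      rw [hbot] at hx1
      simpa using hx1
    exact isReduced_of_injective (Algebra.TensorProduct.comm k K B).toRingEquiv.toRingHom
      (Algebra.TensorProduct.comm k K B).injective
  exact isReduced_of_injective (Algebra.TensorProduct.comm k (AlgebraicClosure k) K).toRingEquiv.toRingHom
    (Algebra.TensorProduct.comm k (AlgebraicClosure k) K).injective

end Groth.Agent.H27.AdicSmooth
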