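import Mathlib

/-!
Flat modules over a ring with a nilpotent maximal ideal: an endomorphism `φ` of a flat module `M`
is injective iff it is injective modulo `J` for any ideal `J ≤ 𝔪`, and then the cokernel is flat.
-/

namespace Groth.Agent.H27.ArtFlat

open TensorProduct

universe u v w

variable {A : Type u} [CommRing A]

theorem comm_lr {P Q M N : Type*} [AddCommGroup P] [Module A P] [AddCommGroup Q] [Module A Q]
    [AddCommGroup M] [Module A M] [AddCommGroup N] [Module A N]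
    (g : P →ₗ[A] Q) (φ : M →ₗ[A] N) (t : P ⊗[A] M) :
    g.rTensor N (φ.lTensor P t) = φ.lTensor Q (g.rTensor M t) := by
  induction t using TensorProduct.induction_on with
  | zero => simp
  | tmul p m => simp
  | add x y hx hy => simp [hx, hy]

theorem lemR (𝔪 : Ideal A) [h𝔪 : 𝔪.IsMaximal] {X Y : Type*} [AddCommGroup X] [Module A X]
    [AddCommGroup Y] [Module A Y] (hX : ∀ a ∈ 𝔪, ∀ x : X, a • x = 0)
    (hY : ∀ a ∈ 𝔪, ∀ y : Y, a • y = 0) (f : X →ₗ[A] Y) (hf : Function.Injective f) :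
    ∃ g : Y →ₗ[A] X, g ∘ₗ f = LinearMap.id := by
  letI := Ideal.Quotient.field 𝔪
  have tX : Module.IsTorsionBySet A X (𝔪 : Set A) := fun x a => hX a.1 a.2 x
  have tY : Module.IsTorsionBySet A Y (𝔪 : Set A) := fun y a => hY a.1 a.2 y
  letI : Module (A ⧸ 𝔪) X := tX.module
  letI : Module (A ⧸ 𝔪) Y := tY.module
  haveI : IsScalarTower A (A ⧸ 𝔪) X := tX.isScalarTower
  haveI : IsScalarTower A (A ⧸ 𝔪) Y := tY.isScalarTower
  have hs : Function.Surjective (algebraMap A (A ⧸ 𝔪)) := Ideal.Quotient.mk_surjective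
  obtain ⟨g, hg⟩ := (f.extendScalarsOfSurjective hs).exists_leftInverse_of_injective
    (LinearMap.ker_eq_bot.2 hf)
  refine ⟨g.restrictScalars A, LinearMap.ext fun x => ?_⟩
  exact LinearMap.congr_fun hg x

theorem lemT (𝔪 : Ideal A) [𝔪.IsMaximal] {V M N : Type*} [AddCommGroup V] [Module A V]
    [AddCommGroup M] [Module A M] [AddCommGroup N] [Module A N]
    (hV : ∀ a ∈ 𝔪, ∀ v : V, a • v = 0) (ψ : M →ₗ[A] N)
    (hψ : ∀ x, ψ x ∈ (𝔪 • ⊤ : Submodule A N) → x ∈ (𝔪 • ⊤ : Submodule A M)) :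
    Function.Injective (ψ.lTensor V) := by
  set pM : Submodule A M := 𝔪 • ⊤ with hpM
  set pN : Submodule A N := 𝔪 • ⊤ with hpN
  have hle : pM ≤ pN.comap ψ := Submodule.smul_top_le_comap_smul_top 𝔪 ψ
  set ψb : (M ⧸ pM) →ₗ[A] (N ⧸ pN) := pM.mapQ pN ψ hle with hψb
  have hinj : Function.Injective ψb := by
    rw [injective_iff_map_eq_zero]
    intro x hx
    obtain ⟨x, rfl⟩ := pM.mkQ_surjective x
    have h1 : ψ x ∈ pN := (Submodule.Quotient.mk_eq_zero _).1 hx
    exact (Submodule.Quotient.mk_eq_zero _).2 (hψ x h1)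
  have hXM : ∀ a ∈ 𝔪, ∀ x : M ⧸ pM, a • x = 0 := by
    intro a ha x
    obtain ⟨x, rfl⟩ := pM.mkQ_surjective x
    rw [← map_smul]
    exact (Submodule.Quotient.mk_eq_zero _).2 (Submodule.smul_mem_smul ha trivial)
  have hXN : ∀ a ∈ 𝔪, ∀ x : N ⧸ pN, a • x = 0 := by
    intro a ha x
    obtain ⟨x, rfl⟩ := pN.mkQ_surjective x
    rw [← map_smul]
    exact (Submodule.Quotient.mk_eq_zero _).2 (Submodule.smul_mem_smul ha trivial)
  obtain ⟨ρ, hρ⟩ := lemR 𝔪 hXM hXN ψb hinj
  have hzero : pM.subtype.lTensor V = 0 := by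
    apply TensorProduct.ext'
    intro v y
    obtain ⟨y, hy⟩ := y
    simp only [LinearMap.lTensor_tmul, Submodule.subtype_apply, LinearMap.zero_apply]
    refine Submodule.smul_induction_on hy (fun a ha m _ => ?_) (fun y1 y2 h1 h2 => ?_)
    · rw [TensorProduct.tmul_smul, TensorProduct.smul_tmul', hV a ha v, TensorProduct.zero_tmul]
    · rw [TensorProduct.tmul_add, h1, h2, add_zero]
  have hex := lTensor_exact V (LinearMap.exact_subtype_mkQ pM) (Submodule.mkQ_surjective pM)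
  rw [injective_iff_map_eq_zero]
  intro t ht
  have h5 : (ψb.lTensor V) ((pM.mkQ.lTensor V) t) = (pN.mkQ.lTensor V) ((ψ.lTensor V) t) := by
    calc (ψb.lTensor V) ((pM.mkQ.lTensor V) t) = ((ψb ∘ₗ pM.mkQ).lTensor V) t :=
          (LinearMap.lTensor_comp_apply _ _ _ _).symm
      _ = ((pN.mkQ ∘ₗ ψ).lTensor V) t := by
          rw [show ψb ∘ₗ pM.mkQ = pN.mkQ ∘ₗ ψ from LinearMap.ext fun x => rfl]
      _ = _ := LinearMap.lTensor_comp_apply _ _ _ _
  have h3 : (pM.mkQ.lTensor V) t = 0 := by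
    have h4 : (ρ.lTensor V) ((ψb.lTensor V) ((pM.mkQ.lTensor V) t)) = (pM.mkQ.lTensor V) t := by
      rw [← LinearMap.lTensor_comp_apply, hρ, LinearMap.lTensor_id, LinearMap.id_apply]
    rw [← h4, h5, ht, map_zero, map_zero]
  obtain ⟨s, rfl⟩ := (hex t).1 h3
  rw [hzero, LinearMap.zero_apply]

theorem coreK (𝔪 : Ideal A) [𝔪.IsMaximal] {M : Type v} [AddCommGroup M] [Module A M]
    [Module.Flat A M] (φ : M →ₗ[A] M)
    (hφ : ∀ x, φ x ∈ (𝔪 • ⊤ : Submodule A M) → x ∈ (𝔪 • ⊤ : Submodule A M)) :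
    ∀ (n : ℕ) (P : Type w) [AddCommGroup P] [Module A P],
      (∀ a ∈ 𝔪 ^ n, ∀ p : P, a • p = 0) → Function.Injective (φ.lTensor P) := by
  intro n
  induction n with
  | zero =>
    intro P _ _ h
    have h0 : ∀ t : P ⊗[A] M, t = 0 := by
      intro t
      induction t using TensorProduct.induction_on with
      | zero => rfl
      | tmul p m =>
        have : p = 0 := by
          have := h 1 (by simp) p
          rwa [one_smul] at this
        rw [this, TensorProduct.zero_tmul]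
      | add x y hx hy => rw [hx, hy, add_zero]
    intro t1 t2 _
    rw [h0 t1, h0 t2]
  | succ n ih =>
    intro P _ _ h
    set P' : Submodule A P := 𝔪 • ⊤ with hP'
    have hP'0 : ∀ a ∈ 𝔪 ^ n, ∀ p : P', a • p = 0 := by
      intro a ha p
      obtain ⟨p, hp⟩ := p
      apply Subtype.ext
      show a • p = 0
      refine Submodule.smul_induction_on hp (fun b hb q _ => ?_) (fun y1 y2 h1 h2 => ?_)
      · rw [← mul_smul]
        exact h (a * b) (by rw [pow_succ]; exact Ideal.mul_mem_mul ha hb) q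
      · rw [smul_add, h1, h2, add_zero]
    have hV : ∀ a ∈ 𝔪, ∀ v : P ⧸ P', a • v = 0 := by
      intro a ha v
      obtain ⟨p, rfl⟩ := P'.mkQ_surjective v
      rw [← map_smul]
      exact (Submodule.Quotient.mk_eq_zero _).2 (Submodule.smul_mem_smul ha trivial)
    have hTinj := lemT 𝔪 hV φ hφ
    have hPinj := ih P' hP'0
    have hflat : Function.Injective (P'.subtype.rTensor M) :=
      Module.Flat.rTensor_preserves_injective_linearMap _ Subtype.val_injective
    have hex := rTensor_exact M (LinearMap.exact_subtype_mkQ P') (Submodule.mkQ_surjective P')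
    rw [injective_iff_map_eq_zero]
    intro t ht
    have h1 : (P'.mkQ.rTensor M) t = 0 := by
      apply hTinj
      rw [← comm_lr, ht, map_zero, map_zero]
    obtain ⟨t', rfl⟩ := (hex t).1 h1
    have h2 : φ.lTensor P' t' = 0 := by
      apply hflat
      rw [comm_lr, ht, map_zero]
    have h3 : t' = 0 := hPinj (h2.trans (map_zero _).symm)
    rw [h3, map_zero]

theorem inj_of_lTensor {M : Type v} [AddCommGroup M] [Module A M] (φ : M →ₗ[A] M)
    (h : Function.Injective (φ.lTensor A)) : Function.Injective φ := by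
  rw [injective_iff_map_eq_zero]
  intro x hx
  have h1 : φ.lTensor A ((1 : A) ⊗ₜ x) = 0 := by
    rw [LinearMap.lTensor_tmul, hx, TensorProduct.tmul_zero]
  have h2 := h (h1.trans (map_zero _).symm)
  have h3 := congrArg (TensorProduct.lid A M) h2
  simpa using h3

theorem mem_of_lTensor {M : Type v} [AddCommGroup M] [Module A M] (φ : M →ₗ[A] M) (J : Ideal A)
    (h : Function.Injective (φ.lTensor (A ⧸ J))) (x : M)
    (hx : φ x ∈ (J • ⊤ : Submodule A M)) : x ∈ (J • ⊤ : Submodule A M) := by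
  have h1 : φ.lTensor (A ⧸ J) ((1 : A ⧸ J) ⊗ₜ x) = 0 := by
    rw [LinearMap.lTensor_tmul]
    apply (TensorProduct.quotTensorEquivQuotSMul M J).injective
    rw [TensorProduct.quotTensorEquivQuotSMul_mk_one_tmul, map_zero]
    exact (Submodule.Quotient.mk_eq_zero _).2 hx
  have h2 := h (h1.trans (map_zero _).symm)
  have h3 := congrArg (TensorProduct.quotTensorEquivQuotSMul M J) h2
  rw [TensorProduct.quotTensorEquivQuotSMul_mk_one_tmul, map_zero] at h3
  exact (Submodule.Quotient.mk_eq_zero _).1 h3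

theorem flat_coker {M : Type v} [AddCommGroup M] [Module A M] [Module.Flat A M] (φ : M →ₗ[A] M)
    (h : ∀ J : Ideal A, Function.Injective (φ.lTensor (A ⧸ J))) :
    Module.Flat A (M ⧸ LinearMap.range φ) := by
  rw [Module.Flat.iff_rTensor_injective']
  intro J
  have hπ : Function.Surjective (LinearMap.range φ).mkQ := Submodule.mkQ_surjective _
  have hex1 : Function.Exact φ (LinearMap.range φ).mkQ := LinearMap.exact_map_mkQ_range φ
  rw [injective_iff_map_eq_zero]
  intro t ht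
  obtain ⟨t', rfl⟩ := LinearMap.lTensor_surjective J hπ t
  have h1 : (LinearMap.range φ).mkQ.lTensor A (J.subtype.rTensor M t') = 0 := by
    rw [← comm_lr]; exact ht
  obtain ⟨y, hy⟩ := (lTensor_exact A hex1 hπ (J.subtype.rTensor M t')).1 h1
  have hexcol := rTensor_exact M (LinearMap.exact_subtype_mkQ J) (Submodule.mkQ_surjective J)
  have h3 : φ.lTensor (A ⧸ J) (J.mkQ.rTensor M y) = 0 := by
    rw [← comm_lr, hy]
    exact (hexcol _).2 ⟨t', rfl⟩
  have h4 : J.mkQ.rTensor M y = 0 := h J (h3.trans (map_zero _).symm)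
  obtain ⟨t'', rfl⟩ := (hexcol y).1 h4
  have h5 : J.subtype.rTensor M (φ.lTensor J t'') = J.subtype.rTensor M t' := by
    rw [comm_lr, hy]
  have hflat : Function.Injective (J.subtype.rTensor M) :=
    Module.Flat.rTensor_preserves_injective_linearMap _ Subtype.val_injective
  have h6 : φ.lTensor J t'' = t' := hflat h5
  rw [← h6, ← LinearMap.lTensor_comp_apply]
  have : (LinearMap.range φ).mkQ ∘ₗ φ = 0 := by
    ext x
    exact (Submodule.Quotient.mk_eq_zero _).2 ⟨x, rfl⟩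
  rw [this, LinearMap.lTensor_zero, LinearMap.zero_apply]

theorem exists_rep {M : Type v} [AddCommGroup M] [Module A M] (J : Ideal A) (y : M)
    (hy : y ∈ (J • ⊤ : Submodule A M)) :
    ∃ (k : ℕ) (c : Fin k → A) (m : Fin k → M), (∀ i, c i ∈ J) ∧ y = ∑ i, c i • m i := by
  refine Submodule.smul_induction_on hy
    (fun a ha m _ => ⟨1, fun _ => a, fun _ => m, fun _ => ha, by simp⟩) ?_
  rintro y1 y2 ⟨k1, c1, m1, hc1, rfl⟩ ⟨k2, c2, m2, hc2, rfl⟩
  refine ⟨k1 + k2, Fin.append c1 c2, Fin.append m1 m2, ?_, ?_⟩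
  · intro i
    refine Fin.addCases (fun i => ?_) (fun i => ?_) i
    · rw [Fin.append_left]; exact hc1 i
    · rw [Fin.append_right]; exact hc2 i
  · rw [Fin.sum_univ_add]
    try simp only [Fin.append_left, Fin.append_right]

theorem lemL2 (𝔪 : Ideal A) [h𝔪 : 𝔪.IsMaximal] (N : ℕ) (hN : 𝔪 ^ N = ⊥) (J : Ideal A)
    (hJ : J ≤ 𝔪) {M : Type v} [AddCommGroup M] [Module A M] [Module.Flat A M] (φ : M →ₗ[A] M)
    (hφ : ∀ x, φ x ∈ (J • ⊤ : Submodule A M) → x ∈ (J • ⊤ : Submodule A M)) :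
    ∀ x, φ x ∈ (𝔪 • ⊤ : Submodule A M) → x ∈ (𝔪 • ⊤ : Submodule A M) := by
  classical
  have hex : ∃ n, 𝔪 ^ n ≤ J := ⟨N, by rw [hN]; exact bot_le⟩
  have hn := Nat.find_spec hex
  have hmin := fun k => Nat.find_min hex (m := k)
  have hne : Nat.find hex ≠ 0 := by
    intro h0
    rw [h0, pow_zero, Ideal.one_eq_top] at hn
    exact h𝔪.ne_top (top_le_iff.1 (hn.trans hJ))
  obtain ⟨k, hk⟩ : ∃ k, Nat.find hex = k + 1 := Nat.exists_eq_succ_of_ne_zero hne
  rw [hk] at hn
  have hk' : ¬ 𝔪 ^ k ≤ J := hmin k (by omega)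
  obtain ⟨s, hs, hsJ⟩ := SetLike.not_le_iff_exists.1 hk'
  have hs1 : ∀ a ∈ 𝔪, s * a ∈ J :=
    fun a ha => hn (by rw [pow_succ]; exact Ideal.mul_mem_mul hs ha)
  have hs2 : ∀ a, s * a ∈ J → a ∈ 𝔪 := by
    intro a ha
    by_contra hna
    obtain ⟨y, i, hi, hyi⟩ := h𝔪.exists_inv hna
    apply hsJ
    have : s = y * (s * a) + s * i := by
      calc s = s * 1 := (mul_one s).symm
        _ = s * (y * a + i) := by rw [hyi]
        _ = _ := by ring
    rw [this]
    exact J.add_mem (J.mul_mem_left _ ha) (hs1 i hi)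
  intro x hx
  have h1 : s • φ x ∈ (J • ⊤ : Submodule A M) := by
    refine Submodule.smul_induction_on hx (fun a ha m _ => ?_) (fun y1 y2 h1 h2 => ?_)
    · rw [← mul_smul]; exact Submodule.smul_mem_smul (hs1 a ha) trivial
    · rw [smul_add]; exact add_mem h1 h2
  have h2 : s • x ∈ (J • ⊤ : Submodule A M) := hφ _ (by rw [map_smul]; exact h1)
  obtain ⟨l, c, m, hc, hrep⟩ := exists_rep J _ h2
  have h0 : ∑ o : Option (Fin l), (Option.elim o s (fun i => - c i)) • (Option.elim o x m) = 0 := by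
    rw [Fintype.sum_option]
    simp only [Option.elim_none, Option.elim_some, neg_smul, Finset.sum_neg_distrib]
    rw [hrep]; exact add_neg_cancel _
  obtain ⟨k', a, y, hxy, hrel⟩ := Module.Flat.isTrivialRelation_of_sum_smul_eq_zero h0
  have hx' := hxy none
  simp only [Option.elim_none] at hx'
  rw [hx']
  refine Submodule.sum_mem _ fun j _ => Submodule.smul_mem_smul (hs2 _ ?_) trivial
  have hj := hrel j
  rw [Fintype.sum_option] at hj
  simp only [Option.elim_none, Option.elim_some, neg_mul, Finset.sum_neg_distrib] at hj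
  have : s * a none j = ∑ i, c i * a (some i) j := by
    rwa [add_neg_eq_zero] at hj
  rw [this]
  exact J.sum_mem fun i _ => J.mul_mem_right _ (hc i)

/-- Main theorem. -/
theorem main (𝔪 : Ideal A) [𝔪.IsMaximal] (N : ℕ) (hN : 𝔪 ^ N = ⊥) (J : Ideal A) (hJ : J ≤ 𝔪)
    {M : Type v} [AddCommGroup M] [Module A M] [Module.Flat A M] (φ : M →ₗ[A] M) :
    (Function.Injective φ ↔
      ∀ x, φ x ∈ (J • ⊤ : Submodule A M) → x ∈ (J • ⊤ : Submodule A M)) ∧
    (Function.Injective φ → Module.Flat A (M ⧸ LinearMap.range φ)) := by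
  have hcore : (∀ x, φ x ∈ (𝔪 • ⊤ : Submodule A M) → x ∈ (𝔪 • ⊤ : Submodule A M)) →
      ∀ (P : Type u) [AddCommGroup P] [Module A P], Function.Injective (φ.lTensor P) := by
    intro h P _ _
    exact coreK 𝔪 φ h N P
      (fun a ha p => by rw [hN] at ha; rw [(Submodule.mem_bot A).1 ha, zero_smul])
  have hbot : Function.Injective φ → ∀ x, φ x ∈ ((⊥ : Ideal A) • ⊤ : Submodule A M) →
      x ∈ ((⊥ : Ideal A) • ⊤ : Submodule A M) := by
    intro hinj x hx
    rw [Submodule.bot_smul] at hx ⊢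
    rw [Submodule.mem_bot] at hx ⊢
    exact hinj (hx.trans (map_zero φ).symm)
  have h1 : Function.Injective φ →
      (∀ x, φ x ∈ (𝔪 • ⊤ : Submodule A M) → x ∈ (𝔪 • ⊤ : Submodule A M)) :=
    fun hinj => lemL2 𝔪 N hN ⊥ bot_le φ (hbot hinj)
  refine ⟨⟨fun hinj x hx => mem_of_lTensor φ J (hcore (h1 hinj) (A ⧸ J)) x hx,
    fun hJ' => inj_of_lTensor φ (hcore (lemL2 𝔪 N hN J hJ φ hJ') A)⟩,
    fun hinj => flat_coker φ (fun J' => hcore (h1 hinj) (A ⧸ J'))⟩

end Groth.Agent.H27.ArtFlat
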