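import Groth.Agent.H27.ArtReg

/-!
Ideals with flat quotient over a ring with nilpotent maximal ideal are determined by a sub-ideal
with the same image modulo `J`; quotient of a flat algebra by a weakly regular sequence is flat.
-/

namespace Groth.Agent.H27.ArtLift

open RingTheory.Sequence

universe u w

variable {A : Type u} [CommRing A] {S : Type w} [CommRing S] [Algebra A S]

theorem mem_mul_of_flat (J : Ideal A) (I' : Ideal S) [Module.Flat A (S ⧸ I')] (z : S)
    (hz : z ∈ I') (hzJ : z ∈ J.map (algebraMap A S)) : z ∈ J.map (algebraMap A S) * I' := by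
  have hz' : z ∈ (J • ⊤ : Submodule A S) := by rw [Ideal.smul_top_eq_map]; exact hzJ
  obtain ⟨l, c, u, hc, hrep⟩ := ArtFlat.exists_rep J z hz'
  have hsm : ∀ (c : A) (u : S), Ideal.Quotient.mk I' (c • u) = c • Ideal.Quotient.mk I' u :=
    fun c u => map_smul (Ideal.Quotient.mkₐ A I') c u
  have h0 : ∑ i, c i • (Ideal.Quotient.mk I' (u i)) = 0 := by
    have : Ideal.Quotient.mk I' z = 0 := Ideal.Quotient.eq_zero_iff_mem.2 hz
    rw [hrep, map_sum] at this
    simp only [hsm] at this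
    exact this
  obtain ⟨k, a, y, hxy, hrel⟩ := Module.Flat.isTrivialRelation_of_sum_smul_eq_zero (R := A) (M := S ⧸ I') h0
  choose y' hy' using fun j => Ideal.Quotient.mk_surjective (y j)
  have hw : ∀ i, u i - ∑ j, a i j • y' j ∈ I' := by
    intro i
    rw [← Ideal.Quotient.eq]
    have h1 : Ideal.Quotient.mk I' (u i) = ∑ j, a i j • y j := hxy i
    rw [h1, map_sum]
    simp only [hsm, hy']
  have hz2 : z = ∑ i, c i • (u i - ∑ j, a i j • y' j) := by
    rw [hrep]
    simp only [smul_sub, Finset.sum_sub_distrib]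
    have : ∑ i, c i • ∑ j, a i j • y' j = 0 := by
      simp only [Finset.smul_sum, smul_smul]
      rw [Finset.sum_comm]
      refine Finset.sum_eq_zero fun j _ => ?_
      rw [← Finset.sum_smul, hrel j, zero_smul]
    rw [this, sub_zero]
  rw [hz2]
  refine Ideal.sum_mem _ fun i _ => ?_
  rw [Algebra.smul_def]
  exact Ideal.mul_mem_mul (Ideal.mem_map_of_mem _ (hc i)) (hw i)

theorem ideal_eq_of_flat (𝔪 : Ideal A) (N : ℕ) (hN : 𝔪 ^ N = ⊥) (J : Ideal A) (hJ : J ≤ 𝔪)
    (I' 𝔞 : Ideal S) (h𝔞 : 𝔞 ≤ I') [Module.Flat A (S ⧸ I')]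
    (himg : I' ≤ 𝔞 ⊔ J.map (algebraMap A S)) : I' = 𝔞 := by
  set JS := J.map (algebraMap A S) with hJS
  have h2 : I' ≤ 𝔞 ⊔ JS * I' := by
    intro x hx
    obtain ⟨y, hy, z, hz, rfl⟩ := Submodule.mem_sup.1 (himg hx)
    have hzI : z ∈ I' := by
      have := I'.sub_mem hx (h𝔞 hy)
      rwa [add_sub_cancel_left] at this
    exact Submodule.mem_sup.2 ⟨y, hy, z, mem_mul_of_flat J I' z hzI hz, rfl⟩
  have h3 : ∀ k, I' ≤ 𝔞 ⊔ JS ^ k * I' := by
    intro k
    induction k with
    | zero => rw [pow_zero, one_mul]; exact le_sup_right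
    | succ k ih =>
      calc I' ≤ 𝔞 ⊔ JS * I' := h2
        _ ≤ 𝔞 ⊔ JS * (𝔞 ⊔ JS ^ k * I') := sup_le_sup_left (Ideal.mul_mono_right ih) _
        _ ≤ 𝔞 ⊔ JS ^ (k + 1) * I' := by
            rw [Ideal.mul_sup, ← mul_assoc, ← pow_succ']
            exact sup_le le_sup_left
              (sup_le ((Ideal.mul_le.2 (fun x _ y hy => Ideal.mul_mem_left _ x hy)).trans le_sup_left)
                le_sup_right)
  have h4 : JS ^ N = ⊥ := by
    rw [hJS, ← Ideal.map_pow]
    have : J ^ N = ⊥ := le_bot_iff.1 (by rw [← hN]; exact Ideal.pow_right_mono hJ N)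
    rw [this, Ideal.map_bot]
  refine le_antisymm ?_ h𝔞
  have := h3 N
  rwa [h4, Ideal.bot_mul, sup_bot_eq] at this

theorem flat_quot_span (𝔪 : Ideal A) [𝔪.IsMaximal] (N : ℕ) (hN : 𝔪 ^ N = ⊥) [Module.Flat A S]
    {n : ℕ} (f' : Fin n → S) (h : IsWeaklyRegular S (List.ofFn f')) :
    Module.Flat A (S ⧸ Ideal.span (Set.range f')) := by
  have hflatq := ArtReg.flat_quot_ofList' 𝔪 N hN (List.ofFn f') S h
  set q : Submodule S S := (Ideal.ofList (List.ofFn f') • ⊤ : Submodule S S) with hq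
  have hqmem : ∀ x, x ∈ q ↔ x ∈ Ideal.span (Set.range f') := by
    intro x
    have : q = Ideal.span (Set.range f') := by
      rw [hq, Ideal.smul_eq_mul, Ideal.mul_top]
      show Ideal.span _ = _
      congr 1
      ext y
      simp [List.mem_ofFn]
    rw [this]
  let g : (S ⧸ q.restrictScalars A) →ₗ[A] (S ⧸ Ideal.span (Set.range f')) :=
    (q.restrictScalars A).liftQ
      ((Ideal.Quotient.mkₐ A (Ideal.span (Set.range f'))).toLinearMap) (by
      intro x hx
      rw [LinearMap.mem_ker]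
      exact Ideal.Quotient.eq_zero_iff_mem.2 ((hqmem x).1 hx))
  have hg : Function.Bijective g := by
    constructor
    · rw [injective_iff_map_eq_zero]
      intro y hy
      obtain ⟨x, rfl⟩ := (q.restrictScalars A).mkQ_surjective y
      have hx : Ideal.Quotient.mk (Ideal.span (Set.range f')) x = 0 := hy
      rw [Ideal.Quotient.eq_zero_iff_mem] at hx
      exact (Submodule.Quotient.mk_eq_zero _).2 ((hqmem x).2 hx)
    · intro y
      obtain ⟨x, rfl⟩ := Ideal.Quotient.mk_surjective y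
      exact ⟨(q.restrictScalars A).mkQ x, rfl⟩
  exact Module.Flat.of_linearEquiv (LinearEquiv.ofBijective g hg).symm

/-- an ideal with flat quotient whose image mod `J` is generated by `a` is generated by lifts. -/
theorem exists_lifts (𝔪 : Ideal A) (N : ℕ) (hN : 𝔪 ^ N = ⊥) (J : Ideal A) (hJ : J ≤ 𝔪)
    (I' : Ideal S) [Module.Flat A (S ⧸ I')] {r : ℕ}
    (a : Fin r → S ⧸ J.map (algebraMap A S))
    (hI' : I'.map (Ideal.Quotient.mk (J.map (algebraMap A S))) = Ideal.span (Set.range a)) :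
    ∃ a' : Fin r → S, (∀ i, a' i ∈ I') ∧
      (∀ i, Ideal.Quotient.mk (J.map (algebraMap A S)) (a' i) = a i) ∧
      I' = Ideal.span (Set.range a') := by
  have hmk : Function.Surjective (Ideal.Quotient.mk (J.map (algebraMap A S))) := Ideal.Quotient.mk_surjective
  have ha_mem : ∀ i, a i ∈ I'.map (Ideal.Quotient.mk (J.map (algebraMap A S))) := fun i => by
    rw [hI']; exact Ideal.subset_span ⟨i, rfl⟩
  choose a' ha'_mem ha' using fun i => (Ideal.mem_map_iff_of_surjective _ hmk).1 (ha_mem i)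
  refine ⟨a', ha'_mem, ha', ?_⟩
  apply ideal_eq_of_flat 𝔪 N hN J hJ I' (Ideal.span (Set.range a'))
    (Ideal.span_le.2 (by rintro _ ⟨i, rfl⟩; exact ha'_mem i))
  intro x hx
  have h1 : Ideal.Quotient.mk (J.map (algebraMap A S)) x ∈ (Ideal.span (Set.range a')).map (Ideal.Quotient.mk (J.map (algebraMap A S))) := by
    rw [Ideal.map_span, ← Set.range_comp, (funext ha' : Ideal.Quotient.mk (J.map (algebraMap A S)) ∘ a' = a), ← hI']
    exact Ideal.mem_map_of_mem _ hx
  obtain ⟨y, hy, hyx⟩ := (Ideal.mem_map_iff_of_surjective _ hmk).1 h1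
  have h2 : x - y ∈ J.map (algebraMap A S) := Ideal.Quotient.eq.1 hyx.symm
  exact Submodule.mem_sup.2 ⟨y, hy, x - y, h2, by ring⟩

end Groth.Agent.H27.ArtLift
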