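import Groth.Agent.H27.ArtFlat

/-!
Regular sequences on flat modules over a ring with nilpotent maximal ideal: regularity can be
tested modulo `J`, and the quotient by a weakly regular sequence is flat over the base.
-/

namespace Groth.Agent.H27.ArtReg

open RingTheory.Sequence Submodule Pointwise

universe u v w

variable (A : Type u) [CommRing A] {S : Type w} [CommRing S] [Algebra A S]

/-- multiplication by `r : S` as an `A`-linear map. -/
noncomputable def smulMap (M : Type v) [AddCommGroup M] [Module S M] [Module A M]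
    [IsScalarTower A S M] (r : S) : M →ₗ[A] M where
  toFun x := r • x
  map_add' := smul_add r
  map_smul' a x := by rw [RingHom.id_apply]; exact smul_algebra_smul_comm a r x

variable {A}

theorem flat_transfer {M : Type v} [AddCommGroup M] [Module S M] [Module A M]
    [IsScalarTower A S M] (p : Submodule A M) (q : Submodule S M) (h : ∀ x, x ∈ p ↔ x ∈ q)
    [Module.Flat A (M ⧸ p)] : Module.Flat A (M ⧸ q) := by
  have e2 : (M ⧸ p) ≃ₗ[A] (M ⧸ q.restrictScalars A) :=
    Submodule.quotEquivOfEq p _ (by ext x; exact h x)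
  exact Module.Flat.of_linearEquiv (e2 ≪≫ₗ Submodule.Quotient.restrictScalarsEquiv A q).symm

theorem flat_quotSMulTop (𝔪 : Ideal A) [𝔪.IsMaximal] (N : ℕ) (hN : 𝔪 ^ N = ⊥) {M : Type v}
    [AddCommGroup M] [Module S M] [Module A M] [IsScalarTower A S M] [Module.Flat A M] (r : S)
    (hr : IsSMulRegular M r) : Module.Flat A (QuotSMulTop r M) := by
  have hmain := (ArtFlat.main 𝔪 N hN ⊥ bot_le (smulMap A M r)).2 hr
  haveI := hmain
  exact flat_transfer (LinearMap.range (smulMap A M r)) (r • ⊤ : Submodule S M) (fun x => by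
    rw [Submodule.mem_smul_pointwise_iff_exists]
    constructor
    · rintro ⟨y, rfl⟩; exact ⟨y, trivial, rfl⟩
    · rintro ⟨y, _, rfl⟩; exact ⟨y, rfl⟩)

theorem flat_quot_ofList (𝔪 : Ideal A) [𝔪.IsMaximal] (N : ℕ) (hN : 𝔪 ^ N = ⊥) (rs : List S) :
    ∀ (M : Type v) [AddCommGroup M] [Module S M] [Module A M] [IsScalarTower A S M]
      [Module.Flat A M], IsWeaklyRegular M rs →
      Module.Flat A (M ⧸ (Ideal.ofList rs • ⊤ : Submodule S M)) := by
  induction rs with
  | nil =>
    intro M _ _ _ _ _ _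
    have h : (Ideal.ofList ([] : List S) • ⊤ : Submodule S M) = ⊥ := by
      rw [Ideal.ofList_nil, Submodule.bot_smul]
    exact Module.Flat.of_linearEquiv ((Submodule.quotEquivOfEqBot _ h).restrictScalars A)
  | cons r rs ih =>
    intro M _ _ _ _ _ hreg
    rw [isWeaklyRegular_cons_iff] at hreg
    haveI := flat_quotSMulTop 𝔪 N hN r hreg.1
    haveI := ih (QuotSMulTop r M) hreg.2
    exact Module.Flat.of_linearEquiv
      ((Submodule.quotOfListConsSMulTopEquivQuotSMulTopInner M r rs).restrictScalars A)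

theorem flat_quot_ofList' (𝔪 : Ideal A) [𝔪.IsMaximal] (N : ℕ) (hN : 𝔪 ^ N = ⊥) (rs : List S)
    (M : Type v) [AddCommGroup M] [Module S M] [Module A M] [IsScalarTower A S M]
    [Module.Flat A M] (h : IsWeaklyRegular M rs) :
    Module.Flat A (M ⧸ (Ideal.ofList rs • ⊤ : Submodule S M).restrictScalars A) := by
  haveI := flat_quot_ofList 𝔪 N hN rs M h
  exact Module.Flat.of_linearEquiv (Submodule.Quotient.restrictScalarsEquiv A _)

theorem nontrivial_quot_iff (𝔪 : Ideal A) [𝔪.IsMaximal] (N : ℕ) (hN : 𝔪 ^ N = ⊥) (J : Ideal A)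
    (hJ : J ≤ 𝔪) {M : Type v} [AddCommGroup M] [Module S M] [Module A M] [IsScalarTower A S M]
    (Nn : Submodule S M) (hNn : ∀ x, x ∈ Nn ↔ x ∈ (J • ⊤ : Submodule A M)) :
    Nontrivial (M ⧸ Nn) ↔ Nontrivial M := by
  constructor
  · intro h; exact Nn.mkQ_surjective.nontrivial
  · intro h
    rw [Submodule.Quotient.nontrivial_iff]
    intro htop
    have h1 : (J • ⊤ : Submodule A M) = ⊤ := by
      ext x; simp only [← hNn x, htop, Submodule.mem_top]
    have h2 : ∀ n, (J ^ n • ⊤ : Submodule A M) = ⊤ := by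
      intro n
      induction n with
      | zero => rw [pow_zero, Ideal.one_eq_top, Submodule.top_smul]
      | succ n ih => rw [pow_succ', Submodule.mul_smul, ih, h1]
    have h3 : J ^ N = ⊥ := by
      apply le_bot_iff.1; rw [← hN]; exact Ideal.pow_right_mono hJ N
    have h4 := h2 N
    rw [h3, Submodule.bot_smul] at h4
    obtain ⟨x, hx⟩ := exists_ne (0 : M)
    have : x ∈ (⊥ : Submodule A M) := by rw [h4]; exact Submodule.mem_top
    exact hx ((Submodule.mem_bot A).1 this)

theorem isRegular_nil_iff (X : Type v) [AddCommGroup X] [Module S X] :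
    IsRegular X ([] : List S) ↔ Nontrivial X := by
  rw [isRegular_iff, Ideal.ofList_nil, Submodule.bot_smul]
  constructor
  · rintro ⟨_, h⟩
    by_contra hnt
    rw [not_nontrivial_iff_subsingleton] at hnt
    apply h
    ext x
    simp [Subsingleton.elim x 0]
  · intro h
    refine ⟨IsWeaklyRegular.nil S X, ?_⟩
    obtain ⟨x, hx⟩ := exists_ne (0 : X)
    intro htop
    have : x ∈ (⊥ : Submodule S X) := by rw [← htop]; exact Submodule.mem_top
    exact hx ((Submodule.mem_bot S).1 this)

theorem isRegular_iff_quot (𝔪 : Ideal A) [𝔪.IsMaximal] (N : ℕ) (hN : 𝔪 ^ N = ⊥) (J : Ideal A)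
    (hJ : J ≤ 𝔪) (rs : List S) :
    ∀ (M : Type v) [AddCommGroup M] [Module S M] [Module A M] [IsScalarTower A S M]
      [Module.Flat A M] (Nn : Submodule S M)
      (_ : ∀ x, x ∈ Nn ↔ x ∈ (J • ⊤ : Submodule A M)),
      IsRegular M rs ↔ IsRegular (M ⧸ Nn) rs := by
  induction rs with
  | nil =>
    intro M _ _ _ _ _ Nn hNn
    rw [isRegular_nil_iff, isRegular_nil_iff]
    exact (nontrivial_quot_iff 𝔪 N hN J hJ Nn hNn).symm
  | cons r rs ih =>
    intro M _ _ _ _ _ Nn hNn
    rw [isRegular_cons_iff, isRegular_cons_iff]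
    have hmain := (ArtFlat.main 𝔪 N hN J hJ (smulMap A M r)).1
    have ha : IsSMulRegular M r ↔ IsSMulRegular (M ⧸ Nn) r := by
      rw [isSMulRegular_quotient_iff_mem_of_smul_mem]
      constructor
      · intro h x hx
        have h1 := hmain.1 h x ((hNn _).1 hx)
        exact (hNn x).2 h1
      · intro h
        refine hmain.2 (fun x hx => ?_)
        exact (hNn x).1 (h x ((hNn _).2 hx))
    have hb : IsSMulRegular M r →
        (IsRegular (QuotSMulTop r M) rs ↔ IsRegular (QuotSMulTop r (M ⧸ Nn)) rs) := by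
      intro hr
      haveI := flat_quotSMulTop 𝔪 N hN r hr
      set q : Submodule S M := r • ⊤ with hq
      have hN' : ∀ x, x ∈ Nn.map q.mkQ ↔ x ∈ (J • ⊤ : Submodule A (M ⧸ q)) := by
        intro x
        constructor
        · rintro ⟨y, hy, rfl⟩
          have hy' := (hNn y).1 hy
          exact Submodule.smul_top_le_comap_smul_top J (q.mkQ.restrictScalars A) hy'
        · intro hx
          refine Submodule.smul_induction_on hx (fun a ha m _ => ?_)
            (fun y1 y2 h1 h2 => add_mem h1 h2)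
          obtain ⟨m, rfl⟩ := q.mkQ_surjective m
          refine ⟨a • m, (hNn _).2 (Submodule.smul_mem_smul ha trivial), ?_⟩
          exact LinearMap.map_smul_of_tower q.mkQ a m
      have h4 : q.map Nn.mkQ = r • (⊤ : Submodule S (M ⧸ Nn)) := by
        rw [hq, Submodule.map_pointwise_smul, Submodule.map_top, Submodule.range_mkQ]
      have E : ((M ⧸ q) ⧸ Nn.map q.mkQ) ≃ₗ[S] QuotSMulTop r (M ⧸ Nn) :=
        (Submodule.quotientQuotientEquivQuotientSup q Nn) ≪≫ₗ
          (Submodule.quotEquivOfEq _ _ (sup_comm q Nn)) ≪≫ₗ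
          (Submodule.quotientQuotientEquivQuotientSup Nn q).symm ≪≫ₗ
          (Submodule.quotEquivOfEq _ _ h4)
      rw [ih (M ⧸ q) (Nn.map q.mkQ) hN']
      exact LinearEquiv.isRegular_congr E rs
    exact ⟨fun ⟨h1, h2⟩ => ⟨ha.1 h1, (hb h1).1 h2⟩,
      fun ⟨h1, h2⟩ => ⟨ha.2 h1, (hb (ha.2 h1)).2 h2⟩⟩

/-- Ring version: a sequence in a flat `A`-algebra `S` is regular iff its image in
`S ⧸ J S` is regular. -/
theorem isRegular_ring_iff (𝔪 : Ideal A) [𝔪.IsMaximal] (N : ℕ) (hN : 𝔪 ^ N = ⊥) (J : Ideal A)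
    (hJ : J ≤ 𝔪) [Module.Flat A S] (rs : List S) :
    IsRegular S rs ↔ IsRegular (S ⧸ J.map (algebraMap A S))
      (rs.map (Ideal.Quotient.mk (J.map (algebraMap A S)))) := by
  have hmem : ∀ x : S, x ∈ (J.map (algebraMap A S) : Submodule S S) ↔
      x ∈ (J • ⊤ : Submodule A S) := by
    intro x
    rw [Ideal.smul_top_eq_map]
    rfl
  have h1 := isRegular_iff_quot 𝔪 N hN J hJ rs S (J.map (algebraMap A S)) hmem
  refine h1.trans ?_
  refine AddEquiv.isRegular_congr (e := AddEquiv.refl _) ?_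
  refine List.forall₂_map_right_iff.mpr (List.forall₂_same.mpr fun r _ x => ?_)
  obtain ⟨y, rfl⟩ := Ideal.Quotient.mk_surjective x
  rfl

end Groth.Agent.H27.ArtReg
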