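import Mathlib
import Groth.Prelude.Def_PLie

/-!
# Jacobson's formula in associative algebras of characteristic `p`, and `p`-maps from embeddings

* `assoc_jacobson`: `(a + b)^p = a^p + b^p - J(a, b)` with `J` Jacobson's sum of commutator words.
* `pmap_of_embedding`: an injective bracket-preserving linear map `e : L → A` into an associative algebra
  together with a map `ψ` with `e (ψ x) = (e x)^p` gives a `PLie.PMap` on `L`.
* `lemmaC`: `p`-maps on the three-dimensional algebras `R x ⋉_D (R y ⊕ R z)` with `D^p = s • D`.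
-/

set_option autoImplicit false
open Polynomial

namespace Groth.Agent.H27.AssocJacobson

universe u v w

section Basic

variable (R : Type u) [CommRing R] {A : Type w} [Ring A] [Algebra R A]

/-- The commutator operator `z ↦ c z - z c` as an `R`-linear endomorphism. -/
noncomputable def adE (c : A) : Module.End R A :=
  LinearMap.mulLeft R c - LinearMap.mulRight R c

theorem adE_apply (c z : A) : adE R c z = c * z - z * c := by
  simp [adE]

theorem choose_pred_cast (p q : ℕ) [hp : Fact p.Prime] [CharP R p] (hq : p = q + 1)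
    (k : ℕ) (hk : k ≤ q) : ((q.choose k : ℕ) : R) = (-1) ^ k := by
  induction k with
  | zero => simp
  | succ k ih =>
    have hk' : k ≤ q := by omega
    have h1 : q.choose (k + 1) + q.choose k = p.choose (k + 1) := by
      rw [hq, Nat.choose_succ_succ', add_comm]
    have h2 : ((p.choose (k + 1) : ℕ) : R) = 0 := by
      rw [CharP.cast_eq_zero_iff R p]
      exact hp.out.dvd_choose_self (Nat.succ_ne_zero k) (by omega)
    have h3 : ((q.choose (k + 1) : ℕ) : R) + ((q.choose k : ℕ) : R) = 0 := by
      rw [← Nat.cast_add, h1, h2]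
    rw [eq_neg_of_add_eq_zero_left h3, ih hk', pow_succ]
    ring

theorem adE_pow_pred (p q : ℕ) [hp : Fact p.Prime] [CharP R p] (hq : p = q + 1) (c z : A) :
    ((adE R c) ^ q) z = ∑ k ∈ Finset.range p, c ^ k * z * c ^ (q - k) := by
  have hcomm : Commute (LinearMap.mulLeft R c) (LinearMap.mulRight R (-c)) :=
    LinearMap.commute_mulLeft_right c (-c)
  have h1 : adE R c = LinearMap.mulLeft R c + LinearMap.mulRight R (-c) := by
    ext w; simp [adE, sub_eq_add_neg]
  rw [h1, hcomm.add_pow, ← hq, LinearMap.sum_apply]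
  refine Finset.sum_congr rfl fun k hk => ?_
  have hk' : k ≤ q := by have := Finset.mem_range.mp hk; omega
  rw [LinearMap.pow_mulLeft, LinearMap.pow_mulRight, Module.End.mul_apply, Module.End.mul_apply,
    Module.End.natCast_apply, LinearMap.mulLeft_apply, LinearMap.mulRight_apply]
  have hu : ((q.choose k : ℕ) : R) * ((-1 : R)) ^ (q - k) = 1 := by
    rw [choose_pred_cast R p q hq k hk', ← pow_add, Nat.add_sub_cancel' hk']
    have h2 : ((-1 : R)) ^ p = -1 := neg_one_pow_char R p
    rw [hq, pow_succ] at h2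
    have h3 := congrArg (fun x => -x) h2
    simpa using h3
  have e1 : ((-c) ^ (q - k) : A) = ((-1 : R) ^ (q - k)) • c ^ (q - k) := by
    rw [neg_pow, Algebra.smul_def, map_pow, map_neg, map_one]
  have e2 : ((q.choose k) • z : A) = (((q.choose k : ℕ) : R)) • z :=
    (Nat.cast_smul_eq_nsmul R _ _).symm
  rw [e1, e2, smul_mul_smul_comm, mul_smul_comm, hu, one_smul, mul_assoc]

theorem adE_pow_char (p : ℕ) [hp : Fact p.Prime] [CharP R p] (c z : A) :
    ((adE R c) ^ p) z = c ^ p * z - z * c ^ p := by
  obtain ⟨q, hq⟩ : ∃ q, p = q + 1 := ⟨p - 1, (Nat.sub_add_cancel hp.out.one_le).symm⟩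
  have h1 : ((adE R c) ^ p) z = ((adE R c) ^ q) (adE R c z) := by
    rw [hq, pow_succ, Module.End.mul_apply]
  rw [h1, adE_pow_pred R p q hq, adE_apply]
  have h2 : ∀ k ∈ Finset.range p, c ^ k * (c * z - z * c) * c ^ (q - k) =
      c ^ (k + 1) * z * c ^ (p - (k + 1)) - c ^ k * z * c ^ (p - k) := by
    intro k hk
    have hk' : k ≤ q := by have := Finset.mem_range.mp hk; omega
    have e1 : p - (k + 1) = q - k := by omega
    have e2 : p - k = (q - k) + 1 := by omega
    simp only [e1, e2, pow_succ c k, pow_succ' c (q - k), mul_sub, sub_mul, mul_assoc]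
  rw [Finset.sum_congr rfl h2, Finset.sum_range_sub (fun i => c ^ i * z * c ^ (p - i)) p]
  simp

theorem derivative_pow_noncomm {B : Type w} [Ring B] (c : B[X]) (n : ℕ) :
    derivative (c ^ n) = ∑ k ∈ Finset.range n, c ^ k * derivative c * c ^ (n - 1 - k) := by
  induction n with
  | zero => simp
  | succ n ih =>
    rw [pow_succ, derivative_mul, ih, Finset.sum_range_succ, Finset.sum_mul]
    congr 1
    · refine Finset.sum_congr rfl fun k hk => ?_
      have hk' : k < n := Finset.mem_range.mp hk
      have e1 : n + 1 - 1 - k = (n - 1 - k) + 1 := by omega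
      rw [e1, pow_succ c (n - 1 - k)]
      simp only [mul_assoc]
    · simp

/-- Commutator word `[x_{i₁}, [x_{i₂}, [ ⋯ [x_{iₙ}, z] ⋯ ]]]` with `false ↦ a`, `true ↦ b`. -/
def cw (a b z : A) : List Bool → A
  | [] => z
  | i :: l => (if i then b else a) * cw a b z l - cw a b z l * (if i then b else a)

/-- Number of `true` values. -/
def cntT {n : ℕ} (t : Fin n → Bool) : ℕ := ∑ i, if t i then 1 else 0

theorem cntT_cons {n : ℕ} (b0 : Bool) (t : Fin n → Bool) :
    cntT (Fin.cons b0 t : Fin (n + 1) → Bool) = (if b0 then 1 else 0) + cntT t := by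
  unfold cntT
  rw [Fin.sum_univ_succ]
  simp only [Fin.cons_zero, Fin.cons_succ]

theorem sum_bool_cons {M : Type*} [AddCommMonoid M] {n : ℕ} (g : (Fin (n + 1) → Bool) → M) :
    ∑ t', g t' = ∑ t : Fin n → Bool, g (Fin.cons false t) + ∑ t : Fin n → Bool, g (Fin.cons true t) := by
  have h := (Equiv.sum_comp (Fin.consEquiv (fun _ : Fin (n + 1) => Bool)) g).symm
  rw [h, Fintype.sum_prod_type, Fintype.sum_bool, add_comm]
  rfl

theorem card_false_add_cntT {n : ℕ} (t : Fin n → Bool) :
    Fintype.card {i // t i = false} + cntT t = n := by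
  rw [Fintype.card_subtype, Finset.card_filter, cntT, ← Finset.sum_add_distrib]
  have : ∀ i ∈ (Finset.univ : Finset (Fin n)),
      ((if t i = false then 1 else 0) + (if t i then 1 else 0) : ℕ) = 1 := by
    intro i _; cases t i <;> simp
  rw [Finset.sum_congr rfl this]; simp

theorem adE_monomial (a b w : A) (k : ℕ) :
    adE R (monomial 0 a + monomial 1 b : A[X]) (monomial k w) =
      monomial k (a * w - w * a) + monomial (k + 1) (b * w - w * b) := by
  rw [adE_apply]
  simp only [add_mul, mul_add, monomial_mul_monomial, zero_add, add_zero, map_sub]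
  rw [add_comm 1 k]; abel

theorem adE_pow_monomial (a b z : A) (n : ℕ) :
    ((adE R (monomial 0 a + monomial 1 b : A[X])) ^ n) (monomial 0 z) =
      ∑ t : Fin n → Bool, monomial (cntT t) (cw a b z (List.ofFn t)) := by
  induction n with
  | zero =>
    simp [cw, cntT]
  | succ n ih =>
    rw [pow_succ', Module.End.mul_apply, ih, map_sum, sum_bool_cons]
    simp only [adE_monomial, Finset.sum_add_distrib]
    congr 1
    · refine Finset.sum_congr rfl fun t _ => ?_
      rw [cntT_cons, List.ofFn_cons]
      simp [cw]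
    · refine Finset.sum_congr rfl fun t _ => ?_
      rw [cntT_cons, List.ofFn_cons]
      simp [cw, add_comm]

/-- **Jacobson's formula** in an associative algebra of characteristic `p`. -/
theorem assoc_jacobson (p q : ℕ) [hp : Fact p.Prime] [CharP R p] (hq : p = q + 1) (a b : A)
    (rr : (Fin q → Bool) → ℕ) (hrr : ∀ t, rr t + cntT t = q) :
    (a + b) ^ p = a ^ p + b ^ p -
      ∑ t : Fin q → Bool,
        ((ZMod.castHom (dvd_refl p) R) (((rr t : ℕ) : ZMod p)⁻¹)) • cw a b b (List.ofFn t) := by
  subst hq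
  obtain ⟨c, hc⟩ : ∃ c : A[X], c = monomial 0 a + monomial 1 b := ⟨_, rfl⟩
  obtain ⟨d, hd_def⟩ : ∃ d : ℕ → R, d = fun r =>
      (ZMod.castHom (dvd_refl (q + 1)) R) (((r : ℕ) : ZMod (q + 1))⁻¹) := ⟨_, rfl⟩
  have hgoal : ∀ t : Fin q → Bool,
      (ZMod.castHom (dvd_refl (q + 1)) R) (((rr t : ℕ) : ZMod (q + 1))⁻¹) = d (rr t) := by
    intro t; rw [hd_def]
  simp only [hgoal]
  have hd0 : d 0 = 0 := by rw [hd_def]; simp
  have hd : ∀ r : ℕ, 0 < r → r < q + 1 → (r : R) * d r = 1 := by
    intro r h0 h1
    have hne : ((r : ℕ) : ZMod (q + 1)) ≠ 0 := by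
      rw [Ne, CharP.cast_eq_zero_iff (ZMod (q + 1)) (q + 1)]
      exact Nat.not_dvd_of_pos_of_lt h0 h1
    have h2 : (r : R) = ZMod.castHom (dvd_refl (q + 1)) R ((r : ℕ) : ZMod (q + 1)) :=
      (map_natCast _ r).symm
    rw [hd_def]
    show (r : R) * (ZMod.castHom (dvd_refl (q + 1)) R) (((r : ℕ) : ZMod (q + 1))⁻¹) = 1
    rw [h2, ← map_mul, mul_inv_cancel₀ hne, map_one]
  -- derivative of `c ^ p`
  have hder : derivative (c ^ (q + 1)) =
      ∑ t : Fin q → Bool, monomial (cntT t) (cw a b b (List.ofFn t)) := by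
    have hc' : derivative c = monomial 0 b := by
      rw [hc]; simp [derivative_monomial]
    rw [derivative_pow_noncomm, hc', ← adE_pow_monomial R a b b q, ← hc,
      adE_pow_pred R (q + 1) q rfl]
    refine Finset.sum_congr rfl fun k _ => ?_
    rw [Nat.add_sub_cancel]
  have hdegc : c.natDegree ≤ 1 := by
    rw [hc]
    exact (natDegree_add_le _ _).trans
      (max_le ((natDegree_monomial_le a).trans (Nat.zero_le 1)) (natDegree_monomial_le b))
  have hdeg : (c ^ (q + 1)).natDegree < q + 1 + 1 := by
    have h1 := natDegree_pow_le (p := c) (n := q + 1)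
    have h2 : (q + 1) * c.natDegree ≤ (q + 1) * 1 := Nat.mul_le_mul_left _ hdegc
    omega
  have hq0 : (c ^ (q + 1)).coeff 0 = a ^ (q + 1) := by
    have h := map_pow (constantCoeff : A[X] →+* A) c (q + 1)
    rw [constantCoeff_apply, constantCoeff_apply] at h
    rw [h, hc]; simp [coeff_monomial]
  have hqp : (c ^ (q + 1)).coeff (q + 1) = b ^ (q + 1) := by
    have h := coeff_pow_of_natDegree_le (m := q + 1) hdegc
    rw [mul_one] at h
    rw [h, hc]; simp [coeff_monomial]
  have hsum : (a + b) ^ (q + 1) = ∑ j ∈ Finset.range (q + 1 + 1), (c ^ (q + 1)).coeff j := by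
    have h1 : eval₂ (RingHom.id A) (1 : A) (c ^ (q + 1)) = (a + b) ^ (q + 1) := by
      have h := map_pow (eval₂RingHom' (RingHom.id A) (1 : A) (fun x => Commute.one_right x)) c (q + 1)
      have e1 : ∀ f : A[X], eval₂RingHom' (RingHom.id A) (1 : A) (fun x => Commute.one_right x) f =
          eval₂ (RingHom.id A) 1 f := fun f => rfl
      rw [e1, e1] at h
      rw [h, hc, eval₂_add, eval₂_monomial, eval₂_monomial]
      simp
    rw [← h1, eval₂_eq_sum_range' (RingHom.id A) hdeg]
    simp
  have hcoef : ∀ i : ℕ, (c ^ (q + 1)).coeff (i + 1) * ((i : A) + 1) =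
      ∑ t : Fin q → Bool, if cntT t = i then cw a b b (List.ofFn t) else 0 := by
    intro i
    have := congrArg (fun f => f.coeff i) hder
    simpa only [coeff_derivative, finsetSum_coeff, coeff_monomial] using this
  have hkey : ∀ i : ℕ, i < q → (c ^ (q + 1)).coeff (i + 1) =
      -(d (q - i) • ∑ t : Fin q → Bool, if cntT t = i then cw a b b (List.ofFn t) else 0) := by
    intro i hi
    have hr : ((q - i : ℕ) : R) * d (q - i) = 1 := hd (q - i) (by omega) (by omega)
    have hi1 : ((i : R) + 1) = -((q - i : ℕ) : R) := by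
      have h0 : (((q - i) + (i + 1) : ℕ) : R) = 0 := by
        rw [show (q - i) + (i + 1) = q + 1 by omega]
        exact CharP.cast_eq_zero R (q + 1)
      push_cast at h0
      linear_combination h0
    have hA : ((i : A) + 1) = ((i : R) + 1) • (1 : A) := by
      rw [Algebra.smul_def, mul_one, map_add, map_natCast, map_one]
    have h3 : d (q - i) * -((q - i : ℕ) : R) = -1 := by rw [mul_neg, mul_comm, hr]
    rw [← hcoef i, hA, mul_smul_comm, mul_one, smul_smul, hi1, h3, neg_smul, one_smul, neg_neg]
  have hJ : ∑ t : Fin q → Bool, d (rr t) • cw a b b (List.ofFn t) =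
      ∑ i ∈ Finset.range (q + 1), d (q - i) •
        ∑ t : Fin q → Bool, if cntT t = i then cw a b b (List.ofFn t) else 0 := by
    have h1 : ∀ t : Fin q → Bool, d (rr t) • cw a b b (List.ofFn t) =
        ∑ i ∈ Finset.range (q + 1),
          if cntT t = i then d (q - i) • cw a b b (List.ofFn t) else 0 := by
      intro t
      have ht := hrr t
      have hmem : cntT t ∈ Finset.range (q + 1) := by rw [Finset.mem_range]; omega
      rw [Finset.sum_ite_eq, if_pos hmem]
      have : rr t = q - cntT t := by omega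
      rw [this]
    rw [Finset.sum_congr rfl (fun t _ => h1 t), Finset.sum_comm]
    refine Finset.sum_congr rfl fun i _ => ?_
    rw [Finset.smul_sum]
    refine Finset.sum_congr rfl fun t _ => ?_
    rw [smul_ite, smul_zero]
  rw [hsum, Finset.sum_range_succ, Finset.sum_range_succ', hq0, hqp, hJ, Finset.sum_range_succ,
    Nat.sub_self, hd0, zero_smul, add_zero,
    Finset.sum_congr rfl (fun i hi => hkey i (Finset.mem_range.mp hi)), Finset.sum_neg_distrib]
  abel

end Basic

section PMapEmb

variable (R : Type u) [CommRing R] {A : Type w} [Ring A] [Algebra R A]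
  {L : Type v} [LieRing L] [LieAlgebra R L]

theorem e_bracketWord (e : L →ₗ[R] A) (hbr : ∀ x y : L, e ⁅x, y⁆ = e x * e y - e y * e x)
    (x₀ x₁ z : L) (l : List Bool) :
    e (PLie.bracketWord (PLie.pair x₀ x₁) z l) = cw (e x₀) (e x₁) (e z) l := by
  induction l with
  | nil => rfl
  | cons i l ih =>
    rw [PLie.bracketWord_cons, hbr, ih]
    cases i <;> simp [cw, PLie.pair]

/-- An injective bracket-preserving linear map into an associative algebra whose image is stable under
`p`-th powers induces a `p`-map. -/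
theorem pmap_of_embedding (p : ℕ) [hp : Fact p.Prime] [CharP R p]
    (e : L →ₗ[R] A) (he : Function.Injective e)
    (hbr : ∀ x y : L, e ⁅x, y⁆ = e x * e y - e y * e x)
    (ψ : L → L) (hψ : ∀ x, e (ψ x) = e x ^ p) :
    ∃ φ : PLie.PMap R p L, ∀ x, φ x = ψ x := by
  have had : ∀ (x : L) (n : ℕ) (z : L),
      e ((LieAlgebra.ad R L x ^ n) z) = ((adE R (e x)) ^ n) (e z) := by
    intro x n
    induction n with
    | zero => intro z; simp
    | succ n ih =>
      intro z
      rw [pow_succ, Module.End.mul_apply, ih, LieAlgebra.ad_apply, hbr, pow_succ,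
        Module.End.mul_apply, adE_apply]
  refine ⟨⟨ψ, ?_, ?_, ?_⟩, fun x => rfl⟩
  · intro c x
    apply he
    rw [hψ, map_smul, map_smul, hψ, _root_.smul_pow]
  · intro x
    ext z
    apply he
    rw [had, adE_pow_char, LieAlgebra.ad_apply, hbr, hψ]
  · intro x₀ x₁
    apply he
    rw [hψ, map_add, assoc_jacobson R p (p - 1) (Nat.sub_add_cancel hp.out.one_le).symm (e x₀) (e x₁)
      (fun t => Fintype.card {i // t i = false}) (fun t => card_false_add_cntT t), map_sub, map_add,
      hψ, hψ]
    congr 1
    unfold PLie.jacobson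
    rw [map_sum]
    refine Finset.sum_congr rfl fun t _ => ?_
    rw [map_smul, e_bracketWord R e hbr]

end PMapEmb

end Groth.Agent.H27.AssocJacobson
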