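import Mathlib.LinearAlgebra.Finsupp.SumProd
import Mathlib.LinearAlgebra.Finsupp.Pi
import Mathlib.LinearAlgebra.Finsupp.LSum
import Mathlib.LinearAlgebra.Finsupp.LinearCombination
import Mathlib.LinearAlgebra.Prod
import Mathlib.SetTheory.Cardinal.Arithmetic
import Mathlib.Algebra.Module.Projective
import Mathlib.LinearAlgebra.FreeModule.Basic

set_option autoImplicit false
universe u

namespace Groth.Agent.H27

/-- Splitting finitely supported functions into a product. -/
noncomputable def finsuppProdSplit (R : Type*) (α : Type*) (M N : Type*) [Semiring R]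
    [AddCommMonoid M] [Module R M] [AddCommMonoid N] [Module R N] :
    (α →₀ M × N) ≃ₗ[R] (α →₀ M) × (α →₀ N) :=
  LinearEquiv.ofLinearMap
    ((Finsupp.mapRange.linearMap (LinearMap.fst R M N)).prod
      (Finsupp.mapRange.linearMap (LinearMap.snd R M N)))
    ((Finsupp.mapRange.linearMap (LinearMap.inl R M N)).coprod
      (Finsupp.mapRange.linearMap (LinearMap.inr R M N)))
    (by ext <;> simp) (by ext <;> simp)

/-- The shift: `P × ⨁_ℕ P ≃ ⨁_ℕ P`. -/
noncomputable def shiftEquiv (R : Type*) (P : Type*) [Semiring R] [AddCommMonoid P] [Module R P] :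
    (P × (ℕ →₀ P)) ≃ₗ[R] (ℕ →₀ P) :=
  ((Finsupp.uniqueLinearEquiv R P PUnit.unit.{1}).symm.prodCongr (LinearEquiv.refl R (ℕ →₀ P))) ≪≫ₗ
    (Finsupp.sumFinsuppLEquivProdFinsupp R).symm ≪≫ₗ
      Finsupp.domLCongr ((Equiv.sumComm _ _).trans Equiv.natSumPUnitEquivNat)

/-- For an infinite index type, `ι ≃ ℕ × ι`. -/
theorem nonempty_equiv_nat_prod (ι : Type u) [Infinite ι] : Nonempty (ι ≃ ℕ × ι) := by
  rw [← Cardinal.eq]
  simp only [Cardinal.mk_prod, Cardinal.mk_nat, Cardinal.lift_aleph0, Cardinal.lift_uzero]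
  exact (Cardinal.aleph0_mul_eq (Cardinal.aleph0_le_mk ι)).symm

/-- A free module on an infinite basis is a countable direct sum of copies of itself. -/
theorem nonempty_free_equiv_nat_finsupp (R : Type*) [Semiring R] (ι : Type u) [Infinite ι] :
    Nonempty ((ι →₀ R) ≃ₗ[R] (ℕ →₀ (ι →₀ R))) := by
  obtain ⟨e⟩ := nonempty_equiv_nat_prod ι
  exact ⟨(Finsupp.domLCongr e) ≪≫ₗ Finsupp.curryLinearEquiv (R := R)⟩

/-- Eilenberg swindle. -/
theorem eilenberg_swindle (R : Type*) [Semiring R] (P Q : Type*) [AddCommMonoid P] [Module R P]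
    [AddCommMonoid Q] [Module R Q] (ι : Type u) [Infinite ι] (e : (P × Q) ≃ₗ[R] (ι →₀ R)) :
    Nonempty ((P × (ι →₀ R)) ≃ₗ[R] (ι →₀ R)) := by
  obtain ⟨φ⟩ := nonempty_free_equiv_nat_finsupp R ι
  -- `F ≃ ⨁ P × ⨁ Q`
  let ψ : (ι →₀ R) ≃ₗ[R] (ℕ →₀ P) × (ℕ →₀ Q) :=
    φ ≪≫ₗ (Finsupp.mapRange.linearEquiv (α := ℕ) e.symm) ≪≫ₗ finsuppProdSplit R ℕ P Q
  exact ⟨(LinearEquiv.prodCongr (LinearEquiv.refl R P) ψ) ≪≫ₗ
    (LinearEquiv.prodAssoc R P (ℕ →₀ P) (ℕ →₀ Q)).symm ≪≫ₗ
    (LinearEquiv.prodCongr (shiftEquiv R P) (LinearEquiv.refl R (ℕ →₀ Q))) ≪≫ₗ ψ.symm⟩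

/-- A retraction splits the source as the product of the target and the kernel. -/
noncomputable def equivProdKerOfSection {R M P : Type*} [Ring R] [AddCommGroup M] [Module R M]
    [AddCommGroup P] [Module R P] (f : M →ₗ[R] P) (s : P →ₗ[R] M) (h : f ∘ₗ s = LinearMap.id) :
    (P × LinearMap.ker f) ≃ₗ[R] M :=
  LinearEquiv.ofLinearMap
    (s.coprod (LinearMap.ker f).subtype)
    (f.prod (LinearMap.codRestrict (LinearMap.ker f) (LinearMap.id - s ∘ₗ f) (by
      intro x
      have := LinearMap.congr_fun h (f x)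
      simp only [LinearMap.coe_comp, Function.comp_apply, LinearMap.id_coe, id_eq] at this
      simp [this])))
    (by
      ext x
      simp)
    (by
      have h' : ∀ p, f (s p) = p := fun p => LinearMap.congr_fun h p
      apply LinearMap.ext
      rintro ⟨p, k, hk⟩
      have hk' : f k = 0 := hk
      ext <;> simp [h', hk'])

/-- A projective module is a direct summand of a free module on an infinite basis in the same
universe, and so (Eilenberg swindle) becomes free after adding that free module. -/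
theorem exists_free_prod_free_of_projective (R : Type u) [Ring R] (P : Type u) [AddCommGroup P]
    [Module R P] [Module.Projective R P] : ∃ ι : Type u, Module.Free R (P × (ι →₀ R)) := by
  obtain ⟨s, hs⟩ := Module.projective_def'.mp (inferInstance : Module.Projective R P)
  let f : (P →₀ R) →ₗ[R] P := Finsupp.linearCombination R id
  let Q := LinearMap.ker f
  let e₁ : (P × Q) ≃ₗ[R] (P →₀ R) := equivProdKerOfSection f s hs
  -- enlarge to make the index type infinite
  let e₂ : (P × (Q × (ℕ →₀ R))) ≃ₗ[R] (P ⊕ ℕ →₀ R) :=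
    (LinearEquiv.prodAssoc R P Q (ℕ →₀ R)).symm ≪≫ₗ
      (LinearEquiv.prodCongr e₁ (LinearEquiv.refl R (ℕ →₀ R))) ≪≫ₗ
        (Finsupp.sumFinsuppLEquivProdFinsupp R).symm
  obtain ⟨e₃⟩ := eilenberg_swindle R P (Q × (ℕ →₀ R)) (P ⊕ ℕ) e₂
  exact ⟨P ⊕ ℕ, Module.Free.of_equiv e₃.symm⟩

end Groth.Agent.H27
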