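import Mathlib.RingTheory.PrincipalIdealDomain
import Mathlib.LinearAlgebra.FreeModule.Basic
import Mathlib.RingTheory.Finiteness.Basic
import Mathlib.LinearAlgebra.Pi
import Mathlib.LinearAlgebra.Basis.Prod
import Groth.Agent.H27.Swindle

set_option autoImplicit false
universe u v

namespace Groth.Agent.H27

/-- A linear form on `M` whose range is a nonzero principal ideal of a domain splits off a free
summand of rank one: `M ≃ R × ker φ`. -/
theorem nonempty_equiv_prod_ker_of_range_eq_span {R : Type*} {M : Type*} [CommRing R] [IsDomain R]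
    [AddCommGroup M] [Module R M] (φ : M →ₗ[R] R) (g : R) (hg : g ≠ 0)
    (h : LinearMap.range φ = Ideal.span {g}) :
    Nonempty ((R × LinearMap.ker φ) ≃ₗ[R] M) := by
  let e := LinearEquiv.toSpanNonzeroSingleton R R g hg
  let ψ : M →ₗ[R] R := e.symm.toLinearMap ∘ₗ (LinearEquiv.ofEq _ _ h).toLinearMap ∘ₗ φ.rangeRestrict
  have hψ : ∀ x, ψ x * g = φ x := by
    intro x
    have := LinearEquiv.toSpanNonzeroSingleton_symm_apply_smul (R := R) (M := R) (x := g) (h := hg)
      ((LinearEquiv.ofEq _ _ h) (φ.rangeRestrict x))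
    simpa [ψ, e] using this
  have hsurj : Function.Surjective ψ := by
    simp only [ψ, LinearMap.coe_comp, LinearEquiv.coe_coe]
    exact e.symm.surjective.comp ((LinearEquiv.ofEq _ _ h).surjective.comp φ.surjective_rangeRestrict)
  obtain ⟨x₀, hx₀⟩ := hsurj 1
  let s : R →ₗ[R] M := LinearMap.toSpanSingleton R M x₀
  have hs : ψ ∘ₗ s = LinearMap.id := by
    ext
    simp [s, hx₀]
  have hker : LinearMap.ker ψ = LinearMap.ker φ := by
    ext x
    simp only [LinearMap.mem_ker]
    rw [← hψ x]
    constructor
    · intro h0; rw [h0, zero_mul]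
    · intro h0; exact (mul_eq_zero.mp h0).resolve_right hg
  exact ⟨(LinearEquiv.prodCongr (LinearEquiv.refl R R) (LinearEquiv.ofEq _ _ hker.symm)) ≪≫ₗ
    equivProdKerOfSection ψ s hs⟩

/-- Over a Bézout domain, a finitely generated module that embeds in `R^m` is free. -/
theorem free_of_injective_to_pi {R : Type u} [CommRing R] [IsDomain R] [IsBezout R] :
    ∀ (m : ℕ) (M : Type v) [AddCommGroup M] [Module R M] [Module.Finite R M]
      (ι : M →ₗ[R] (Fin m → R)), Function.Injective ι → Module.Free R M := by
  intro m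
  induction m with
  | zero =>
    intro M _ _ _ ι hι
    haveI : Subsingleton M := hι.subsingleton
    exact Module.Free.of_subsingleton R M
  | succ m ih =>
    intro M _ _ _ ι hι
    let π0 : (Fin (m + 1) → R) →ₗ[R] R := LinearMap.proj 0
    let tl : (Fin (m + 1) → R) →ₗ[R] (Fin m → R) := LinearMap.funLeft R R Fin.succ
    let φ : M →ₗ[R] R := π0 ∘ₗ ι
    have hfg : (LinearMap.range φ).FG := by
      rw [LinearMap.range_eq_map]
      exact (Module.Finite.fg_top).map φ
    obtain ⟨g, hg⟩ := (IsBezout.isPrincipal_of_FG (LinearMap.range φ) hfg).principal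
    have key : ∀ x : M, φ x = 0 → tl (ι x) = 0 → x = 0 := by
      intro x h0 h1
      apply hι
      rw [map_zero]
      funext j
      refine Fin.cases ?_ (fun j' => ?_) j
      · exact h0
      · exact congrFun h1 j'
    by_cases hg0 : g = 0
    · have hφ : φ = 0 := by
        rw [← LinearMap.range_eq_bot, hg, hg0]
        simp
      refine ih M (tl ∘ₗ ι) ?_
      rw [← LinearMap.ker_eq_bot, LinearMap.ker_eq_bot']
      intro x hx
      exact key x (by rw [hφ]; rfl) hx
    · obtain ⟨e⟩ := nonempty_equiv_prod_ker_of_range_eq_span φ g hg0 hg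
      let p : M →ₗ[R] LinearMap.ker φ :=
        (LinearMap.snd R R (LinearMap.ker φ)) ∘ₗ e.symm.toLinearMap
      have hp : Function.Surjective p := fun y => ⟨e (0, y), by simp [p]⟩
      haveI : Module.Finite R (LinearMap.ker φ) := Module.Finite.of_surjective p hp
      haveI : Module.Free R (LinearMap.ker φ) := by
        refine ih (LinearMap.ker φ) (tl ∘ₗ ι ∘ₗ (LinearMap.ker φ).subtype) ?_
        rw [← LinearMap.ker_eq_bot, LinearMap.ker_eq_bot']
        intro x hx
        exact Subtype.ext (key x.1 x.2 hx)
      exact Module.Free.of_equiv e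

/-- Over a Bézout domain, a finitely generated submodule of a free module is free. -/
theorem free_of_fg_submodule_of_free {R : Type u} [CommRing R] [IsDomain R] [IsBezout R]
    {F : Type v} [AddCommGroup F] [Module R F] [Module.Free R F] (N : Submodule R F) (hN : N.FG) :
    Module.Free R N := by
  classical
  haveI : Module.Finite R N := Module.Finite.iff_fg.mpr hN
  let b := Module.Free.chooseBasis R F
  obtain ⟨S, hS⟩ := hN
  let J : Finset (Module.Free.ChooseBasisIndex R F) := S.biUnion fun x => (b.repr x).support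
  have hsupp : ∀ x ∈ N, b.repr x ∈ Finsupp.supported R R (J : Set (Module.Free.ChooseBasisIndex R F)) := by
    intro x hx
    have hle : N ≤ Submodule.comap b.repr.toLinearMap
        (Finsupp.supported R R (J : Set (Module.Free.ChooseBasisIndex R F))) := by
      rw [← hS, Submodule.span_le]
      intro y hy
      simp only [Submodule.comap_coe, Set.mem_preimage, SetLike.mem_coe, LinearEquiv.coe_coe,
        Finsupp.mem_supported]
      exact_mod_cast Finset.subset_biUnion_of_mem (fun x => (b.repr x).support) hy
    exact hle hx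
  let ρ : F →ₗ[R] (J → R) :=
    LinearMap.pi fun j : J => (Finsupp.lapply j.1) ∘ₗ b.repr.toLinearMap
  let ι : N →ₗ[R] (Fin J.card → R) :=
    (LinearEquiv.funCongrLeft R R J.equivFin.symm).toLinearMap ∘ₗ ρ ∘ₗ N.subtype
  refine free_of_injective_to_pi J.card N ι ?_
  rw [← LinearMap.ker_eq_bot, LinearMap.ker_eq_bot']
  intro x hx
  have hρ : ρ x.1 = 0 := by
    have : (LinearEquiv.funCongrLeft R R J.equivFin.symm) (ρ x.1) = 0 := hx
    exact (LinearEquiv.map_eq_zero_iff _).mp this
  apply Subtype.ext
  apply b.repr.injective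
  rw [ZeroMemClass.coe_zero, map_zero]
  ext i
  by_cases hi : i ∈ J
  · exact congrFun hρ ⟨i, hi⟩
  · have := (Finsupp.mem_supported R _).mp (hsupp x.1 x.2)
    have hni : i ∉ (b.repr x.1).support := fun h => hi (by exact_mod_cast this h)
    simpa using hni

end Groth.Agent.H27
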