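import Mathlib
import Groth.Agent.H27.FieldSmooth
import Groth.Agent.H15.PSEval
import Groth.Agent.H15.PSSurj

/-!
# Coefficient fields and power series presentations of complete local rings

* `exists_section`: a complete local ring containing a field has a coefficient field
  (a ring-hom section of the residue map).
* `exists_ps_hom`: for an `I`-adically complete ring `R`, a ring hom `σ : K → R` and elements
  `x i ∈ I`, there is a ring hom `K[[X_1..X_d]] → R` extending `σ` with `X i ↦ x i`.
* `exists_ps_surjection`: for a complete Noetherian local ring with a coefficient field and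
  generators `x` of the maximal ideal, that map is surjective.
-/

set_option autoImplicit false

universe u

open IsLocalRing

namespace Groth.Agent.H27.CoeffSection

theorem exists_section (R : Type u) [CommRing R] [IsLocalRing R]
    [IsAdicComplete (maximalIdeal R) R] (k₀ : Type u) [Field k₀] [Algebra k₀ R] :
    ∃ σ : ResidueField R →+* R, ∀ x, residue R (σ x) = x := by
  obtain ⟨q, hq⟩ := CharP.exists k₀
  rcases CharP.char_is_prime_or_zero k₀ q with hqp | hq0
  · haveI : Fact q.Prime := ⟨hqp⟩
    haveI : CharP R q := charP_of_injective_algebraMap (algebraMap k₀ R).injective q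
    letI : Algebra (ZMod q) R := ZMod.algebra R q
    haveI : Algebra.FormallySmooth (ZMod q) (ResidueField R) :=
      Groth.Agent.H27.FieldSmooth.formallySmooth_zmod q _
    let f : ResidueField R →ₐ[ZMod q] R ⧸ maximalIdeal R :=
      { toRingHom := RingHom.id _, commutes' := fun r => rfl }
    obtain ⟨g, hg⟩ := Algebra.FormallySmooth.exists_mkₐ_comp_eq_of_isAdicComplete
      (I := maximalIdeal R) f
    exact ⟨g.toRingHom, fun x => AlgHom.congr_fun hg x⟩
  · subst hq0
    haveI : CharZero k₀ := CharP.charP_to_charZero k₀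
    haveI : Algebra.FormallySmooth k₀ (ResidueField R) :=
      Groth.Agent.H27.FieldSmooth.formallySmooth_of_charZero k₀ _
    let f : ResidueField R →ₐ[k₀] R ⧸ maximalIdeal R :=
      { toRingHom := RingHom.id _, commutes' := fun r => rfl }
    obtain ⟨g, hg⟩ := Algebra.FormallySmooth.exists_mkₐ_comp_eq_of_isAdicComplete
      (I := maximalIdeal R) f
    exact ⟨g.toRingHom, fun x => AlgHom.congr_fun hg x⟩

theorem exists_ps_hom {K R : Type*} [CommRing K] [CommRing R] (I : Ideal R) [IsAdicComplete I R]
    (σ : K →+* R) {d : ℕ} (x : Fin d → R) (hx : ∀ i, x i ∈ I) :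
    ∃ u : MvPowerSeries (Fin d) K →+* R, (∀ a, u (MvPowerSeries.C a) = σ a) ∧
      ∀ i, u (MvPowerSeries.X i) = x i := by
  classical
  have hN : ∀ n, (Ideal.span (Set.range fun i => Ideal.Quotient.mk (I ^ n) (x i))) ^ n = ⊥ := by
    intro n
    rw [eq_bot_iff]
    have h1 : Ideal.span (Set.range fun i => Ideal.Quotient.mk (I ^ n) (x i)) ≤
        I.map (Ideal.Quotient.mk (I ^ n)) := by
      rw [Ideal.span_le]
      rintro _ ⟨i, rfl⟩
      exact Ideal.mem_map_of_mem _ (hx i)
    refine (Ideal.pow_right_mono h1 n).trans ?_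
    rw [← Ideal.map_pow, Ideal.map_quotient_self]
  choose f hfC hfX using fun n => Groth.Agent.H15.PSEval.exists_eval
    ((Ideal.Quotient.mk (I ^ n)).comp σ) (fun i => Ideal.Quotient.mk (I ^ n) (x i)) n (hN n)
  have hcompat : ∀ {m n : ℕ} (hle : m ≤ n),
      (Ideal.Quotient.factorPow I hle).comp (f n) = f m := by
    intro m n hle
    apply Groth.Agent.H15.PSEval.ringHom_ext_nilp _ _ ?_ ?_ m ?_
    · intro a
      rw [RingHom.comp_apply, hfC, hfC]
      rfl
    · intro i
      rw [RingHom.comp_apply, hfX, hfX]
      rfl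
    · have h2 : (fun i => ((Ideal.Quotient.factorPow I hle).comp (f n)) (MvPowerSeries.X i)) =
          fun i => Ideal.Quotient.mk (I ^ m) (x i) := by
        funext i
        rw [RingHom.comp_apply, hfX]
        rfl
      rw [h2]
      exact hN m
  refine ⟨IsAdicComplete.liftRingHom I f hcompat, ?_, ?_⟩
  · intro a
    rw [← sub_eq_zero]
    apply IsHausdorff.haus' (I := I)
    intro n
    rw [SModEq.sub_mem, sub_zero, smul_eq_mul, Ideal.mul_top, ← Ideal.Quotient.eq,
      IsAdicComplete.mk_liftRingHom, hfC]
    rfl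
  · intro i
    rw [← sub_eq_zero]
    apply IsHausdorff.haus' (I := I)
    intro n
    rw [SModEq.sub_mem, sub_zero, smul_eq_mul, Ideal.mul_top, ← Ideal.Quotient.eq,
      IsAdicComplete.mk_liftRingHom, hfX]

theorem exists_ps_surjection {R : Type*} [CommRing R] [IsLocalRing R] [IsNoetherianRing R]
    [IsAdicComplete (maximalIdeal R) R] (σ : ResidueField R →+* R)
    (hσ : ∀ a, residue R (σ a) = a) {d : ℕ} (x : Fin d → R)
    (hx : Ideal.span (Set.range x) = maximalIdeal R) :
    ∃ u : MvPowerSeries (Fin d) (ResidueField R) →+* R, (∀ a, u (MvPowerSeries.C a) = σ a) ∧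
      (∀ i, u (MvPowerSeries.X i) = x i) ∧ Function.Surjective u := by
  have hxm : ∀ i, x i ∈ maximalIdeal R := fun i => hx ▸ Ideal.subset_span ⟨i, rfl⟩
  obtain ⟨u, huC, huX⟩ := exists_ps_hom (maximalIdeal R) σ x hxm
  refine ⟨u, huC, huX, ?_⟩
  exact Groth.Agent.H15.PSSurj.surjective_of_retraction σ (residue R) hσ x
    (fun i => (residue_eq_zero_iff _).mpr (hxm i)) (by rw [ker_residue, hx]) u huC huX

end Groth.Agent.H27.CoeffSection
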