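import Mathlib
import Groth.Agent.H27.AdicSmooth

/-!
# Lifting ring homomorphisms out of Cohen rings

* `LP W E`: every ring hom `W → E/I` with `I` nilpotent lifts to `W → E`.
* `lp_of_field`: fields of characteristic zero have `LP` against everything.
* `lp_of_cohen`: a DVR with maximal ideal `(p)` has `LP` against rings where `p` is nilpotent.
* `lift_of_LP`: if `W` has `LP` against all `C/𝔪^n` for a complete Noetherian local ring `C`,
  then every `W → C/J` lifts to `W → C`.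
-/

set_option autoImplicit false

universe u

open IsLocalRing

namespace Groth.Agent.H27.CohenLift

theorem exists_ringHom_of_pullback {W D D₁ D₂ : Type*} [CommRing W] [CommRing D] [CommRing D₁]
    [CommRing D₂] (π₁ : D →+* D₁) (π₂ : D →+* D₂) (f : W →+* D₁) (g : W →+* D₂)
    (hex : ∀ w, ∃ d, π₁ d = f w ∧ π₂ d = g w)
    (hinj : ∀ d, π₁ d = 0 → π₂ d = 0 → d = 0) :
    ∃ h : W →+* D, π₁.comp h = f ∧ π₂.comp h = g := by
  choose φ hφ1 hφ2 using hex
  have huniq : ∀ d d', π₁ d = π₁ d' → π₂ d = π₂ d' → d = d' := by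
    intro d d' h1 h2
    have := hinj (d - d') (by rw [map_sub, h1, sub_self]) (by rw [map_sub, h2, sub_self])
    exact sub_eq_zero.mp this
  refine ⟨{ toFun := φ, map_one' := ?_, map_mul' := ?_, map_zero' := ?_, map_add' := ?_ }, ?_, ?_⟩
  · apply huniq <;> simp [hφ1, hφ2]
  · intro a b; apply huniq <;> simp [hφ1, hφ2]
  · apply huniq <;> simp [hφ1, hφ2]
  · intro a b; apply huniq <;> simp [hφ1, hφ2]
  · ext w; exact hφ1 w
  · ext w; exact hφ2 w

/-- Lifting property of `W` against nilpotent thickenings of `E`. -/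
def LP (W : Type*) [CommRing W] (E : Type*) [CommRing E] : Prop :=
  ∀ (I : Ideal E), IsNilpotent I → ∀ g : W →+* E ⧸ I,
    ∃ h : W →+* E, (Ideal.Quotient.mk I).comp h = g

theorem LP.lift_factor {W E : Type*} [CommRing W] [CommRing E] (a b : Ideal E) (hab : a ≤ b)
    (k : ℕ) (hk : b ^ k ≤ a) (hLP : LP W (E ⧸ a)) (g : W →+* E ⧸ b) :
    ∃ h : W →+* E ⧸ a, (Ideal.Quotient.factor hab).comp h = g := by
  have hI : IsNilpotent (b.map (Ideal.Quotient.mk a)) := by
    refine ⟨k, ?_⟩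
    rw [Ideal.zero_eq_bot, eq_bot_iff, ← Ideal.map_pow]
    have h1 : (b ^ k).map (Ideal.Quotient.mk a) ≤ a.map (Ideal.Quotient.mk a) := Ideal.map_mono hk
    rw [Ideal.map_quotient_self] at h1
    exact h1
  obtain ⟨h, hh⟩ := hLP _ hI
    ((DoubleQuot.quotQuotEquivQuotOfLE hab).symm.toRingHom.comp g)
  refine ⟨h, ?_⟩
  ext w
  have h1 : Ideal.Quotient.mk (b.map (Ideal.Quotient.mk a)) (h w) =
      (DoubleQuot.quotQuotEquivQuotOfLE hab).symm (g w) := RingHom.congr_fun hh w
  have h2 : (DoubleQuot.quotQuotEquivQuotOfLE hab)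
      (Ideal.Quotient.mk (b.map (Ideal.Quotient.mk a)) (h w)) = g w := by
    rw [h1, RingEquiv.apply_symm_apply]
  rw [← h2]
  obtain ⟨c, hc⟩ := Ideal.Quotient.mk_surjective (h w)
  show Ideal.Quotient.factor hab (h w) = _
  rw [← hc, Ideal.Quotient.factor_mk]
  exact (DoubleQuot.quotQuotEquivQuotOfLE_quotQuotMk c hab).symm

theorem lp_of_field (W : Type*) [Field W] [CharZero W] (E : Type*) [CommRing E] : LP W E := by
  intro I hI g
  haveI : Algebra.FormallyEtale ℤ ℚ := Algebra.FormallyEtale.of_isLocalization (nonZeroDivisors ℤ)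
  haveI : Algebra.FormallySmooth ℤ ℚ := inferInstance
  haveI : Algebra.FormallySmooth ℚ W := Groth.Agent.H27.FieldSmooth.formallySmooth_of_charZero ℚ W
  haveI : Algebra.FormallySmooth ℤ W := Algebra.FormallySmooth.comp ℤ ℚ W
  have hfs : (algebraMap ℤ W).FormallySmooth := RingHom.formallySmooth_algebraMap.mpr inferInstance
  obtain ⟨w, -, hw⟩ := Groth.Agent.H27.AdicSmooth.exists_lift_ringHom_nilpotent (algebraMap ℤ W) hfs
    I hI (Int.castRingHom E) g (Subsingleton.elim _ _)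
  exact ⟨w, hw⟩

theorem lp_of_cohen {W : Type*} [CommRing W] [IsDomain W] [IsDiscreteValuationRing W] (p : ℕ)
    (hp : p.Prime) (hm : maximalIdeal W = Ideal.span {(p : W)}) (E : Type*) [CommRing E] (k : ℕ)
    (hk : (p : E) ^ k = 0) : LP W E := by
  intro I hI g
  haveI : Fact p.Prime := ⟨hp⟩
  have hpm : (p : W) ∈ maximalIdeal W := by rw [hm]; exact Ideal.mem_span_singleton_self _
  have hp0 : (p : W) ≠ 0 := by
    intro h0
    apply IsDiscreteValuationRing.not_a_field W
    rw [hm, h0, Ideal.span_singleton_eq_bot]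
  haveI : CharZero W := by
    obtain ⟨q, hq⟩ := CharP.exists W
    rcases CharP.char_is_prime_or_zero W q with hqp | hq0
    · exfalso
      have hq0 : (q : W) = 0 := CharP.cast_eq_zero W q
      by_cases hpq : p = q
      · exact hp0 (by rw [hpq]; exact hq0)
      · have hcop : Nat.Coprime p q := (Nat.coprime_primes hp hqp).mpr hpq
        have hcopZ : IsCoprime (p : ℤ) (q : ℤ) := Nat.isCoprime_iff_coprime.mpr hcop
        obtain ⟨a, b, hab⟩ := hcopZ
        have h1 : (a : W) * (p : W) + (b : W) * (q : W) = 1 := by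
          have := congrArg (Int.cast : ℤ → W) hab
          push_cast at this
          exact this
        rw [hq0, mul_zero, add_zero] at h1
        have hunit : IsUnit (p : W) := ⟨⟨(p : W), (a : W), by rw [mul_comm]; exact h1, h1⟩, rfl⟩
        exact (IsLocalRing.mem_maximalIdeal _).mp hpm hunit
    · subst hq0
      exact CharP.charP_to_charZero W
  have hinj : Function.Injective (algebraMap ℤ W) := (algebraMap ℤ W).injective_int
  haveI : Module.IsTorsionFree ℤ W := ⟨fun r hr b b' hbb' => by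
    have hr0 : algebraMap ℤ W r ≠ 0 := fun h0 => hr.ne_zero (hinj (by rw [h0, map_zero]))
    simp only [Algebra.smul_def] at hbb'
    exact mul_left_cancel₀ hr0 hbb'⟩
  haveI : Module.Flat ℤ W := inferInstance
  have hpK : ((p : ℕ) : ResidueField W) = 0 := by
    rw [← map_natCast (residue W) p]
    exact (residue_eq_zero_iff _).mpr hpm
  haveI : CharP (ResidueField W) p := (CharP.charP_iff_prime_eq_zero hp).mpr hpK
  letI : Algebra (ZMod p) (ResidueField W) := ZMod.algebra _ p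
  haveI : Algebra.FormallySmooth (ZMod p) (ResidueField W) :=
    Groth.Agent.H27.FieldSmooth.formallySmooth_zmod p _
  have h1 : ∀ f : ℤ ⧸ Ideal.span {(p : ℤ)} ^ 1 →+*
      W ⧸ (Ideal.span {(p : ℤ)} ^ 1).map (algebraMap ℤ W),
      (∀ a, f (Ideal.Quotient.mk _ a) = Ideal.Quotient.mk _ (algebraMap ℤ W a)) →
        f.FormallySmooth := by
    intro f _
    have eA : Ideal.span {(p : ℤ)} ^ 1 = Ideal.span {(p : ℤ)} := pow_one _
    have eB : (Ideal.span {(p : ℤ)} ^ 1).map (algebraMap ℤ W) = maximalIdeal W := by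
      rw [pow_one, Ideal.map_span, Set.image_singleton, map_natCast, hm]
    let iA : ℤ ⧸ Ideal.span {(p : ℤ)} ^ 1 ≃+* ZMod p :=
      (Ideal.quotEquivOfEq eA).trans (Int.quotientSpanNatEquivZMod p)
    let iB : W ⧸ (Ideal.span {(p : ℤ)} ^ 1).map (algebraMap ℤ W) ≃+* ResidueField W :=
      Ideal.quotEquivOfEq eB
    have hfeq : f = (iB.symm.toRingHom.comp
        (algebraMap (ZMod p) (ResidueField W))).comp iA.toRingHom := by
      apply Ideal.Quotient.ringHom_ext
      exact Subsingleton.elim _ _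
    rw [hfeq]
    exact RingHom.FormallySmooth.comp (RingHom.FormallySmooth.of_bijective iA.bijective)
      (RingHom.FormallySmooth.comp (RingHom.formallySmooth_algebraMap.mpr inferInstance)
        (RingHom.FormallySmooth.of_bijective iB.symm.bijective))
  have hall := Groth.Agent.H27.AdicSmooth.formallySmooth_quot_idealPow (Ideal.span {(p : ℤ)}) h1
  have hkill : ∀ a ∈ Ideal.span {(p : ℤ)} ^ (k + 1), (Int.castRingHom E) a = 0 := by
    intro a ha
    rw [Ideal.span_singleton_pow, Ideal.mem_span_singleton'] at ha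
    obtain ⟨b, rfl⟩ := ha
    rw [map_mul, map_pow, map_natCast, pow_succ, hk, zero_mul, mul_zero]
  let f : ℤ ⧸ Ideal.span {(p : ℤ)} ^ (k + 1) →+*
      W ⧸ (Ideal.span {(p : ℤ)} ^ (k + 1)).map (algebraMap ℤ W) :=
    Ideal.quotientMap _ (algebraMap ℤ W) Ideal.le_comap_map
  have hf : ∀ a, f (Ideal.Quotient.mk _ a) = Ideal.Quotient.mk _ (algebraMap ℤ W a) :=
    fun a => Ideal.quotientMap_mk
  have hfs : f.FormallySmooth := hall (k + 1) (Nat.succ_le_succ (Nat.zero_le k)) f hf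
  let uA : ℤ ⧸ Ideal.span {(p : ℤ)} ^ (k + 1) →+* E :=
    Ideal.Quotient.lift _ (Int.castRingHom E) hkill
  have hcomp : g.comp (algebraMap ℤ W) = (Ideal.Quotient.mk I).comp (Int.castRingHom E) :=
    Subsingleton.elim _ _
  have hkillB : ∀ b ∈ (Ideal.span {(p : ℤ)} ^ (k + 1)).map (algebraMap ℤ W), g b = 0 := by
    have hle : (Ideal.span {(p : ℤ)} ^ (k + 1)).map (algebraMap ℤ W) ≤ RingHom.ker g := by
      rw [Ideal.map_le_iff_le_comap]
      intro a ha
      rw [Ideal.mem_comap, RingHom.mem_ker]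
      have h2 : g (algebraMap ℤ W a) = Ideal.Quotient.mk I (Int.castRingHom E a) :=
        RingHom.congr_fun hcomp a
      rw [h2, hkill a ha, map_zero]
    intro b hb
    exact hle hb
  let vB : W ⧸ (Ideal.span {(p : ℤ)} ^ (k + 1)).map (algebraMap ℤ W) →+* E ⧸ I :=
    Ideal.Quotient.lift _ g hkillB
  have huv : vB.comp f = (Ideal.Quotient.mk I).comp uA := by
    apply Ideal.Quotient.ringHom_ext
    exact Subsingleton.elim _ _
  obtain ⟨w, -, hw2⟩ :=
    Groth.Agent.H27.AdicSmooth.exists_lift_ringHom_nilpotent f hfs I hI uA vB huv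
  refine ⟨w.comp (Ideal.Quotient.mk _), ?_⟩
  ext b
  exact RingHom.congr_fun hw2 (Ideal.Quotient.mk _ b)

section

variable {W : Type*} {C : Type*} [CommRing W] [CommRing C] [IsLocalRing C]

/-- Compatibility predicate for the approximating maps. -/
def PP (J : Ideal C) (u : W →+* C ⧸ J) (n : ℕ) (f : W →+* C ⧸ maximalIdeal C ^ n) : Prop :=
  ∀ w, ∃ c : C, Ideal.Quotient.mk (maximalIdeal C ^ n) c = f w ∧ Ideal.Quotient.mk J c = u w

theorem step (J : Ideal C) (hJm : J ≤ maximalIdeal C) (u : W →+* C ⧸ J) (n : ℕ)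
    (hLP : LP W (C ⧸ maximalIdeal C ^ (n + 1))) (f : W →+* C ⧸ maximalIdeal C ^ n)
    (hf : PP J u n f) :
    ∃ f' : W →+* C ⧸ maximalIdeal C ^ (n + 1), PP J u (n + 1) f' ∧
      ∀ w, Ideal.Quotient.factorPow (maximalIdeal C) (Nat.le_succ n) (f' w) = f w := by
  obtain ⟨b, hb⟩ : ∃ b : Ideal C, b = maximalIdeal C ^ n ⊓ (J ⊔ maximalIdeal C ^ (n + 1)) :=
    ⟨_, rfl⟩
  have hb1 : b ≤ maximalIdeal C ^ n := hb ▸ inf_le_left
  have hb2 : b ≤ J ⊔ maximalIdeal C ^ (n + 1) := hb ▸ inf_le_right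
  have hmb : maximalIdeal C ^ (n + 1) ≤ b := by
    rw [hb]; exact le_inf (Ideal.pow_le_pow_right (Nat.le_succ n)) le_sup_right
  have hJm' : J ⊔ maximalIdeal C ^ (n + 1) ≤ maximalIdeal C :=
    sup_le hJm (Ideal.pow_le_self (Nat.succ_ne_zero n))
  have hb3 : b ^ 2 ≤ maximalIdeal C ^ (n + 1) := by
    rw [pow_two, pow_succ]
    exact Ideal.mul_mono hb1 (hb2.trans hJm')
  have hJle : J ≤ J ⊔ maximalIdeal C ^ (n + 1) := le_sup_left
  have hex : ∀ w, ∃ d : C ⧸ b, Ideal.Quotient.factor hb1 d = f w ∧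
      Ideal.Quotient.factor hb2 d = ((Ideal.Quotient.factor hJle).comp u) w := by
    intro w
    obtain ⟨c, hc1, hc2⟩ := hf w
    refine ⟨Ideal.Quotient.mk b c, ?_, ?_⟩
    · rw [Ideal.Quotient.factor_mk]; exact hc1
    · rw [Ideal.Quotient.factor_mk, RingHom.comp_apply, ← hc2, Ideal.Quotient.factor_mk]
  have hinj : ∀ d : C ⧸ b, Ideal.Quotient.factor hb1 d = 0 → Ideal.Quotient.factor hb2 d = 0 →
      d = 0 := by
    intro d h1 h2
    obtain ⟨c, rfl⟩ := Ideal.Quotient.mk_surjective d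
    rw [Ideal.Quotient.factor_mk, Ideal.Quotient.eq_zero_iff_mem] at h1 h2
    rw [Ideal.Quotient.eq_zero_iff_mem, hb]
    exact ⟨h1, h2⟩
  obtain ⟨h₀, hh1, hh2⟩ := exists_ringHom_of_pullback (Ideal.Quotient.factor hb1)
    (Ideal.Quotient.factor hb2) f ((Ideal.Quotient.factor hJle).comp u) hex hinj
  obtain ⟨f', hf'⟩ := LP.lift_factor (maximalIdeal C ^ (n + 1)) b hmb 2 hb3 hLP h₀
  refine ⟨f', ?_, ?_⟩
  · intro w
    obtain ⟨c₀, hc₀⟩ := Ideal.Quotient.mk_surjective (f' w)
    obtain ⟨c₁, hc₁⟩ := Ideal.Quotient.mk_surjective (u w)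
    have e1 : Ideal.Quotient.mk (J ⊔ maximalIdeal C ^ (n + 1)) c₀ =
        Ideal.Quotient.mk (J ⊔ maximalIdeal C ^ (n + 1)) c₁ := by
      have a1 : Ideal.Quotient.factor hb2 (h₀ w) = Ideal.Quotient.factor hJle (u w) :=
        RingHom.congr_fun hh2 w
      have a2 : Ideal.Quotient.factor hmb (f' w) = h₀ w := RingHom.congr_fun hf' w
      rw [← a2, ← hc₀, ← hc₁, Ideal.Quotient.factor_mk, Ideal.Quotient.factor_mk,
        Ideal.Quotient.factor_mk] at a1
      exact a1
    rw [Ideal.Quotient.eq, Submodule.mem_sup] at e1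
    obtain ⟨j, hj, t, ht, hjt⟩ := e1
    refine ⟨c₀ - t, ?_, ?_⟩
    · rw [map_sub, hc₀, Ideal.Quotient.eq_zero_iff_mem.mpr ht, sub_zero]
    · have h3 : c₀ - t = c₁ + j := by linear_combination (-1 : C) * hjt
      rw [h3, map_add, hc₁, Ideal.Quotient.eq_zero_iff_mem.mpr hj, add_zero]
  · intro w
    have a2 : Ideal.Quotient.factor hmb (f' w) = h₀ w := RingHom.congr_fun hf' w
    have a3 : Ideal.Quotient.factor hb1 (h₀ w) = f w := RingHom.congr_fun hh1 w
    obtain ⟨c₀, hc₀⟩ := Ideal.Quotient.mk_surjective (f' w)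
    rw [← a3, ← a2, ← hc₀]
    rfl

theorem lift_of_LP [IsNoetherianRing C] [IsAdicComplete (maximalIdeal C) C] (J : Ideal C)
    (hJ : J ≠ ⊤) (u : W →+* C ⧸ J) (H : ∀ n, LP W (C ⧸ maximalIdeal C ^ n)) :
    ∃ v : W →+* C, (Ideal.Quotient.mk J).comp v = u := by
  classical
  have hJm : J ≤ maximalIdeal C := IsLocalRing.le_maximalIdeal hJ
  have hle0 : J ≤ maximalIdeal C ^ 0 := by rw [pow_zero, Ideal.one_eq_top]; exact le_top
  have hP0 : PP J u 0 ((Ideal.Quotient.factor hle0).comp u) := by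
    intro w
    obtain ⟨c, hc⟩ := Ideal.Quotient.mk_surjective (u w)
    exact ⟨c, by rw [RingHom.comp_apply, ← hc, Ideal.Quotient.factor_mk], hc⟩
  have stp : ∀ n (f : {f : W →+* C ⧸ maximalIdeal C ^ n // PP J u n f}),
      ∃ f' : {f' : W →+* C ⧸ maximalIdeal C ^ (n + 1) // PP J u (n + 1) f'},
        ∀ w, Ideal.Quotient.factorPow (maximalIdeal C) (Nat.le_succ n) (f'.1 w) = f.1 w := by
    rintro n ⟨f, hf⟩
    obtain ⟨f', h1, h2⟩ := step J hJm u n (H (n + 1)) f hf
    exact ⟨⟨f', h1⟩, h2⟩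
  let s : ∀ n, {f : W →+* C ⧸ maximalIdeal C ^ n // PP J u n f} := fun n =>
    Nat.rec ⟨_, hP0⟩ (fun n f => Classical.choose (stp n f)) n
  have hs : ∀ n w, Ideal.Quotient.factorPow (maximalIdeal C) (Nat.le_succ n) ((s (n + 1)).1 w) =
      (s n).1 w := fun n => Classical.choose_spec (stp n (s n))
  have hcompat : ∀ {k n : ℕ} (hle : k ≤ n),
      (Ideal.Quotient.factorPow (maximalIdeal C) hle).comp (s n).1 = (s k).1 := by
    intro k n hle
    induction n, hle using Nat.le_induction with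
    | base =>
      ext w
      obtain ⟨c, hc⟩ := Ideal.Quotient.mk_surjective ((s k).1 w)
      rw [RingHom.comp_apply, ← hc]
      rfl
    | succ n hkn ih =>
      ext w
      rw [← ih]
      have h1 := hs n w
      obtain ⟨c, hc⟩ := Ideal.Quotient.mk_surjective ((s (n + 1)).1 w)
      rw [RingHom.comp_apply, RingHom.comp_apply, ← h1, ← hc]
      rfl
  let v : W →+* C := IsAdicComplete.liftRingHom (maximalIdeal C) (fun n => (s n).1) hcompat
  have hv : ∀ n w, Ideal.Quotient.mk (maximalIdeal C ^ n) (v w) = (s n).1 w := fun n w =>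
    IsAdicComplete.mk_liftRingHom (maximalIdeal C) (fun n => (s n).1) hcompat n w
  refine ⟨v, ?_⟩
  haveI : Nontrivial (C ⧸ J) := Ideal.Quotient.nontrivial_iff.mpr hJ
  haveI : IsLocalRing (C ⧸ J) :=
    IsLocalRing.of_surjective' (Ideal.Quotient.mk J) Ideal.Quotient.mk_surjective
  have hne : (maximalIdeal C).map (Ideal.Quotient.mk J) ≠ ⊤ := by
    intro htop
    have h1 : (1 : C ⧸ J) ∈ (maximalIdeal C).map (Ideal.Quotient.mk J) := by
      rw [htop]; exact Submodule.mem_top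
    rw [Ideal.mem_map_iff_of_surjective _ Ideal.Quotient.mk_surjective] at h1
    obtain ⟨c, hc, hc1⟩ := h1
    have h2 : c - 1 ∈ J := by
      rw [← Ideal.Quotient.eq, hc1, map_one]
    have h3 : (1 : C) ∈ maximalIdeal C := by
      have := (maximalIdeal C).sub_mem hc (hJm h2)
      simpa using this
    exact (Ideal.ne_top_iff_one _).mp (IsLocalRing.maximalIdeal.isMaximal C).ne_top h3
  have hkrull := Ideal.iInf_pow_eq_bot_of_isLocalRing _ hne
  ext w
  rw [RingHom.comp_apply, ← sub_eq_zero, ← Ideal.mem_bot, ← hkrull, Ideal.mem_iInf]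
  intro n
  obtain ⟨c, hc1, hc2⟩ := (s n).2 w
  have h1 : v w - c ∈ maximalIdeal C ^ n := by
    rw [← Ideal.Quotient.eq, hv n w, hc1]
  rw [← hc2, ← map_sub, ← Ideal.map_pow]
  exact Ideal.mem_map_of_mem _ h1

end

end Groth.Agent.H27.CohenLift
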