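import Mathlib
import Groth.Agent.H27.CohenLift

/-!
# Isomorphisms of Cohen rings

* `surj_of_complete`: a ring hom from a `π`-adically (pre)complete ring to a `π'`-adically
  separated ring (`v π = π'`) that is surjective modulo `π'` is surjective.
* `cohen_iso`: two complete DVRs with maximal ideals generated by primes and isomorphic residue
  fields are isomorphic, compatibly.
-/

set_option autoImplicit false

universe u

open IsLocalRing

namespace Groth.Agent.H27.CohenIso

open Groth.Agent.H27.CohenLift

theorem surj_of_complete {W W' : Type*} [CommRing W] [CommRing W'] (v : W →+* W') (π : W)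
    (π' : W') (hπ : v π = π') [IsPrecomplete (Ideal.span {π}) W]
    [IsHausdorff (Ideal.span {π'}) W'] (h : ∀ r : W', ∃ w r', r = v w + π' * r') :
    Function.Surjective v := by
  intro w'
  choose ω ρ hωρ using h
  obtain ⟨r, hr0, hrs⟩ : ∃ r : ℕ → W', r 0 = w' ∧ ∀ n, r (n + 1) = ρ (r n) :=
    ⟨fun n => ρ^[n] w', rfl, fun n => Function.iterate_succ_apply' ρ n w'⟩
  obtain ⟨a, ha0, has⟩ : ∃ a : ℕ → W, a 0 = 0 ∧ ∀ n, a (n + 1) = a n + π ^ n * ω (r n) :=
    ⟨fun n => ∑ i ∈ Finset.range n, π ^ i * ω (r i), Finset.sum_range_zero _,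
      fun n => Finset.sum_range_succ _ n⟩
  have hinv : ∀ n, w' = v (a n) + π' ^ n * r n := by
    intro n
    induction n with
    | zero => rw [ha0, hr0, map_zero, pow_zero, one_mul, zero_add]
    | succ n ih =>
      rw [has, hrs, map_add, map_mul, map_pow, hπ, pow_succ]
      linear_combination ih + π' ^ n * hωρ (r n)
  have hcauchy : ∀ {m n : ℕ}, m ≤ n →
      a m ≡ a n [SMOD (Ideal.span {π} ^ m • ⊤ : Submodule W W)] := by
    intro m n hmn
    induction n, hmn using Nat.le_induction with
    | base => exact SModEq.rfl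
    | succ n hmn ih =>
      refine ih.trans ?_
      rw [SModEq.sub_mem, smul_eq_mul, Ideal.mul_top, has]
      have h1 : π ^ n * ω (r n) ∈ Ideal.span {π} ^ m := by
        apply Ideal.mul_mem_right
        exact Ideal.pow_le_pow_right hmn (Ideal.pow_mem_pow (Ideal.mem_span_singleton_self π) n)
      have h2 : a n - (a n + π ^ n * ω (r n)) = -(π ^ n * ω (r n)) := by ring
      rw [h2]
      exact neg_mem h1
  obtain ⟨L, hL⟩ := IsPrecomplete.prec' (I := Ideal.span {π}) a hcauchy
  refine ⟨L, ?_⟩
  rw [← sub_eq_zero]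
  apply IsHausdorff.haus' (I := Ideal.span {π'})
  intro n
  rw [SModEq.sub_mem, sub_zero, smul_eq_mul, Ideal.mul_top]
  have h1 : a n - L ∈ Ideal.span {π} ^ n := by
    have := hL n
    rw [SModEq.sub_mem, smul_eq_mul, Ideal.mul_top] at this
    exact this
  have h2 : v (a n - L) ∈ Ideal.span {π'} ^ n := by
    have : v (a n - L) ∈ (Ideal.span {π} ^ n).map v := Ideal.mem_map_of_mem v h1
    rw [Ideal.map_pow, Ideal.map_span, Set.image_singleton, hπ] at this
    exact this
  have h3 : π' ^ n * r n ∈ Ideal.span {π'} ^ n :=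
    Ideal.mul_mem_right _ _ (Ideal.pow_mem_pow (Ideal.mem_span_singleton_self π') n)
  have h4 : v L - w' = -(v (a n - L)) - π' ^ n * r n := by
    rw [map_sub]; linear_combination (-1 : W') * hinv n
  rw [h4]
  exact sub_mem (neg_mem h2) h3

theorem residue_bijective_of_isField {R : Type*} [CommRing R] [IsLocalRing R] (hR : IsField R) :
    Function.Bijective (residue R) := by
  refine ⟨?_, residue_surjective⟩
  rw [RingHom.injective_iff_ker_eq_bot, ker_residue, (isField_iff_maximalIdeal_eq).mp hR]

theorem no_mixed {W W' : Type*} [CommRing W] [IsLocalRing W] [CommRing W'] [IsLocalRing W']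
    (hF : IsField W) [CharZero W] (p : ℕ) (hp : p.Prime) (hpm : (p : W') ∈ maximalIdeal W')
    (e : ResidueField W' ≃+* ResidueField W) : False := by
  have h1 : ((p : ℕ) : ResidueField W') = 0 := by
    rw [← map_natCast (residue W') p]; exact (residue_eq_zero_iff _).mpr hpm
  have h2 : ((p : ℕ) : ResidueField W) = 0 := by
    rw [← map_natCast e p, h1, map_zero]
  rw [← map_natCast (residue W) p, residue_eq_zero_iff,
    (isField_iff_maximalIdeal_eq).mp hF, Ideal.mem_bot] at h2
  exact Nat.cast_ne_zero.mpr hp.ne_zero h2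

theorem field_case {W W' : Type*} [CommRing W] [IsLocalRing W] [CommRing W'] [IsLocalRing W']
    (hF : IsField W) (hF' : IsField W') (u : ResidueField W ≃+* ResidueField W') :
    ∃ v : W ≃+* W', ∀ x : W, residue W' (v x) = u (residue W x) := by
  let eW := RingEquiv.ofBijective (residue W) (residue_bijective_of_isField hF)
  let eW' := RingEquiv.ofBijective (residue W') (residue_bijective_of_isField hF')
  refine ⟨eW.trans (u.trans eW'.symm), fun x => ?_⟩
  show residue W' (eW'.symm (u (eW x))) = u (residue W x)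
  have h1 : residue W' (eW'.symm (u (eW x))) = eW' (eW'.symm (u (eW x))) := rfl
  rw [h1, RingEquiv.apply_symm_apply]
  rfl

theorem cohen_iso {W W' : Type*} [CommRing W] [IsDomain W] [IsDiscreteValuationRing W]
    [CommRing W'] [IsDomain W'] [IsDiscreteValuationRing W']
    (p : ℕ) (hp : p.Prime) (hm : maximalIdeal W = Ideal.span {(p : W)})
    (hc : IsAdicComplete (maximalIdeal W) W)
    (p' : ℕ) (hp' : p'.Prime) (hm' : maximalIdeal W' = Ideal.span {(p' : W')})
    (hc' : IsAdicComplete (maximalIdeal W') W')
    (u : ResidueField W ≃+* ResidueField W') :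
    ∃ v : W ≃+* W', ∀ x : W, residue W' (v x) = u (residue W x) := by
  have hpm : (p : W) ∈ maximalIdeal W := by rw [hm]; exact Ideal.mem_span_singleton_self _
  have hpm'0 : (p' : W') ∈ maximalIdeal W' := by rw [hm']; exact Ideal.mem_span_singleton_self _
  have hpp : p = p' := by
    have h1 : ((p : ℕ) : ResidueField W) = 0 := by
      rw [← map_natCast (residue W) p]; exact (residue_eq_zero_iff _).mpr hpm
    have h2 : ((p' : ℕ) : ResidueField W') = 0 := by
      rw [← map_natCast (residue W') p']; exact (residue_eq_zero_iff _).mpr hpm'0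
    have h3 : ((p : ℕ) : ResidueField W') = 0 := by
      rw [← map_natCast u p, h1, map_zero]
    haveI : CharP (ResidueField W') p' := (CharP.charP_iff_prime_eq_zero hp').mpr h2
    have h4 : p' ∣ p := (CharP.cast_eq_zero_iff (ResidueField W') p' p).mp h3
    exact ((Nat.prime_dvd_prime_iff_eq hp' hp).mp h4).symm
  subst hpp
  have hpm' : (p : W') ∈ maximalIdeal W' := hpm'0
  have hp0' : (p : W') ≠ 0 := by
    intro h0
    apply IsDiscreteValuationRing.not_a_field W'
    rw [hm', h0, Ideal.span_singleton_eq_bot]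
  have H : ∀ n, LP W (W' ⧸ maximalIdeal W' ^ n) := by
    intro n
    have hpn : ((p : ℕ) : W' ⧸ maximalIdeal W' ^ n) ^ n = 0 := by
      rw [← map_natCast (Ideal.Quotient.mk (maximalIdeal W' ^ n)), ← map_pow,
        Ideal.Quotient.eq_zero_iff_mem]
      exact Ideal.pow_mem_pow hpm' n
    exact lp_of_cohen p hp hm _ n hpn
  have hJ : maximalIdeal W' ≠ ⊤ := (maximalIdeal.isMaximal W').ne_top
  haveI := hc'
  let u' : W →+* W' ⧸ maximalIdeal W' :=
    (u : ResidueField W →+* ResidueField W').comp (residue W)
  obtain ⟨v, hv⟩ := lift_of_LP (maximalIdeal W') hJ u' H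
  have hvres : ∀ x, residue W' (v x) = u (residue W x) := fun x => RingHom.congr_fun hv x
  have hvp : v (p : W) = (p : W') := map_natCast v p
  have hirr : Irreducible (p : W) :=
    (IsDiscreteValuationRing.irreducible_iff_uniformizer _).mpr hm
  have hinj : Function.Injective v := by
    rw [injective_iff_map_eq_zero]
    intro w hw
    by_contra hw0
    obtain ⟨k, hk⟩ := IsDiscreteValuationRing.associated_pow_irreducible hw0 hirr
    obtain ⟨c, hc⟩ := hk
    have h1 : v w * v c = (p : W') ^ k := by rw [← map_mul, hc, map_pow, hvp]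
    rw [hw, zero_mul] at h1
    exact pow_ne_zero k hp0' h1.symm
  have hsurj : Function.Surjective v := by
    haveI : IsAdicComplete (Ideal.span {(p : W)}) W := hm ▸ hc
    haveI : IsAdicComplete (Ideal.span {(p : W')}) W' := hm' ▸ hc'
    apply surj_of_complete v (p : W) (p : W') hvp
    intro r
    obtain ⟨x, hx⟩ := u.surjective (residue W' r)
    obtain ⟨w, hw⟩ := residue_surjective x
    have h1 : residue W' r = residue W' (v w) := by rw [hvres, hw, hx]
    have h2 : r - v w ∈ maximalIdeal W' := by
      rw [← residue_eq_zero_iff, map_sub, h1, sub_self]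
    rw [hm', Ideal.mem_span_singleton'] at h2
    obtain ⟨r', hr'⟩ := h2
    exact ⟨w, r', by linear_combination (-1 : W') * hr'⟩
  exact ⟨RingEquiv.ofBijective v ⟨hinj, hsurj⟩, fun x => hvres x⟩

end Groth.Agent.H27.CohenIso
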