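import Mathlib
import Groth.Agent.H27.CohenLift
import Groth.Agent.H27.CohenIso

/-!
# Relative version of `CohenLift`: lifting ring homomorphisms compatibly with a base ring

* `LPR φ ψ`: for `φ : A → W`, `ψ : A → E`, every `g : W → E/I` (`I` nilpotent) compatible with
  `φ, ψ` lifts to `h : W → E` with `h ∘ φ = ψ`.
* `lift_of_LPR`: if `LPR` holds against all `C/𝔪^n`, `C` complete Noetherian local, then every
  compatible `W → C/J` lifts to a compatible `W → C`.
* `bijective_of_residue_iso`: a ring hom between complete DVRs mapping a uniformizer to a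
  uniformizer and inducing an isomorphism of residue fields is bijective.
-/

set_option autoImplicit false

universe u

open IsLocalRing

namespace Groth.Agent.H27.CohenLiftRel

open Groth.Agent.H27.CohenLift

theorem exists_ringHom_of_pullback_rel {A W D D₁ D₂ : Type*} [CommRing A] [CommRing W]
    [CommRing D] [CommRing D₁] [CommRing D₂] (φ : A →+* W) (ψ : A →+* D) (π₁ : D →+* D₁)
    (π₂ : D →+* D₂) (f : W →+* D₁) (g : W →+* D₂)
    (hex : ∀ w, ∃ d, π₁ d = f w ∧ π₂ d = g w)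
    (hinj : ∀ d, π₁ d = 0 → π₂ d = 0 → d = 0)
    (h1 : ∀ a, π₁ (ψ a) = f (φ a)) (h2 : ∀ a, π₂ (ψ a) = g (φ a)) :
    ∃ h : W →+* D, π₁.comp h = f ∧ π₂.comp h = g ∧ h.comp φ = ψ := by
  obtain ⟨h, hh1, hh2⟩ := exists_ringHom_of_pullback π₁ π₂ f g hex hinj
  refine ⟨h, hh1, hh2, ?_⟩
  ext a
  have e1 : π₁ (h (φ a) - ψ a) = 0 := by
    rw [map_sub, h1, sub_eq_zero]; exact RingHom.congr_fun hh1 (φ a)
  have e2 : π₂ (h (φ a) - ψ a) = 0 := by
    rw [map_sub, h2, sub_eq_zero]; exact RingHom.congr_fun hh2 (φ a)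
  exact sub_eq_zero.mp (hinj _ e1 e2)

/-- Relative lifting property. -/
def LPR {A W E : Type*} [CommRing A] [CommRing W] [CommRing E] (φ : A →+* W) (ψ : A →+* E) :
    Prop :=
  ∀ (I : Ideal E), IsNilpotent I → ∀ g : W →+* E ⧸ I,
    g.comp φ = (Ideal.Quotient.mk I).comp ψ →
    ∃ h : W →+* E, (Ideal.Quotient.mk I).comp h = g ∧ h.comp φ = ψ

theorem LPR.lift_factor {A W E : Type*} [CommRing A] [CommRing W] [CommRing E] (φ : A →+* W)
    (ψ : A →+* E) (a b : Ideal E) (hab : a ≤ b) (k : ℕ) (hk : b ^ k ≤ a)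
    (hLP : LPR φ ((Ideal.Quotient.mk a).comp ψ)) (g : W →+* E ⧸ b)
    (hg : g.comp φ = (Ideal.Quotient.mk b).comp ψ) :
    ∃ h : W →+* E ⧸ a, (Ideal.Quotient.factor hab).comp h = g ∧
      h.comp φ = (Ideal.Quotient.mk a).comp ψ := by
  have hI : IsNilpotent (b.map (Ideal.Quotient.mk a)) := by
    refine ⟨k, ?_⟩
    rw [Ideal.zero_eq_bot, eq_bot_iff, ← Ideal.map_pow]
    have h1 : (b ^ k).map (Ideal.Quotient.mk a) ≤ a.map (Ideal.Quotient.mk a) := Ideal.map_mono hk
    rw [Ideal.map_quotient_self] at h1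
    exact h1
  have hg' : ((DoubleQuot.quotQuotEquivQuotOfLE hab).symm.toRingHom.comp g).comp φ =
      (Ideal.Quotient.mk (b.map (Ideal.Quotient.mk a))).comp ((Ideal.Quotient.mk a).comp ψ) := by
    ext x
    show (DoubleQuot.quotQuotEquivQuotOfLE hab).symm (g (φ x)) = _
    have h1 : g (φ x) = Ideal.Quotient.mk b (ψ x) := RingHom.congr_fun hg x
    rw [h1, DoubleQuot.quotQuotEquivQuotOfLE_symm_mk]
    rfl
  obtain ⟨h, hh, hhφ⟩ := hLP _ hI _ hg'
  refine ⟨h, ?_, hhφ⟩
  ext w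
  have h1 : Ideal.Quotient.mk (b.map (Ideal.Quotient.mk a)) (h w) =
      (DoubleQuot.quotQuotEquivQuotOfLE hab).symm (g w) := RingHom.congr_fun hh w
  have h2 : (DoubleQuot.quotQuotEquivQuotOfLE hab)
      (Ideal.Quotient.mk (b.map (Ideal.Quotient.mk a)) (h w)) = g w := by
    rw [h1, RingEquiv.apply_symm_apply]
  rw [← h2]
  obtain ⟨c, hc⟩ := Ideal.Quotient.mk_surjective (h w)
  show Ideal.Quotient.factor hab (h w) = _
  rw [← hc, Ideal.Quotient.factor_mk]
  exact (DoubleQuot.quotQuotEquivQuotOfLE_quotQuotMk c hab).symm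

section

variable {A : Type*} {W : Type*} {C : Type*} [CommRing A] [CommRing W] [CommRing C] [IsLocalRing C]

theorem step_rel (φ : A →+* W) (ψ : A →+* C) (J : Ideal C) (hJm : J ≤ maximalIdeal C)
    (u : W →+* C ⧸ J) (hu : u.comp φ = (Ideal.Quotient.mk J).comp ψ) (n : ℕ)
    (hLP : LPR φ ((Ideal.Quotient.mk (maximalIdeal C ^ (n + 1))).comp ψ))
    (f : W →+* C ⧸ maximalIdeal C ^ n) (hf : PP J u n f)
    (hfφ : f.comp φ = (Ideal.Quotient.mk (maximalIdeal C ^ n)).comp ψ) :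
    ∃ f' : W →+* C ⧸ maximalIdeal C ^ (n + 1), PP J u (n + 1) f' ∧
      f'.comp φ = (Ideal.Quotient.mk (maximalIdeal C ^ (n + 1))).comp ψ ∧
      ∀ w, Ideal.Quotient.factorPow (maximalIdeal C) (Nat.le_succ n) (f' w) = f w := by
  obtain ⟨b, hb⟩ : ∃ b : Ideal C, b = maximalIdeal C ^ n ⊓ (J ⊔ maximalIdeal C ^ (n + 1)) :=
    ⟨_, rfl⟩
  have hb1 : b ≤ maximalIdeal C ^ n := hb ▸ inf_le_left
  have hb2 : b ≤ J ⊔ maximalIdeal C ^ (n + 1) := hb ▸ inf_le_right
  have hmb : maximalIdeal C ^ (n + 1) ≤ b := by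
    rw [hb]; exact le_inf (Ideal.pow_le_pow_right (Nat.le_succ n)) le_sup_right
  have hJm' : J ⊔ maximalIdeal C ^ (n + 1) ≤ maximalIdeal C :=
    sup_le hJm (Ideal.pow_le_self (Nat.succ_ne_zero n))
  have hb3 : b ^ 2 ≤ maximalIdeal C ^ (n + 1) := by
    rw [pow_two, pow_succ]
    exact Ideal.mul_mono hb1 (hb2.trans hJm')
  have hJle : J ≤ J ⊔ maximalIdeal C ^ (n + 1) := le_sup_left
  have hex : ∀ w, ∃ d : C ⧸ b, Ideal.Quotient.factor hb1 d = f w ∧
      Ideal.Quotient.factor hb2 d = ((Ideal.Quotient.factor hJle).comp u) w := by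
    intro w
    obtain ⟨c, hc1, hc2⟩ := hf w
    refine ⟨Ideal.Quotient.mk b c, ?_, ?_⟩
    · rw [Ideal.Quotient.factor_mk]; exact hc1
    · rw [Ideal.Quotient.factor_mk, RingHom.comp_apply, ← hc2, Ideal.Quotient.factor_mk]
  have hinj : ∀ d : C ⧸ b, Ideal.Quotient.factor hb1 d = 0 → Ideal.Quotient.factor hb2 d = 0 →
      d = 0 := by
    intro d h1 h2
    obtain ⟨c, rfl⟩ := Ideal.Quotient.mk_surjective d
    rw [Ideal.Quotient.factor_mk, Ideal.Quotient.eq_zero_iff_mem] at h1 h2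
    rw [Ideal.Quotient.eq_zero_iff_mem, hb]
    exact ⟨h1, h2⟩
  have hr1 : ∀ a, Ideal.Quotient.factor hb1 (((Ideal.Quotient.mk b).comp ψ) a) = f (φ a) := by
    intro a
    rw [RingHom.comp_apply, Ideal.Quotient.factor_mk]
    exact (RingHom.congr_fun hfφ a).symm
  have hr2 : ∀ a, Ideal.Quotient.factor hb2 (((Ideal.Quotient.mk b).comp ψ) a) =
      ((Ideal.Quotient.factor hJle).comp u) (φ a) := by
    intro a
    have h1 : u (φ a) = Ideal.Quotient.mk J (ψ a) := RingHom.congr_fun hu a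
    rw [RingHom.comp_apply, Ideal.Quotient.factor_mk, RingHom.comp_apply, h1,
      Ideal.Quotient.factor_mk]
  obtain ⟨h₀, hh1, hh2, hh3⟩ := exists_ringHom_of_pullback_rel φ ((Ideal.Quotient.mk b).comp ψ)
    (Ideal.Quotient.factor hb1) (Ideal.Quotient.factor hb2) f
    ((Ideal.Quotient.factor hJle).comp u) hex hinj hr1 hr2
  obtain ⟨f', hf', hf'φ⟩ :=
    LPR.lift_factor φ ψ (maximalIdeal C ^ (n + 1)) b hmb 2 hb3 hLP h₀ hh3
  refine ⟨f', ?_, hf'φ, ?_⟩
  · intro w
    obtain ⟨c₀, hc₀⟩ := Ideal.Quotient.mk_surjective (f' w)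
    obtain ⟨c₁, hc₁⟩ := Ideal.Quotient.mk_surjective (u w)
    have e1 : Ideal.Quotient.mk (J ⊔ maximalIdeal C ^ (n + 1)) c₀ =
        Ideal.Quotient.mk (J ⊔ maximalIdeal C ^ (n + 1)) c₁ := by
      have a1 : Ideal.Quotient.factor hb2 (h₀ w) = Ideal.Quotient.factor hJle (u w) :=
        RingHom.congr_fun hh2 w
      have a2 : Ideal.Quotient.factor hmb (f' w) = h₀ w := RingHom.congr_fun hf' w
      rw [← a2, ← hc₀, ← hc₁, Ideal.Quotient.factor_mk, Ideal.Quotient.factor_mk,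
        Ideal.Quotient.factor_mk] at a1
      exact a1
    rw [Ideal.Quotient.eq, Submodule.mem_sup] at e1
    obtain ⟨j, hj, t, ht, hjt⟩ := e1
    refine ⟨c₀ - t, ?_, ?_⟩
    · rw [map_sub, hc₀, Ideal.Quotient.eq_zero_iff_mem.mpr ht, sub_zero]
    · have h3 : c₀ - t = c₁ + j := by linear_combination (-1 : C) * hjt
      rw [h3, map_add, hc₁, Ideal.Quotient.eq_zero_iff_mem.mpr hj, add_zero]
  · intro w
    have a2 : Ideal.Quotient.factor hmb (f' w) = h₀ w := RingHom.congr_fun hf' w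
    have a3 : Ideal.Quotient.factor hb1 (h₀ w) = f w := RingHom.congr_fun hh1 w
    obtain ⟨c₀, hc₀⟩ := Ideal.Quotient.mk_surjective (f' w)
    rw [← a3, ← a2, ← hc₀]
    rfl

theorem lift_of_LPR [IsNoetherianRing C] [IsAdicComplete (maximalIdeal C) C] (φ : A →+* W)
    (ψ : A →+* C) (J : Ideal C) (hJ : J ≠ ⊤) (u : W →+* C ⧸ J)
    (hu : u.comp φ = (Ideal.Quotient.mk J).comp ψ)
    (H : ∀ n, LPR φ ((Ideal.Quotient.mk (maximalIdeal C ^ n)).comp ψ)) :
    ∃ v : W →+* C, (Ideal.Quotient.mk J).comp v = u ∧ v.comp φ = ψ := by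
  classical
  have hJm : J ≤ maximalIdeal C := IsLocalRing.le_maximalIdeal hJ
  have hle0 : J ≤ maximalIdeal C ^ 0 := by rw [pow_zero, Ideal.one_eq_top]; exact le_top
  have hP0 : PP J u 0 ((Ideal.Quotient.factor hle0).comp u) := by
    intro w
    obtain ⟨c, hc⟩ := Ideal.Quotient.mk_surjective (u w)
    exact ⟨c, by rw [RingHom.comp_apply, ← hc, Ideal.Quotient.factor_mk], hc⟩
  have hP0φ : ((Ideal.Quotient.factor hle0).comp u).comp φ =
      (Ideal.Quotient.mk (maximalIdeal C ^ 0)).comp ψ := by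
    ext a
    have h1 : u (φ a) = Ideal.Quotient.mk J (ψ a) := RingHom.congr_fun hu a
    rw [RingHom.comp_apply, RingHom.comp_apply, h1, Ideal.Quotient.factor_mk, RingHom.comp_apply]
  have stp : ∀ n (f : {f : W →+* C ⧸ maximalIdeal C ^ n // PP J u n f ∧
        f.comp φ = (Ideal.Quotient.mk (maximalIdeal C ^ n)).comp ψ}),
      ∃ f' : {f' : W →+* C ⧸ maximalIdeal C ^ (n + 1) // PP J u (n + 1) f' ∧
        f'.comp φ = (Ideal.Quotient.mk (maximalIdeal C ^ (n + 1))).comp ψ},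
        ∀ w, Ideal.Quotient.factorPow (maximalIdeal C) (Nat.le_succ n) (f'.1 w) = f.1 w := by
    rintro n ⟨f, hf, hfφ⟩
    obtain ⟨f', h1, h2, h3⟩ := step_rel φ ψ J hJm u hu n (H (n + 1)) f hf hfφ
    exact ⟨⟨f', h1, h2⟩, h3⟩
  let s : ∀ n, {f : W →+* C ⧸ maximalIdeal C ^ n // PP J u n f ∧
        f.comp φ = (Ideal.Quotient.mk (maximalIdeal C ^ n)).comp ψ} := fun n =>
    Nat.rec ⟨_, hP0, hP0φ⟩ (fun n f => Classical.choose (stp n f)) n
  have hs : ∀ n w, Ideal.Quotient.factorPow (maximalIdeal C) (Nat.le_succ n) ((s (n + 1)).1 w) =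
      (s n).1 w := fun n => Classical.choose_spec (stp n (s n))
  have hcompat : ∀ {k n : ℕ} (hle : k ≤ n),
      (Ideal.Quotient.factorPow (maximalIdeal C) hle).comp (s n).1 = (s k).1 := by
    intro k n hle
    induction n, hle using Nat.le_induction with
    | base =>
      ext w
      obtain ⟨c, hc⟩ := Ideal.Quotient.mk_surjective ((s k).1 w)
      rw [RingHom.comp_apply, ← hc]
      rfl
    | succ n hkn ih =>
      ext w
      rw [← ih]
      have h1 := hs n w
      obtain ⟨c, hc⟩ := Ideal.Quotient.mk_surjective ((s (n + 1)).1 w)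
      rw [RingHom.comp_apply, RingHom.comp_apply, ← h1, ← hc]
      rfl
  let v : W →+* C := IsAdicComplete.liftRingHom (maximalIdeal C) (fun n => (s n).1) hcompat
  have hv : ∀ n w, Ideal.Quotient.mk (maximalIdeal C ^ n) (v w) = (s n).1 w := fun n w =>
    IsAdicComplete.mk_liftRingHom (maximalIdeal C) (fun n => (s n).1) hcompat n w
  refine ⟨v, ?_, ?_⟩
  · haveI : Nontrivial (C ⧸ J) := Ideal.Quotient.nontrivial_iff.mpr hJ
    haveI : IsLocalRing (C ⧸ J) :=
      IsLocalRing.of_surjective' (Ideal.Quotient.mk J) Ideal.Quotient.mk_surjective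
    have hne : (maximalIdeal C).map (Ideal.Quotient.mk J) ≠ ⊤ := by
      intro htop
      have h1 : (1 : C ⧸ J) ∈ (maximalIdeal C).map (Ideal.Quotient.mk J) := by
        rw [htop]; exact Submodule.mem_top
      rw [Ideal.mem_map_iff_of_surjective _ Ideal.Quotient.mk_surjective] at h1
      obtain ⟨c, hc, hc1⟩ := h1
      have h2 : c - 1 ∈ J := by
        rw [← Ideal.Quotient.eq, hc1, map_one]
      have h3 : (1 : C) ∈ maximalIdeal C := by
        have := (maximalIdeal C).sub_mem hc (hJm h2)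
        simpa using this
      exact (Ideal.ne_top_iff_one _).mp (IsLocalRing.maximalIdeal.isMaximal C).ne_top h3
    have hkrull := Ideal.iInf_pow_eq_bot_of_isLocalRing _ hne
    ext w
    rw [RingHom.comp_apply, ← sub_eq_zero, ← Ideal.mem_bot, ← hkrull, Ideal.mem_iInf]
    intro n
    obtain ⟨c, hc1, hc2⟩ := (s n).2.1 w
    have h1 : v w - c ∈ maximalIdeal C ^ n := by
      rw [← Ideal.Quotient.eq, hv n w, hc1]
    rw [← hc2, ← map_sub, ← Ideal.map_pow]
    exact Ideal.mem_map_of_mem _ h1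
  · ext a
    rw [RingHom.comp_apply, ← sub_eq_zero]
    apply IsHausdorff.haus' (I := maximalIdeal C)
    intro n
    rw [SModEq.sub_mem, sub_zero, smul_eq_mul, Ideal.mul_top, ← Ideal.Quotient.eq, hv n]
    exact RingHom.congr_fun (s n).2.2 a

end

theorem bijective_of_residue_iso {B B' : Type*} [CommRing B] [IsDomain B]
    [IsDiscreteValuationRing B] [CommRing B'] [IsDomain B'] [IsDiscreteValuationRing B']
    (hc : IsAdicComplete (maximalIdeal B) B) (hc' : IsAdicComplete (maximalIdeal B') B')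
    (w : B →+* B') (ϖ : B) (hm : maximalIdeal B = Ideal.span {ϖ})
    (hm' : maximalIdeal B' = Ideal.span {w ϖ})
    (σ : ResidueField B ≃+* ResidueField B') (hσ : ∀ b, residue B' (w b) = σ (residue B b)) :
    Function.Bijective w := by
  have hp0' : w ϖ ≠ 0 := by
    intro h0
    apply IsDiscreteValuationRing.not_a_field B'
    rw [hm', h0, Ideal.span_singleton_eq_bot]
  have hirr : Irreducible ϖ := (IsDiscreteValuationRing.irreducible_iff_uniformizer _).mpr hm
  constructor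
  · rw [injective_iff_map_eq_zero]
    intro b hb
    by_contra hb0
    obtain ⟨k, hk⟩ := IsDiscreteValuationRing.associated_pow_irreducible hb0 hirr
    obtain ⟨c, hc⟩ := hk
    have h1 : w b * w c = (w ϖ) ^ k := by rw [← map_mul, hc, map_pow]
    rw [hb, zero_mul] at h1
    exact pow_ne_zero k hp0' h1.symm
  · haveI : IsAdicComplete (Ideal.span {ϖ}) B := hm ▸ hc
    haveI : IsAdicComplete (Ideal.span {w ϖ}) B' := hm' ▸ hc'
    apply Groth.Agent.H27.CohenIso.surj_of_complete w ϖ (w ϖ) rfl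
    intro r
    obtain ⟨x, hx⟩ := σ.surjective (residue B' r)
    obtain ⟨b, hb⟩ := residue_surjective x
    have h1 : residue B' r = residue B' (w b) := by rw [hσ, hb, hx]
    have h2 : r - w b ∈ maximalIdeal B' := by
      rw [← residue_eq_zero_iff, map_sub, h1, sub_self]
    rw [hm', Ideal.mem_span_singleton'] at h2
    obtain ⟨r', hr'⟩ := h2
    exact ⟨b, r', by linear_combination (-1 : B') * hr'⟩

end Groth.Agent.H27.CohenLiftRel
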