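import Mathlib.RingTheory.Polynomial.Cyclotomic.Roots
import Mathlib.RingTheory.RootsOfUnity.Lemmas
import Mathlib.RingTheory.AdjoinRoot
import Mathlib.RingTheory.Polynomial.UniqueFactorization
import Mathlib.NumberTheory.Wilson
import Mathlib.Data.Nat.Choose.Dvd
import Mathlib.Algebra.MvPolynomial.Eval
import Mathlib.RingTheory.Polynomial.Basic
import Mathlib.Tactic

set_option autoImplicit false

namespace Groth.Agent.H27.CycloP

open Polynomial Finset

universe u v

variable {A : Type u} [CommRing A]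

/-- `ε(ζ) = ∏_{k<p-1} (1 + ζ + ⋯ + ζ^k)` -/
noncomputable def eps (p : ℕ) (ζ : A) : A := ∏ k ∈ range (p-1), ∑ j ∈ range (k+1), ζ ^ j

/-- the polynomial `((1+wz)^p-1)/w^p` written with explicit coefficients -/
noncomputable def Pgen (p : ℕ) (w ε : A) : A[X] :=
  X ^ p + ∑ i ∈ Ioo 0 p, C (((p.choose i / p : ℕ) : A) * ε * w ^ (i - 1)) * X ^ i

theorem eps_map {B : Type v} [CommRing B] (φ : A →+* B) (p : ℕ) (ζ : A) :
    φ (eps p ζ) = eps p (φ ζ) := by
  simp [eps, map_prod, map_sum, map_pow]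

theorem Pgen_map {B : Type v} [CommRing B] (φ : A →+* B) (p : ℕ) (w ε : A) :
    (Pgen p w ε).map φ = Pgen p (φ w) (φ ε) := by
  simp [Pgen, Polynomial.map_sum]

theorem prod_one_sub_pow (ζ : A) (n : ℕ) :
    ∏ k ∈ range n, (1 - ζ ^ (k+1)) = (1 - ζ) ^ n * ∏ k ∈ range n, ∑ j ∈ range (k+1), ζ ^ j := by
  have h : ∀ k ∈ range n, (1 - ζ ^ (k+1)) = (1 - ζ) * ∑ j ∈ range (k+1), ζ ^ j := by
    intro k _
    rw [mul_neg_geom_sum]
  rw [prod_congr rfl h, prod_mul_distrib, prod_const, card_range]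

theorem key1gen {p : ℕ} (hp : p.Prime) {w ε : A} (h : w ^ (p-1) * ε = (p : A)) :
    C (w ^ p) * Pgen p w ε = (1 + C w * X) ^ p - 1 := by
  have hR : (1 + C w * X) ^ p = ∑ m ∈ range (p+1), C (w ^ m * (p.choose m : A)) * X ^ m := by
    rw [add_comm, add_pow]
    refine sum_congr rfl (fun m _ => ?_)
    rw [one_pow, mul_one, mul_pow, C_mul, ← C_pow, map_natCast]
    ring
  have hI : Ioo 0 p = Ico 1 p := by
    ext i; simp only [mem_Ioo, mem_Ico]; omega
  have hmid : ∀ i ∈ Ico 1 p,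
      C (w ^ p) * (C (((p.choose i / p : ℕ) : A) * ε * w ^ (i - 1)) * X ^ i) =
        C (w ^ i * (p.choose i : A)) * X ^ i := by
    intro i hi
    rw [← mul_assoc, ← C_mul]
    congr 2
    obtain ⟨hi1, hip⟩ := mem_Ico.1 hi
    have hdvd : p ∣ p.choose i := hp.dvd_choose_self (by omega) hip
    have hch : (p.choose i : A) = (p : A) * ((p.choose i / p : ℕ) : A) := by
      rw [← Nat.cast_mul, Nat.mul_div_cancel' hdvd]
    rw [hch, ← h]
    have e1 : w ^ p = w ^ (p-1) * w := by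
      rw [← pow_succ]; congr 1; have := hp.pos; omega
    have e2 : w ^ i = w ^ (i-1) * w := by
      rw [← pow_succ]; congr 1; omega
    rw [e1, e2]; ring
  rw [hR, sum_range_succ, range_eq_Ico, sum_eq_sum_Ico_succ_bot hp.pos, Pgen, mul_add, mul_sum,
    hI, sum_congr rfl hmid]
  simp only [Nat.choose_zero_right, Nat.choose_self, pow_zero, Nat.cast_one, mul_one, one_mul,
    C_1, zero_add]
  ring

theorem key2gen {p : ℕ} (hp : p.Prime) {w ε : A} (hε : ε + 1 ∈ Ideal.span {w}) :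
    ∃ a : ℕ → A, (∀ i, a i ∈ Ideal.span {w}) ∧
      Pgen p w ε = X ^ p - X + (Ioo 0 p).sum (fun i => C (a i) * X ^ i) := by
  refine ⟨fun i => if i = 1 then ε + 1 else ((p.choose i / p : ℕ) : A) * ε * w ^ (i - 1), ?_, ?_⟩
  · intro i
    by_cases h1 : i = 1
    · simp only [h1, if_true]; exact hε
    · simp only [h1, if_false]
      rcases Nat.eq_zero_or_pos i with h0 | h0
      · subst h0
        have : p.choose 0 / p = 0 := by
          rw [Nat.choose_zero_right]; exact Nat.div_eq_of_lt hp.one_lt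
        rw [this]; simp
      · refine Ideal.mul_mem_left _ _ ?_
        exact Ideal.pow_mem_of_mem _ (Ideal.mem_span_singleton_self w) _ (by omega)
  · have h1mem : 1 ∈ Ioo 0 p := by
      rw [mem_Ioo]; exact ⟨Nat.one_pos, hp.one_lt⟩
    have hterm : ∀ i ∈ Ioo 0 p,
        C (if i = 1 then ε + 1 else ((p.choose i / p : ℕ) : A) * ε * w ^ (i - 1)) * X ^ i =
          C (((p.choose i / p : ℕ) : A) * ε * w ^ (i - 1)) * X ^ i +
            (if i = 1 then (X : A[X]) else 0) := by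
      intro i _
      by_cases h1 : i = 1
      · subst h1
        have : p.choose 1 / p = 1 := by
          rw [Nat.choose_one_right]; exact Nat.div_self hp.pos
        simp only [if_true, this, Nat.cast_one, one_mul, Nat.sub_self, pow_zero, mul_one, pow_one,
          C_add, C_1]
        ring
      · simp only [h1, if_false, add_zero]
    rw [sum_congr rfl hterm, sum_add_distrib, sum_ite_eq' (Ioo 0 p) 1 (fun _ => (X : A[X])),
      if_pos h1mem, Pgen]
    ring

theorem key_eps {p : ℕ} (hp : p.Prime) {ζ : A} (h : (1 - ζ) ^ (p-1) * eps p ζ = (p : A)) :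
    eps p ζ + 1 ∈ Ideal.span {1 - ζ} := by
  rw [← Ideal.Quotient.eq_zero_iff_mem]
  have hζ1 : Ideal.Quotient.mk (Ideal.span {1 - ζ}) ζ = 1 := by
    have h0 : Ideal.Quotient.mk (Ideal.span {1 - ζ}) (1 - ζ) = 0 :=
      Ideal.Quotient.eq_zero_iff_mem.2 (Ideal.mem_span_singleton_self _)
    rw [map_sub, map_one, sub_eq_zero] at h0
    exact h0.symm
  have hp0 : ((p : ℕ) : A ⧸ Ideal.span {1 - ζ}) = 0 := by
    have h1 := congrArg (Ideal.Quotient.mk (Ideal.span {1 - ζ})) h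
    rw [map_mul, map_pow, map_natCast] at h1
    rw [← h1, Ideal.Quotient.eq_zero_iff_mem.2 (Ideal.mem_span_singleton_self (1 - ζ)),
      zero_pow (by have := hp.one_lt; omega), zero_mul]
  have heps : Ideal.Quotient.mk (Ideal.span {1 - ζ}) (eps p ζ) =
      (((p - 1).factorial : ℕ) : A ⧸ Ideal.span {1 - ζ}) := by
    rw [eps_map, hζ1, eps]
    simp only [one_pow, sum_const, card_range, nsmul_eq_mul, mul_one]
    rw [← Nat.cast_prod, Finset.prod_range_add_one_eq_factorial]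
  haveI : Fact p.Prime := ⟨hp⟩
  have hW : p ∣ (p - 1).factorial + 1 := by
    rw [← ZMod.natCast_eq_zero_iff, Nat.cast_add, ZMod.wilsons_lemma]
    simp
  obtain ⟨c, hc⟩ := hW
  rw [map_add, map_one, heps]
  have h2 : (((p - 1).factorial : ℕ) : A ⧸ Ideal.span {1 - ζ}) + 1 =
      (((p - 1).factorial + 1 : ℕ) : A ⧸ Ideal.span {1 - ζ}) := by
    rw [Nat.cast_add, Nat.cast_one]
  rw [h2, hc, Nat.cast_mul, hp0, zero_mul]

theorem key3 {S : Type v} [CommRing S] [IsDomain S] {p : ℕ} (P : S[X]) (w : S) (hw : w ≠ 0)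
    (hP : C (w ^ p) * P = (1 + C w * X) ^ p - 1) (z₁ z₂ : S) :
    eval (z₁ + z₂ + w * z₁ * z₂) P =
      eval z₁ P + eval z₂ P + w ^ p * eval z₁ P * eval z₂ P := by
  have hz : ∀ z : S, w ^ p * eval z P = (1 + w * z) ^ p - 1 := by
    intro z
    have := congrArg (eval z) hP
    simpa using this
  apply mul_left_cancel₀ (pow_ne_zero p hw)
  have h1 : w ^ p * (eval z₁ P + eval z₂ P + w ^ p * eval z₁ P * eval z₂ P) =
      (w ^ p * eval z₁ P) + (w ^ p * eval z₂ P) + (w ^ p * eval z₁ P) * (w ^ p * eval z₂ P) := by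
    ring
  rw [h1, hz, hz, hz]
  have h2 : 1 + w * (z₁ + z₂ + w * z₁ * z₂) = (1 + w * z₁) * (1 + w * z₂) := by ring
  rw [h2, mul_pow]
  ring


theorem prod_one_sub_pow_eq {R : Type v} [CommRing R] [IsDomain R] {p : ℕ} (hp : 0 < p) {μ : R}
    (hμ : IsPrimitiveRoot μ p) : ∏ k ∈ range (p-1), (1 - μ ^ (k+1)) = (p : R) := by
  obtain ⟨n, rfl⟩ : ∃ n, p = n + 1 := ⟨p - 1, (Nat.sub_add_cancel hp).symm⟩
  rw [Nat.add_sub_cancel, hμ.prod_one_sub_pow_eq_order]
  push_cast; ring

/-- (E1) holds for any root of the `p`-th cyclotomic polynomial, by transfer from the universal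
ring `ℤ[X]/(Φ_p)`. Also returns the universal ring data needed for the transfer of identities. -/
theorem exists_universal {p : ℕ} (hp : p.Prime) (ζ : A) (hζ : aeval ζ (cyclotomic p ℤ) = 0) :
    ∃ (R₀ : Type) (_ : CommRing R₀) (_ : IsDomain R₀) (ζ₀ : R₀) (φ : R₀ →+* A),
      φ ζ₀ = ζ ∧ (1 - ζ₀) ≠ 0 ∧ (1 - ζ₀) ^ (p-1) * eps p ζ₀ = (p : R₀) := by
  have hirr : Irreducible (cyclotomic p ℤ) := cyclotomic.irreducible hp.pos
  haveI : IsDomain (AdjoinRoot (cyclotomic p ℤ)) := AdjoinRoot.isDomain_of_prime hirr.prime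
  have hdeg : (cyclotomic p ℤ).degree ≠ 0 := by
    rw [degree_cyclotomic, Nat.totient_prime hp]
    have := hp.one_lt
    exact_mod_cast (by omega : p - 1 ≠ 0)
  have hinj : Function.Injective (AdjoinRoot.of (cyclotomic p ℤ)) :=
    AdjoinRoot.of.injective_of_degree_ne_zero hdeg
  have hpne : ((p : ℕ) : AdjoinRoot (cyclotomic p ℤ)) ≠ 0 := by
    have h1 : ((p : ℕ) : AdjoinRoot (cyclotomic p ℤ)) = AdjoinRoot.of (cyclotomic p ℤ) (p : ℤ) := by
      simp
    rw [h1]
    intro h0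
    have := hinj (h0.trans (map_zero _).symm)
    exact hp.ne_zero (by exact_mod_cast this)
  haveI : NeZero ((p : ℕ) : AdjoinRoot (cyclotomic p ℤ)) := ⟨hpne⟩
  have hroot : IsRoot (cyclotomic p (AdjoinRoot (cyclotomic p ℤ))) (AdjoinRoot.root _) := by
    have h1 := AdjoinRoot.isRoot_root (cyclotomic p ℤ)
    rwa [map_cyclotomic] at h1
  have hprim : IsPrimitiveRoot (AdjoinRoot.root (cyclotomic p ℤ)) p :=
    isRoot_cyclotomic_iff.1 hroot
  have hprod := prod_one_sub_pow_eq hp.pos hprim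
  have hE1 : (1 - AdjoinRoot.root (cyclotomic p ℤ)) ^ (p-1) * eps p (AdjoinRoot.root _) =
      ((p : ℕ) : AdjoinRoot (cyclotomic p ℤ)) := by
    rw [eps, ← prod_one_sub_pow, hprod]
  have hw : (1 - AdjoinRoot.root (cyclotomic p ℤ)) ≠ 0 := by
    intro h0
    rw [h0, zero_pow (by have := hp.one_lt; omega), zero_mul] at hE1
    exact hpne hE1.symm
  have hev : (cyclotomic p ℤ).eval₂ (Int.castRingHom A) ζ = 0 := by
    rw [← hζ, aeval_def]
    congr 1
  refine ⟨AdjoinRoot (cyclotomic p ℤ), inferInstance, inferInstance, AdjoinRoot.root _,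
    AdjoinRoot.lift (Int.castRingHom A) ζ hev, AdjoinRoot.lift_root hev, hw, hE1⟩

end Groth.Agent.H27.CycloP
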