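import Mathlib.RingTheory.Support
import Mathlib.RingTheory.TensorProduct.Finite
import Mathlib.RingTheory.Localization.Finiteness
import Mathlib.RingTheory.Localization.Submodule
import Mathlib.RingTheory.KrullDimension.Zero
import Mathlib.RingTheory.HopkinsLevitzki
import Mathlib.RingTheory.Artinian.Module
import Mathlib.Algebra.Module.LocalizedModule.Submodule
import Mathlib.Algebra.Module.Torsion.Basic
import Mathlib.RingTheory.Ideal.MinimalPrime.Basic
import Mathlib.Tactic

set_option autoImplicit false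

namespace Groth.Agent.H27.EqChain

open TensorProduct

universe u v

/-- In a finite module over a Noetherian ring, an antitone chain of submodules stabilizes after
localizing at a minimal prime. -/
theorem exists_smul_mem_succ {R : Type u} [CommRing R] [IsNoetherianRing R] {P : Type v}
    [AddCommGroup P] [Module R P] [Module.Finite R P]
    (q : Ideal R) (hq : q ∈ minimalPrimes R) (F : ℕ → Submodule R P) (hF : Antitone F) :
    ∃ k, ∃ s, s ∉ q ∧ ∀ x ∈ F k, s • x ∈ F (k+1) := by
  classical
  haveI : q.IsPrime := hq.1.1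
  haveI : Ring.KrullDimLE 0 (Localization.AtPrime q) :=
    Ring.KrullDimLE.of_isLocalization q hq _
  haveI : IsArtinianRing (Localization.AtPrime q) :=
    isArtinianRing_iff_krullDimLE_zero.mpr inferInstance
  haveI : IsArtinian (Localization q.primeCompl) (LocalizedModule q.primeCompl P) :=
    inferInstance
  have hmono : ∀ a b, a ≤ b → (F b).localized q.primeCompl ≤ (F a).localized q.primeCompl := by
    intro a b hab x hx
    rw [Submodule.mem_localized'] at hx ⊢
    obtain ⟨m, hm, s, hms⟩ := hx
    exact ⟨m, hF hab hm, s, hms⟩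
  let G : ℕ →o (Submodule (Localization q.primeCompl) (LocalizedModule q.primeCompl P))ᵒᵈ :=
    ⟨fun k => OrderDual.toDual ((F k).localized q.primeCompl), fun a b hab => hmono a b hab⟩
  obtain ⟨n, hn⟩ := IsArtinian.monotone_stabilizes G
  have hEq : (F n).localized q.primeCompl = (F (n+1)).localized q.primeCompl :=
    congrArg OrderDual.ofDual (hn (n+1) (Nat.le_succ n))
  have hpt : ∀ x ∈ F n, ∃ s ∈ q.primeCompl, s • x ∈ F (n+1) := by
    intro x hx
    have h1 : LocalizedModule.mkLinearMap q.primeCompl P x ∈ (F n).localized q.primeCompl := by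
      rw [Submodule.mem_localized']
      exact ⟨x, hx, 1, by simp⟩
    rw [hEq, Submodule.mem_localized'] at h1
    obtain ⟨m, hm, t, hmt⟩ := h1
    rw [IsLocalizedModule.mk'_eq_iff, Submonoid.smul_def, ← map_smul] at hmt
    obtain ⟨c, hc⟩ := (IsLocalizedModule.eq_iff_exists q.primeCompl
      (LocalizedModule.mkLinearMap q.primeCompl P)).1 hmt
    refine ⟨(c : R) * (t : R), mul_mem c.2 t.2, ?_⟩
    rw [mul_smul]
    have hc' : (c : R) • m = (c : R) • ((t : R) • x) := hc
    rw [← hc']
    exact Submodule.smul_mem _ _ hm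
  haveI : IsNoetherian R P := isNoetherian_of_isNoetherianRing_of_finite R P
  obtain ⟨G0, hG0⟩ : (F n).FG := IsNoetherian.noetherian _
  choose! sf hsf using hpt
  have hG0mem : ∀ g ∈ G0, g ∈ F n := fun g hg => hG0 ▸ Submodule.subset_span hg
  refine ⟨n, ∏ g ∈ G0, sf g, ?_, ?_⟩
  · have : (∏ g ∈ G0, sf g) ∈ q.primeCompl :=
      Submonoid.prod_mem _ (fun g hg => (hsf g (hG0mem g hg)).1)
    exact this
  · intro x hx
    rw [← hG0] at hx
    induction hx using Submodule.span_induction with
    | mem g hg =>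
      rw [← Finset.mul_prod_erase G0 sf hg, mul_comm, mul_smul]
      exact Submodule.smul_mem _ _ (hsf g (hG0mem g hg)).2
    | zero => rw [smul_zero]; exact Submodule.zero_mem _
    | add a b _ _ ha hb => rw [smul_add]; exact Submodule.add_mem _ ha hb
    | smul r a _ ha => rw [smul_comm]; exact Submodule.smul_mem _ _ ha

/-- Version over `A` with the module killed by an ideal `J` and `q` minimal over `J`. -/
theorem exists_smul_mem_succ' {A : Type u} [CommRing A] [IsNoetherianRing A] {P : Type v}
    [AddCommGroup P] [Module A P] [Module.Finite A P]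
    (J q : Ideal A) (hq : q ∈ J.minimalPrimes) (hJ : ∀ a ∈ J, ∀ x : P, a • x = 0)
    (F : ℕ → Submodule A P) (hF : Antitone F) :
    ∃ k, ∃ s, s ∉ q ∧ ∀ x ∈ F k, s • x ∈ F (k+1) := by
  have hT : Module.IsTorsionBySet A P (J : Set A) := fun x a => hJ a.1 a.2 x
  letI : Module (A ⧸ J) P := hT.module
  haveI : IsScalarTower A (A ⧸ J) P := hT.isScalarTower
  haveI : Module.Finite (A ⧸ J) P := Module.Finite.of_restrictScalars_finite A (A ⧸ J) P
  rw [Ideal.minimalPrimes_eq_comap] at hq
  obtain ⟨q', hq', rfl⟩ := hq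
  let F' : ℕ → Submodule (A ⧸ J) P := fun k =>
    { carrier := F k
      add_mem' := (F k).add_mem
      zero_mem' := (F k).zero_mem
      smul_mem' := by
        intro r x hx
        obtain ⟨a, rfl⟩ := Ideal.Quotient.mk_surjective r
        exact (F k).smul_mem a hx }
  obtain ⟨k, s', hs', h⟩ := exists_smul_mem_succ q' hq' F' (fun a b hab => hF hab)
  obtain ⟨s, rfl⟩ := Ideal.Quotient.mk_surjective s'
  exact ⟨k, s, hs', fun x hx => h x hx⟩

/-- If `s ∉ q ⊇ Ann Q` for a finite module `Q`, then `s` cannot kill `Q ⊗ Q`. -/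
theorem not_forall_smul_tmul_eq_zero {A : Type u} [CommRing A] {Q : Type v} [AddCommGroup Q]
    [Module A Q] [Module.Finite A Q]
    (q : Ideal A) [hqp : q.IsPrime] (hq : Module.annihilator A Q ≤ q) (s : A) (hs : s ∉ q)
    (h : ∀ z : Q ⊗[A] Q, s • z = 0) : False := by
  have hnt : Nontrivial (LocalizedModule q.primeCompl Q) := by
    have : (⟨q, hqp⟩ : PrimeSpectrum A) ∈ Module.support A Q := by
      rw [Module.mem_support_iff_of_finite]; exact hq
    exact Module.mem_support_iff.mp this
  let f := LocalizedModule.mkLinearMap q.primeCompl Q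
  let φ : Q ⊗[A] Q →ₗ[A] (LocalizedModule q.primeCompl Q) ⊗[Localization q.primeCompl]
      (LocalizedModule q.primeCompl Q) :=
    (TensorProduct.mapOfCompatibleSMul (Localization q.primeCompl) A A _ _).comp
      (TensorProduct.map f f)
  have hsub : Subsingleton ((LocalizedModule q.primeCompl Q) ⊗[Localization q.primeCompl]
      (LocalizedModule q.primeCompl Q)) := by
    refine subsingleton_of_forall_eq 0 fun z => ?_
    induction z using TensorProduct.induction_on with
    | zero => rfl
    | add a b ha hb => rw [ha, hb, add_zero]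
    | tmul m n =>
      obtain ⟨⟨x, t⟩, hx⟩ := IsLocalizedModule.surj q.primeCompl f m
      obtain ⟨⟨y, u⟩, hy⟩ := IsLocalizedModule.surj q.primeCompl f n
      simp only at hx hy
      have h1 : ((t : A) * (u : A)) • (m ⊗ₜ[Localization q.primeCompl] n) = φ (x ⊗ₜ y) := by
        have h0 : φ (x ⊗ₜ y) = f x ⊗ₜ f y := rfl
        rw [h0, ← hx, ← hy, Submonoid.smul_def, Submonoid.smul_def, ← TensorProduct.smul_tmul',
          TensorProduct.tmul_smul, mul_smul]
      have h2 : (s * ((t : A) * (u : A))) • (m ⊗ₜ[Localization q.primeCompl] n) = 0 := by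
        rw [mul_smul, h1, ← map_smul, h, map_zero]
      have hmem : s * ((t : A) * (u : A)) ∈ q.primeCompl :=
        mul_mem (show s ∈ q.primeCompl from hs) (mul_mem t.2 u.2)
      have hu : IsUnit (algebraMap A (Localization q.primeCompl) (s * ((t : A) * (u : A)))) :=
        IsLocalization.map_units (Localization q.primeCompl) ⟨_, hmem⟩
      rw [← algebraMap_smul (Localization q.primeCompl)] at h2
      exact hu.smul_eq_zero.mp h2
  exact false_of_nontrivial_of_subsingleton ((LocalizedModule q.primeCompl Q)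
    ⊗[Localization q.primeCompl] (LocalizedModule q.primeCompl Q))


/-- If `s ∉ q`, the conductor of `A → D` lies in `q`, and `s` kills all `d ⊗ 1 - 1 ⊗ d`, we get a
contradiction (finite epimorphisms are surjective, in localized form). -/
theorem false_of_smul_tmul {A : Type u} {D : Type v} [CommRing A] [CommRing D] [Algebra A D]
    [Module.Finite A D]
    (q : Ideal A) [q.IsPrime]
    (hq : ∀ a : A, (∀ d : D, ∃ a', algebraMap A D a' = a • d) → a ∈ q)
    (s : A) (hs : s ∉ q)
    (htens : ∀ d : D, s • (d ⊗ₜ[A] (1 : D)) = s • ((1 : D) ⊗ₜ[A] d)) : False := by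
  let A' : Submodule A D := LinearMap.range (Algebra.linearMap A D)
  have hann : Module.annihilator A (D ⧸ A') ≤ q := by
    intro a ha
    apply hq
    intro d
    have h1 := Module.mem_annihilator.1 ha (A'.mkQ d)
    rw [← map_smul, Submodule.mkQ_apply, Submodule.Quotient.mk_eq_zero] at h1
    obtain ⟨a', ha'⟩ := h1
    exact ⟨a', ha'⟩
  have hkill : ∀ z : (D ⧸ A') ⊗[A] (D ⧸ A'), s • z = 0 := by
    intro z
    induction z using TensorProduct.induction_on with
    | zero => simp
    | add a b ha hb => rw [smul_add, ha, hb, add_zero]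
    | tmul x y =>
      obtain ⟨d, rfl⟩ := Submodule.mkQ_surjective _ x
      obtain ⟨e, rfl⟩ := Submodule.mkQ_surjective _ y
      have key : s • (d ⊗ₜ[A] e) = s • ((d * e) ⊗ₜ[A] (1 : D)) := by
        calc s • (d ⊗ₜ[A] e) = (d ⊗ₜ[A] (1 : D)) * (s • ((1 : D) ⊗ₜ[A] e)) := by
              rw [mul_smul_comm, Algebra.TensorProduct.tmul_mul_tmul, mul_one, one_mul]
          _ = (d ⊗ₜ[A] (1 : D)) * (s • (e ⊗ₜ[A] (1 : D))) := by rw [htens e]
          _ = s • ((d * e) ⊗ₜ[A] (1 : D)) := by
              rw [mul_smul_comm, Algebra.TensorProduct.tmul_mul_tmul, mul_one]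
      have h2 := congrArg (TensorProduct.map A'.mkQ A'.mkQ) key
      rw [map_smul, map_smul, TensorProduct.map_tmul, TensorProduct.map_tmul] at h2
      rw [h2]
      have h1 : A'.mkQ (1 : D) = 0 :=
        (Submodule.Quotient.mk_eq_zero _).2 ⟨1, by simp⟩
      rw [h1, TensorProduct.tmul_zero, smul_zero]
  exact not_forall_smul_tmul_eq_zero q hann s hs hkill

/-- The chain of subalgebras stabilizes after localization at a minimal prime over the conductor. -/
theorem exists_smul_mem_subalgebra_succ {A B : Type u} [CommRing A] [CommRing B] [Algebra A B]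
    [IsNoetherianRing A] [Module.Finite A B] (C : ℕ → Subalgebra A B) (hanti : Antitone C)
    (n : ℕ) (J q : Ideal A) (hq : q ∈ J.minimalPrimes)
    (hJ : ∀ a ∈ J, ∀ b ∈ C n, a • b ∈ (⊥ : Subalgebra A B)) :
    ∃ k s, s ∉ q ∧ ∀ b ∈ C (n+k), s • b ∈ C (n+k+1) := by
  haveI : IsNoetherian A B := isNoetherian_of_isNoetherianRing_of_finite A B
  haveI : IsNoetherian A (C n) :=
    isNoetherian_of_injective (C n).val.toLinearMap Subtype.val_injective
  let A' : Submodule A (C n) := LinearMap.range (Algebra.linearMap A (C n))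
  let F : ℕ → Submodule A ((C n) ⧸ A') := fun k =>
    ((Subalgebra.toSubmodule (C (n+k))).comap (C n).val.toLinearMap).map A'.mkQ
  have hF : Antitone F := by
    intro a b hab x hx
    obtain ⟨c, hc, rfl⟩ := hx
    exact ⟨c, hanti (Nat.add_le_add_left hab n) hc, rfl⟩
  have hJ' : ∀ a ∈ J, ∀ x : (C n) ⧸ A', a • x = 0 := by
    intro a ha x
    obtain ⟨c, rfl⟩ := Submodule.mkQ_surjective _ x
    rw [← map_smul, Submodule.mkQ_apply, Submodule.Quotient.mk_eq_zero]
    have h1 := hJ a ha c.1 c.2
    rw [Algebra.mem_bot] at h1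
    obtain ⟨a', ha'⟩ := h1
    exact ⟨a', Subtype.ext ha'⟩
  obtain ⟨k, s, hs, hk⟩ := exists_smul_mem_succ' J q hq hJ' F hF
  refine ⟨k, s, hs, fun b hb => ?_⟩
  have hbn : b ∈ C n := hanti (Nat.le_add_right n k) hb
  have hx : A'.mkQ ⟨b, hbn⟩ ∈ F k := ⟨⟨b, hbn⟩, hb, rfl⟩
  obtain ⟨c, hc, hceq⟩ := hk _ hx
  rw [← map_smul, Submodule.mkQ_apply, Submodule.mkQ_apply, Submodule.Quotient.eq] at hceq
  obtain ⟨a', ha'⟩ := hceq
  have h3 : s • b = c.1 - algebraMap A B a' := by
    have h4 := congrArg Subtype.val ha'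
    have h5 : (algebraMap A B a' : B) = c.1 - s • b := h4
    rw [h5]; ring
  rw [h3]
  exact Subalgebra.sub_mem _ hc (Subalgebra.algebraMap_mem _ _)

end Groth.Agent.H27.EqChain
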