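import Mathlib.Tactic
import Mathlib.Algebra.Category.ModuleCat.Ext.HasExt
import Mathlib.Algebra.Category.ModuleCat.Ext.Basic
import Mathlib.Algebra.Homology.DerivedCategory.Ext.ExactSequences
import Mathlib.Algebra.Homology.DerivedCategory.Ext.ExtClass
import Mathlib.Algebra.Homology.DerivedCategory.Ext.Linear
import Mathlib.Algebra.Homology.DerivedCategory.Ext.EnoughProjectives
import Mathlib.RingTheory.Regular.Category
import Mathlib.RingTheory.Regular.RegularSequence
import Mathlib.Algebra.Category.ModuleCat.Projective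

/-!
# `Ext^p(A/(x₁,…,x_p), M) ≃ M/(x₁,…,x_p)M` for a weakly regular sequence
-/

set_option autoImplicit false
universe u
open CategoryTheory Abelian Pointwise

namespace Groth.Agent.H27.ExtReg

variable {A : Type u} [CommRing A]

/-- Transport of `Ext` along an isomorphism in the first variable. -/
noncomputable def extIsoLeft {X X' : ModuleCat.{u} A} (e : X ≅ X') (Y : ModuleCat.{u} A) (n : ℕ) :
    Ext X Y n ≃ₗ[A] Ext X' Y n :=
  LinearEquiv.ofLinear
    (Ext.precompOfLinear (Ext.mk₀ e.inv) A Y (zero_add n))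
    (Ext.precompOfLinear (Ext.mk₀ e.hom) A Y (zero_add n))
    (by
      ext z
      show (Ext.mk₀ e.inv).comp ((Ext.mk₀ e.hom).comp z (zero_add n)) (zero_add n) = z
      rw [Ext.mk₀_comp_mk₀_assoc, Iso.inv_hom_id, Ext.mk₀_id_comp])
    (by
      ext z
      show (Ext.mk₀ e.hom).comp ((Ext.mk₀ e.inv).comp z (zero_add n)) (zero_add n) = z
      rw [Ext.mk₀_comp_mk₀_assoc, Iso.hom_inv_id, Ext.mk₀_id_comp])

/-- `Good X J n`: `Ext^n(X, Y) ≃ Y/JY` for all `Y` and `Ext^i(X, Y) = 0` for `i > n`. -/
structure Good (X : ModuleCat.{u} A) (J : Ideal A) (n : ℕ) : Prop where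
  iso : ∀ Y : ModuleCat.{u} A, Nonempty (Ext X Y n ≃ₗ[A] (Y ⧸ (J • ⊤ : Submodule A Y)))
  vanish : ∀ (Y : ModuleCat.{u} A) (i : ℕ), n < i → ∀ z : Ext X Y i, z = 0

lemma Good.of_iso {X X' : ModuleCat.{u} A} (e : X ≅ X') {J : Ideal A} {n : ℕ}
    (h : Good X J n) : Good X' J n where
  iso Y := ⟨(extIsoLeft e Y n).symm.trans (h.iso Y).some⟩
  vanish Y i hi z := by
    have := h.vanish Y i hi ((extIsoLeft e Y i).symm z)
    exact (extIsoLeft e Y i).symm.injective (by rw [this, map_zero])

lemma good_base : Good (ModuleCat.of A A) (⊥ : Ideal A) 0 where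
  iso Y := by
    refine ⟨(Ext.linearEquiv₀ (R := A)).trans (ModuleCat.homLinearEquiv.trans
      ((LinearMap.ringLmapEquivSelf A A Y).trans (Submodule.quotEquivOfEqBot _ ?_).symm))⟩
    rw [Submodule.bot_smul]
  vanish Y i hi z := by
    obtain ⟨j, rfl⟩ : ∃ j, i = j + 1 := ⟨i - 1, by omega⟩
    exact Ext.eq_zero_of_projective z

lemma good_step (B : ModuleCat.{u} A) (J : Ideal A) (n : ℕ) (x : A)
    (hreg : IsSMulRegular B x) (hB : Good B J n) :
    Good (B.smulShortComplex x).X₃ (J ⊔ Ideal.span {x}) (n + 1) := by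
  set S := B.smulShortComplex x with hSdef
  have hS : S.ShortExact := hreg.smulShortComplex_shortExact
  have hf : ∀ (Y : ModuleCat.{u} A) (i : ℕ) (z : Ext B Y i),
      (Ext.mk₀ S.f).comp z (zero_add i) = x • z := by
    intro Y i z
    have e0 : (Ext.mk₀ S.f).comp z (zero_add i)
        = (Ext.mk₀ (x • 𝟙 B)).comp z (zero_add i) := rfl
    rw [e0, Ext.mk₀_smul, Ext.smul_comp, Ext.mk₀_id_comp]
  refine ⟨fun Y => ?_, fun Y i hi z => ?_⟩
  · obtain ⟨Φ⟩ := hB.iso Y
    have h1 : 1 + n = n + 1 := by omega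
    let δ : Ext B Y n →ₗ[A] Ext S.X₃ Y (n+1) := Ext.precompOfLinear hS.extClass A Y h1
    have hδ : ∀ z, δ z = hS.extClass.comp z h1 := fun z => rfl
    have hδsurj : Function.Surjective δ := by
      intro w
      have hw : (Ext.mk₀ S.g).comp w (zero_add (n+1)) = 0 := hB.vanish Y (n+1) (by omega) _
      obtain ⟨z, hz⟩ := Ext.contravariant_sequence_exact₃ hS Y w hw h1
      exact ⟨z, hz⟩
    have hδker : ∀ z, δ z = 0 ↔ ∃ z', z = x • z' := by
      intro z
      constructor
      · intro hz
        obtain ⟨z', hz'⟩ := Ext.contravariant_sequence_exact₁ hS Y z h1 hz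
        exact ⟨z', by rw [← hz', hf]⟩
      · rintro ⟨z', rfl⟩
        rw [hδ, ← hf, hS.extClass_comp_assoc]
    let Ψ : Y →ₗ[A] Ext S.X₃ Y (n+1) :=
      δ ∘ₗ Φ.symm.toLinearMap ∘ₗ (J • ⊤ : Submodule A Y).mkQ
    have hΨ : ∀ y, Ψ y = δ (Φ.symm (Submodule.Quotient.mk y)) := fun y => rfl
    have hΨsurj : Function.Surjective Ψ :=
      hδsurj.comp (Φ.symm.surjective.comp (Submodule.mkQ_surjective _))
    have hker : LinearMap.ker Ψ = ((J ⊔ Ideal.span {x}) • ⊤ : Submodule A Y) := by
      apply le_antisymm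
      · intro y hy
        rw [LinearMap.mem_ker, hΨ] at hy
        obtain ⟨z', hz'⟩ := (hδker _).1 hy
        obtain ⟨y', hy'2⟩ := Submodule.Quotient.mk_surjective _ (Φ z')
        have hq : Submodule.Quotient.mk y =
            (Submodule.Quotient.mk (x • y') : Y ⧸ (J • ⊤ : Submodule A Y)) := by
          rw [Submodule.Quotient.mk_smul, hy'2, ← map_smul, ← hz', LinearEquiv.apply_symm_apply]
        rw [Submodule.Quotient.eq] at hq
        have h2 : y = (y - x • y') + x • y' := by abel
        rw [h2]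
        refine Submodule.add_mem _ (Submodule.smul_mono_left le_sup_left hq) ?_
        exact Submodule.smul_mem_smul
          (Ideal.mem_sup_right (Ideal.mem_span_singleton_self x)) Submodule.mem_top
      · rw [Submodule.smul_le]
        intro a ha y _
        obtain ⟨j, hj, b, hb, rfl⟩ := Submodule.mem_sup.1 ha
        obtain ⟨c, rfl⟩ := Ideal.mem_span_singleton'.1 hb
        rw [LinearMap.mem_ker, add_smul, map_add]
        have e1 : Ψ (j • y) = 0 := by
          rw [hΨ]
          have : (Submodule.Quotient.mk (j • y) : Y ⧸ (J • ⊤ : Submodule A Y)) = 0 := by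
            rw [Submodule.Quotient.mk_eq_zero]
            exact Submodule.smul_mem_smul hj Submodule.mem_top
          rw [this, map_zero, map_zero]
        have e2 : Ψ ((c * x) • y) = 0 := by
          rw [hΨ, hδker]
          refine ⟨Φ.symm (Submodule.Quotient.mk (c • y)), ?_⟩
          rw [← map_smul, ← Submodule.Quotient.mk_smul, smul_smul, mul_comm]
        rw [e1, e2, add_zero]
    exact ⟨(LinearMap.quotKerEquivOfSurjective Ψ hΨsurj).symm.trans
      (Submodule.quotEquivOfEq _ _ hker)⟩
  · obtain ⟨j, rfl⟩ : ∃ j, i = 1 + j := ⟨i - 1, by omega⟩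
    have hw : (Ext.mk₀ S.g).comp z (zero_add (1 + j)) = 0 := hB.vanish Y (1+j) (by omega) _
    obtain ⟨z', hz'⟩ := Ext.contravariant_sequence_exact₃ hS Y z hw rfl
    have : z' = 0 := hB.vanish Y j (by omega) z'
    rw [← hz', this, Ext.comp_zero]

theorem good_of_weaklyRegular (xs : List A)
    (hreg : RingTheory.Sequence.IsWeaklyRegular A xs) :
    Good (ModuleCat.of A (A ⧸ Ideal.ofList xs)) (Ideal.ofList xs) xs.length := by
  induction xs using List.reverseRecOn with
  | nil =>
    have h0 : Ideal.ofList ([] : List A) = ⊥ := Ideal.ofList_nil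
    rw [h0]
    exact good_base.of_iso ((Submodule.quotEquivOfEqBot (⊥ : Ideal A) rfl).symm.toModuleIso)
  | append_singleton ys x ih =>
    obtain ⟨h1, h2⟩ := (RingTheory.Sequence.isWeaklyRegular_append_iff A ys [x]).1 hreg
    rw [RingTheory.Sequence.isWeaklyRegular_singleton_iff] at h2
    have hB := ih h1
    set I := Ideal.ofList ys with hI
    have hx : IsSMulRegular (A ⧸ I) x := by
      have e : (I • ⊤ : Submodule A A) = I := by
        show I • (⊤ : Ideal A) = I
        rw [Ideal.smul_eq_mul, Ideal.mul_top]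
      exact ((Submodule.quotEquivOfEq _ _ e).isSMulRegular_congr x).1 h2
    have hstep := good_step (ModuleCat.of A (A ⧸ I)) I ys.length x hx hB
    rw [Ideal.ofList_append, Ideal.ofList_singleton, List.length_append, List.length_singleton]
    refine hstep.of_iso (LinearEquiv.toModuleIso ?_)
    let π : A →ₗ[A] ((A ⧸ I) ⧸ (x • (⊤ : Submodule A (A ⧸ I)))) :=
      (x • (⊤ : Submodule A (A ⧸ I))).mkQ ∘ₗ (Submodule.mkQ I)
    have hπ : Function.Surjective π :=
      (Submodule.mkQ_surjective _).comp (Submodule.mkQ_surjective _)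
    have hker : LinearMap.ker π = I ⊔ Ideal.span {x} := by
      ext a
      rw [LinearMap.mem_ker]
      show (Submodule.Quotient.mk (Submodule.Quotient.mk a : A ⧸ I) :
        (A ⧸ I) ⧸ (x • (⊤ : Submodule A (A ⧸ I)))) = 0 ↔ _
      rw [Submodule.Quotient.mk_eq_zero, Submodule.mem_smul_pointwise_iff_exists]
      constructor
      · rintro ⟨b', -, hb'⟩
        obtain ⟨b, rfl⟩ := Submodule.Quotient.mk_surjective _ b'
        rw [← Submodule.Quotient.mk_smul, Submodule.Quotient.eq] at hb'
        have : a = -(x • b - a) + b * x := by simp only [smul_eq_mul]; ring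
        rw [this]
        exact Submodule.add_mem_sup (I.neg_mem hb') (Ideal.mem_span_singleton'.2 ⟨b, rfl⟩)
      · intro ha
        obtain ⟨j, hj, c, hc, rfl⟩ := Submodule.mem_sup.1 ha
        obtain ⟨d, rfl⟩ := Ideal.mem_span_singleton'.1 hc
        refine ⟨Submodule.Quotient.mk d, Submodule.mem_top, ?_⟩
        rw [← Submodule.Quotient.mk_smul, Submodule.Quotient.eq]
        have : x • d - (j + d * x) = -j := by simp only [smul_eq_mul]; ring
        rw [this]; exact I.neg_mem hj
    exact (LinearMap.quotKerEquivOfSurjective π hπ).symm.trans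
      (Submodule.quotEquivOfEq _ _ hker)

end Groth.Agent.H27.ExtReg
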