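import Mathlib
import Groth.Agent.S10909
import Groth.Agent.S2116
import Groth.Agent.S2680
import Groth.Agent.Lib.Helper24.SmoothDescent
import Groth.Agent.H27.FieldSmooth
import Groth.Agent.H27.AdicSmooth

/-!
# Smoothness of a finite type algebra over a field from projectivity of `Ω` and generic
geometric reducedness
-/

set_option autoImplicit false
universe u
open IsLocalRing TensorProduct KaehlerDifferential Module Algebra

namespace Groth.Agent.H27.GenSmooth

attribute [local instance] Algebra.TensorProduct.rightAlgebra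

theorem exists_maximal_in_open (k : Type u) [Field k] (A : Type u) [CommRing A] [Algebra k A]
    [Algebra.FiniteType k A] (U : Set (PrimeSpectrum A)) (hU : IsOpen U) (q : Ideal A)
    [hq : q.IsPrime] (hqU : (⟨q, hq⟩ : PrimeSpectrum A) ∈ U) :
    ∃ (m : Ideal A) (hm : m.IsMaximal), q ≤ m ∧ (⟨m, hm.isPrime⟩ : PrimeSpectrum A) ∈ U := by
  obtain ⟨𝔞, h𝔞⟩ := (PrimeSpectrum.isClosed_iff_zeroLocus_ideal _).mp hU.isClosed_compl
  have hq𝔞 : ¬ (𝔞 : Set A) ⊆ q := by
    intro h
    have h1 : (⟨q, hq⟩ : PrimeSpectrum A) ∈ PrimeSpectrum.zeroLocus (𝔞 : Set A) := h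
    rw [← h𝔞] at h1
    exact h1 hqU
  obtain ⟨a, ha𝔞, haq⟩ := Set.not_subset.mp hq𝔞
  haveI : IsJacobsonRing A := isJacobsonRing_of_finiteType (A := k) (B := A)
  have hjac : q.jacobson = q := IsJacobsonRing.out inferInstance hq.isRadical
  have h2 : a ∉ q.jacobson := by rw [hjac]; exact haq
  rw [Ideal.jacobson, Ideal.mem_sInf] at h2
  push Not at h2
  obtain ⟨m, ⟨hqm, hm⟩, ham⟩ := h2
  refine ⟨m, hm, hqm, ?_⟩
  by_contra hmU
  have h3 : (⟨m, hm.isPrime⟩ : PrimeSpectrum A) ∈ Uᶜ := hmU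
  rw [h𝔞] at h3
  exact ham (h3 ha𝔞)

theorem inj_loc {A : Type u} [CommRing A] (P N : Ideal A) [N.IsPrime]
    (hP : ∀ a ∈ P, ∃ s ∉ N, s * a = 0) (M : Ideal (A ⧸ P)) [M.IsPrime]
    (h : N = M.comap (Ideal.Quotient.mk P)) :
    Function.Injective (Localization.localRingHom N M (Ideal.Quotient.mk P) h) := by
  rw [injective_iff_map_eq_zero]
  intro x hx
  obtain ⟨a, s, rfl⟩ := IsLocalization.exists_mk'_eq N.primeCompl x
  rw [Localization.localRingHom_mk'] at hx
  rw [IsLocalization.mk'_eq_zero_iff] at hx ⊢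
  obtain ⟨t, ht⟩ := hx
  obtain ⟨t₀, ht₀⟩ := Ideal.Quotient.mk_surjective (t : A ⧸ P)
  have ht₀N : t₀ ∉ N := by
    intro hmem
    rw [h] at hmem
    exact t.2 (by rw [← ht₀]; exact hmem)
  have h1 : t₀ * a ∈ P := by
    rw [← Ideal.Quotient.eq_zero_iff_mem, map_mul, ht₀]; exact ht
  obtain ⟨s', hs'N, hs'⟩ := hP _ h1
  exact ⟨⟨s' * t₀, N.primeCompl.mul_mem hs'N ht₀N⟩, by
    show s' * t₀ * a = 0
    rw [mul_assoc]; exact hs'⟩

theorem regular_at_max (k : Type u) [Field k] [IsAlgClosed k] (A : Type u) [CommRing A]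
    [Algebra k A] [Algebra.FiniteType k A] [Module.Projective A Ω[A⁄k]]
    (m : Ideal A) [hm : m.IsMaximal] (q : Ideal A) [hq : q.IsPrime] (hqm : q ≤ m)
    (hsm : Algebra.IsSmoothAt k q) : IsRegularLocalRing (Localization.AtPrime m) := by
  haveI : IsNoetherianRing A := Algebra.FiniteType.isNoetherianRing k A
  haveI : Algebra.FinitePresentation k A := Algebra.FinitePresentation.of_finiteType.mp inferInstance
  haveI : Module.Finite A (Ω[A⁄k]) := inferInstance
  haveI : Module.Flat A (Ω[A⁄k]) := inferInstance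
  obtain ⟨m₁, hm₁, hqm₁, hm₁U⟩ := exists_maximal_in_open k A (Algebra.smoothLocus k A)
    Algebra.isOpen_smoothLocus q hsm
  haveI := hm₁
  have hsm₁ : Algebra.IsSmoothAt k m₁ := hm₁U
  haveI hreg₁ : IsRegularLocalRing (Localization.AtPrime m₁) :=
    (Groth.Agent.S2116.result m₁).mpr hsm₁
  haveI hdom₁ : IsDomain (Localization.AtPrime m₁) :=
    Groth.Agent.H29.isDomain_of_isRegularLocalRing _
  obtain ⟨d₁, hd₁⟩ : ∃ d₁ : ℕ, ringKrullDim (Localization.AtPrime m₁) = (d₁ : WithBot ℕ∞) :=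
    ⟨_, ((isRegularLocalRing_iff _).mp hreg₁).symm⟩
  have hfree₁ := Groth.Agent.H11.RegOmega.free_of_regular k (Localization.AtPrime m₁)
    (Groth.Agent.S10909.hres k A m₁) d₁ hd₁
  have hrank : finrank (Localization.AtPrime m) (Ω[Localization.AtPrime m⁄k]) = d₁ := by
    rw [← Groth.Agent.S10909.rank_eq k A m,
      ← Module.rankAtStalk_eq_of_le_of_finite_of_flat' (Ω[A⁄k]) hqm,
      Module.rankAtStalk_eq_of_le_of_finite_of_flat' (Ω[A⁄k]) hqm₁,
      Groth.Agent.S10909.rank_eq k A m₁]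
    exact hfree₁.2
  obtain ⟨p₁, hp₁def⟩ : ∃ p₁ : Ideal A,
      p₁ = RingHom.ker (algebraMap A (Localization.AtPrime m₁)) := ⟨_, rfl⟩
  haveI hp₁ : p₁.IsPrime := by rw [hp₁def]; exact RingHom.ker_isPrime _
  have hp₁mem : ∀ a, a ∈ p₁ → ∃ s ∉ m₁, s * a = 0 := fun a ha => by
    rw [hp₁def, RingHom.mem_ker, IsLocalization.map_eq_zero_iff m₁.primeCompl] at ha
    obtain ⟨s, hs⟩ := ha
    exact ⟨s, s.2, hs⟩
  have hp₁q : p₁ ≤ q := by
    intro a ha
    obtain ⟨s, hs1, hs⟩ := hp₁mem a ha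
    have h1 : s * a ∈ q := by rw [hs]; exact q.zero_mem
    rcases hq.mem_or_mem h1 with h | h
    · exact absurd (hqm₁ h) hs1
    · exact h
  haveI : IsDomain (A ⧸ p₁) := Ideal.Quotient.isDomain p₁
  haveI : Algebra.FiniteType k (A ⧸ p₁) :=
    Algebra.FiniteType.of_surjective (Ideal.Quotient.mkₐ k p₁) (Ideal.Quotient.mkₐ_surjective k p₁)
  obtain ⟨n', -, -, hloc⟩ := Groth.Agent.S2680.result k (A ⧸ p₁)
  have hker : ∀ (M : Ideal A), p₁ ≤ M → RingHom.ker (Ideal.Quotient.mk p₁) ≤ M := fun M h => by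
    rw [Ideal.mk_ker]; exact h
  haveI hM₁ : (m₁.map (Ideal.Quotient.mk p₁)).IsMaximal :=
    Ideal.IsMaximal.map_of_surjective_of_ker_le Ideal.Quotient.mk_surjective
      (hker m₁ (hp₁q.trans hqm₁))
  have hc₁ : (m₁.map (Ideal.Quotient.mk p₁)).comap (Ideal.Quotient.mk p₁) = m₁ := by
    rw [Ideal.comap_map_of_surjective _ Ideal.Quotient.mk_surjective,
      ← RingHom.ker_eq_comap_bot, sup_of_le_left (hker m₁ (hp₁q.trans hqm₁))]
  haveI hM : (m.map (Ideal.Quotient.mk p₁)).IsMaximal :=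
    Ideal.IsMaximal.map_of_surjective_of_ker_le Ideal.Quotient.mk_surjective
      (hker m (hp₁q.trans hqm))
  have hc : (m.map (Ideal.Quotient.mk p₁)).comap (Ideal.Quotient.mk p₁) = m := by
    rw [Ideal.comap_map_of_surjective _ Ideal.Quotient.mk_surjective,
      ← RingHom.ker_eq_comap_bot, sup_of_le_left (hker m (hp₁q.trans hqm))]
  have h5 : (n' : WithBot ℕ∞) ≤ ringKrullDim (Localization.AtPrime m) := by
    have hsurj := RingHom.surjective_localRingHom_of_surjective
      (Ideal.Quotient.mk p₁) Ideal.Quotient.mk_surjective (m.map (Ideal.Quotient.mk p₁))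
    have h := ringKrullDim_le_of_surjective _ hsurj
    rw [hloc (m.map (Ideal.Quotient.mk p₁))] at h
    exact h.trans (Groth.Agent.S10909.dim_congr _ m hc).le
  have h6 : ringKrullDim (Localization.AtPrime m₁) = (n' : WithBot ℕ∞) := by
    have hsurj := RingHom.surjective_localRingHom_of_surjective
      (Ideal.Quotient.mk p₁) Ideal.Quotient.mk_surjective (m₁.map (Ideal.Quotient.mk p₁))
    have hinj := inj_loc p₁ ((m₁.map (Ideal.Quotient.mk p₁)).comap (Ideal.Quotient.mk p₁))
      (fun a ha => by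
        obtain ⟨s, hs1, hs⟩ := hp₁mem a ha
        exact ⟨s, by rw [hc₁]; exact hs1, hs⟩) (m₁.map (Ideal.Quotient.mk p₁)) rfl
    have e := RingEquiv.ofBijective _ ⟨hinj, hsurj⟩
    rw [← hloc (m₁.map (Ideal.Quotient.mk p₁)), ← ringKrullDim_eq_of_ringEquiv e]
    exact (Groth.Agent.S10909.dim_congr _ m₁ hc₁).symm
  have hd : d₁ = n' := by
    have h7 := hd₁.symm.trans h6
    exact_mod_cast h7
  haveI : Module.Flat (Localization.AtPrime m) (Ω[Localization.AtPrime m⁄k]) :=
    Module.Flat.of_isLocalizedModule (Localization.AtPrime m) m.primeCompl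
      (KaehlerDifferential.map k k A (Localization.AtPrime m))
  haveI : Module.Free (Localization.AtPrime m) (Ω[Localization.AtPrime m⁄k]) :=
    Module.free_of_flat_of_isLocalRing
  apply IsRegularLocalRing.of_spanFinrank_maximalIdeal_le
  rw [IsLocalRing.spanFinrank_maximalIdeal_eq_finrank_cotangentSpace,
    ← Groth.Agent.H11.RegOmega.finrank_tensor_kaehler k (Localization.AtPrime m)
      (Groth.Agent.S10909.hres k A m),
    Module.finrank_baseChange, hrank, hd]
  exact h5

theorem artinian_of_min (A : Type u) [CommRing A] [IsNoetherianRing A] (p : Ideal A)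
    [hp : p.IsPrime] (hmin : p ∈ minimalPrimes A) : IsArtinianRing (Localization.AtPrime p) := by
  rw [isArtinianRing_iff_isNoetherianRing_krullDimLE_zero]
  refine ⟨inferInstance, ?_⟩
  rw [Ring.krullDimLE_iff, IsLocalization.AtPrime.ringKrullDim_eq_height p (Localization.AtPrime p),
    Ideal.height_eq_zero_iff.mpr hmin]
  simp

theorem smoothAt_of_geomReduced (k A : Type u) [Field k] [CommRing A] [Algebra k A]
    [Algebra.FiniteType k A] (p : Ideal A) [hp : p.IsPrime] (hmin : p ∈ minimalPrimes A)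
    (hgr : Algebra.IsGeometricallyReduced k (Localization.AtPrime p)) :
    Algebra.IsSmoothAt k p := by
  haveI : IsNoetherianRing A := Algebra.FiniteType.isNoetherianRing k A
  haveI : IsReduced (Localization.AtPrime p) := Algebra.isReduced_of_isGeometricallyReduced (k := k)
  haveI : IsArtinianRing (Localization.AtPrime p) := artinian_of_min A p hmin
  have hF : IsField (Localization.AtPrime p) :=
    IsArtinianRing.isField_of_isReduced_of_isLocalRing _
  letI : Field (Localization.AtPrime p) := hF.toField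
  show Algebra.FormallySmooth k (Localization.AtPrime p)
  exact Groth.Agent.H27.FieldSmooth.formallySmooth_of_geomReduced

theorem geomReduced_of_smooth (k A : Type u) [Field k] [CommRing A] [Algebra k A]
    [Algebra.FiniteType k A] [Algebra.FormallySmooth k A] (p : Ideal A) [hp : p.IsPrime]
    (hmin : p ∈ minimalPrimes A) :
    Algebra.IsGeometricallyReduced k (Localization.AtPrime p) := by
  haveI : IsNoetherianRing A := Algebra.FiniteType.isNoetherianRing k A
  haveI : IsArtinianRing (Localization.AtPrime p) := artinian_of_min A p hmin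
  haveI : Algebra.FormallySmooth A (Localization.AtPrime p) :=
    Algebra.FormallySmooth.of_isLocalization p.primeCompl
  haveI : Algebra.FormallySmooth k (Localization.AtPrime p) := Algebra.FormallySmooth.comp k A _
  have hnil := Groth.Agent.H27.AdicSmooth.isNilpotent_maximalIdeal_of_artinian
    (Localization.AtPrime p)
  have hbot := Groth.Agent.H27.FieldSmooth.maximalIdeal_eq_bot_of_field (k := k) hnil
  have hF : IsField (Localization.AtPrime p) := IsLocalRing.isField_iff_maximalIdeal_eq.mpr hbot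
  letI : Field (Localization.AtPrime p) := hF.toField
  exact Groth.Agent.H27.AdicSmooth.geomReduced_of_formallySmooth

section
variable (R S T : Type u) [CommRing R] [CommRing S] [CommRing T] [Algebra R S] [Algebra R T]

theorem h1_ascent [Module.Flat R T] (q' : Ideal (T ⊗[R] S)) [hq' : q'.IsPrime]
    (h : ∀ x : H1Cotangent R S, ∃ s : S, s ∉ q'.comap (algebraMap S (T ⊗[R] S)) ∧ s • x = 0) :
    ∀ n : H1Cotangent T (T ⊗[R] S), ∃ b : T ⊗[R] S, b ∉ q' ∧ b • n = 0 := by
  intro n
  obtain ⟨y, rfl⟩ := (tensorH1CotangentOfFlat R S T).surjective n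
  induction y using TensorProduct.induction_on with
  | zero =>
    exact ⟨1, (Ideal.ne_top_iff_one q').mp hq'.ne_top, by rw [map_zero, smul_zero]⟩
  | tmul t x =>
    obtain ⟨s, hs, hsx⟩ := h x
    refine ⟨algebraMap S (T ⊗[R] S) s, hs, ?_⟩
    rw [tensorH1CotangentOfFlat_tmul]
    have h1 : (t ⊗ₜ[R] s : T ⊗[R] S) • H1Cotangent.map R T S (T ⊗[R] S) x = 0 := by
      rw [← Groth.Agent.Helper24.SmoothDescent.smul_tmul_h1, ← map_smul, hsx, map_zero,
        smul_zero]
    have h2 : t • H1Cotangent.map R T S (T ⊗[R] S) x =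
        (t ⊗ₜ[R] (1 : S) : T ⊗[R] S) • H1Cotangent.map R T S (T ⊗[R] S) x := by
      rw [← Groth.Agent.Helper24.SmoothDescent.smul_tmul_h1, one_smul]
    have h3 : algebraMap S (T ⊗[R] S) s = (1 : T) ⊗ₜ[R] s := rfl
    rw [h2, h3, ← mul_smul, Algebra.TensorProduct.tmul_mul_tmul, one_mul, mul_one]
    exact h1
  | add y₁ y₂ h₁ h₂ =>
    obtain ⟨b₁, hb₁, e₁⟩ := h₁
    obtain ⟨b₂, hb₂, e₂⟩ := h₂
    refine ⟨b₁ * b₂, fun hmem => (hq'.mem_or_mem hmem).elim hb₁ hb₂, ?_⟩
    have hA : (b₁ * b₂) • (tensorH1CotangentOfFlat R S T) y₁ = 0 := by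
      rw [mul_comm, mul_smul, e₁, smul_zero]
    have hB : (b₁ * b₂) • (tensorH1CotangentOfFlat R S T) y₂ = 0 := by
      rw [mul_smul, e₂, smul_zero]
    rw [map_add, smul_add, hA, hB, add_zero]

theorem smoothAt_ascent [Module.Flat R T] [Algebra.FiniteType R S]
    [Module.Projective (T ⊗[R] S) Ω[(T ⊗[R] S)⁄T]]
    (q' : Ideal (T ⊗[R] S)) [hq' : q'.IsPrime]
    (h : Algebra.IsSmoothAt R (q'.comap (algebraMap S (T ⊗[R] S)))) :
    Algebra.IsSmoothAt T q' := by
  haveI : Algebra.FiniteType T (T ⊗[R] S) := inferInstance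
  have hp : (⟨q'.comap (algebraMap S (T ⊗[R] S)), inferInstance⟩ : PrimeSpectrum S) ∈
      Algebra.smoothLocus R S := h
  rw [Algebra.smoothLocus_eq_compl_support_inter] at hp
  have h1 := Module.notMem_support_iff'.mp hp.1
  have h2 := h1_ascent R S T q' (fun x => by
    obtain ⟨r, hr, e⟩ := h1 x
    exact ⟨r, hr, e⟩)
  show (⟨q', hq'⟩ : PrimeSpectrum (T ⊗[R] S)) ∈ Algebra.smoothLocus T (T ⊗[R] S)
  rw [Algebra.smoothLocus_eq_compl_support_inter]
  refine ⟨Module.notMem_support_iff'.mpr (fun n => ?_), ?_⟩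
  · obtain ⟨b, hb, e⟩ := h2 n
    exact ⟨b, hb, e⟩
  · rw [Module.freeLocus_eq_univ]
    trivial

end

theorem exists_smooth_below (k A : Type u) [Field k] [CommRing A] [Algebra k A]
    [Algebra.FiniteType k A]
    [Module.Projective (AlgebraicClosure k ⊗[k] A) Ω[(AlgebraicClosure k ⊗[k] A)⁄AlgebraicClosure k]]
    (hgen : ∀ (p : Ideal A) [p.IsPrime], p ∈ minimalPrimes A →
      Algebra.IsGeometricallyReduced k (Localization.AtPrime p))
    (m : Ideal (AlgebraicClosure k ⊗[k] A)) [hm : m.IsMaximal] :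
    ∃ q : Ideal (AlgebraicClosure k ⊗[k] A), q ≤ m ∧
      ∃ hq : q.IsPrime, Algebra.IsSmoothAt (AlgebraicClosure k) q := by
  let e : AlgebraicClosure k ⊗[k] A ≃ₐ[A] A ⊗[k] AlgebraicClosure k :=
    .ofRingEquiv (f := Algebra.TensorProduct.comm k (AlgebraicClosure k) A) <| by
      simp [RingHom.algebraMap_toAlgebra]
  haveI : Module.Flat A (AlgebraicClosure k ⊗[k] A) := .of_linearEquiv e.toLinearEquiv
  obtain ⟨n, hn⟩ : ∃ n : Ideal A, n = m.comap (algebraMap A (AlgebraicClosure k ⊗[k] A)) :=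
    ⟨_, rfl⟩
  haveI : n.IsPrime := by rw [hn]; exact Ideal.comap_isPrime _ _
  obtain ⟨p, hpmin, hpn⟩ := Ideal.exists_minimalPrimes_le (I := ⊥) (J := n) bot_le
  haveI hp : p.IsPrime := hpmin.1.1
  haveI : m.LiesOver n := ⟨hn⟩
  obtain ⟨q, hqm, hqp, hqover⟩ := Ideal.exists_ideal_le_liesOver_of_le (p := p) (q := n) m hpn
  haveI := hqp
  refine ⟨q, hqm, hqp, ?_⟩
  have hcomap : p = q.comap (algebraMap A (AlgebraicClosure k ⊗[k] A)) := hqover.over
  apply smoothAt_ascent k A (AlgebraicClosure k) q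
  have h1 : Algebra.IsSmoothAt k p := smoothAt_of_geomReduced k A p hpmin (hgen p hpmin)
  exact Groth.Agent.Helper24.SmoothDescent.isSmoothAt_congr p _ hcomap h1

theorem smooth_of_gen (k A : Type u) [Field k] [CommRing A] [Algebra k A]
    [Algebra.FiniteType k A] (hproj : Module.Projective A Ω[A⁄k])
    (hgen : ∀ (p : Ideal A) [p.IsPrime], p ∈ minimalPrimes A →
      Algebra.IsGeometricallyReduced k (Localization.AtPrime p)) :
    Algebra.Smooth k A := by
  haveI : IsNoetherianRing A := Algebra.FiniteType.isNoetherianRing k A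
  haveI : Algebra.FiniteType (AlgebraicClosure k) (AlgebraicClosure k ⊗[k] A) := inferInstance
  haveI : IsNoetherianRing (AlgebraicClosure k ⊗[k] A) :=
    Algebra.FiniteType.isNoetherianRing (AlgebraicClosure k) _
  haveI : Algebra.FinitePresentation (AlgebraicClosure k) (AlgebraicClosure k ⊗[k] A) :=
    Algebra.FinitePresentation.of_finiteType.mp inferInstance
  haveI hproj' : Module.Projective (AlgebraicClosure k ⊗[k] A)
      Ω[(AlgebraicClosure k ⊗[k] A)⁄AlgebraicClosure k] :=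
    Module.Projective.of_equiv
      (KaehlerDifferential.tensorKaehlerEquiv k (AlgebraicClosure k) A (AlgebraicClosure k ⊗[k] A))
  have hreg : ∀ (m : Ideal (AlgebraicClosure k ⊗[k] A)) [m.IsMaximal],
      Algebra.IsSmoothAt (AlgebraicClosure k) m := by
    intro m hm
    obtain ⟨q, hqm, hqprime, hqs⟩ := exists_smooth_below k A hgen m
    haveI := hqprime
    exact (Groth.Agent.S2116.result m).mp
      (regular_at_max (AlgebraicClosure k) _ m q hqm hqs)
  have huniv : Algebra.smoothLocus (AlgebraicClosure k) (AlgebraicClosure k ⊗[k] A) =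
      Set.univ := by
    by_contra hne
    obtain ⟨𝔞, h𝔞⟩ := (PrimeSpectrum.isClosed_iff_zeroLocus_ideal _).mp
      (Algebra.isOpen_smoothLocus (R := AlgebraicClosure k)
        (A := AlgebraicClosure k ⊗[k] A)).isClosed_compl
    obtain ⟨x, hx⟩ := (Set.ne_univ_iff_exists_notMem _).mp hne
    have hxc : x ∈ (Algebra.smoothLocus (AlgebraicClosure k) (AlgebraicClosure k ⊗[k] A))ᶜ := hx
    rw [h𝔞] at hxc
    have h1 : 𝔞 ≤ x.asIdeal := hxc
    have h2 : 𝔞 ≠ ⊤ := fun h => x.2.ne_top (top_le_iff.mp (h ▸ h1))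
    obtain ⟨m, hm, h𝔞m⟩ := Ideal.exists_le_maximal 𝔞 h2
    have h3 : (⟨m, hm.isPrime⟩ : PrimeSpectrum _) ∈ PrimeSpectrum.zeroLocus (𝔞 : Set _) := h𝔞m
    rw [← h𝔞] at h3
    exact h3 (hreg m)
  haveI : Algebra.FormallySmooth (AlgebraicClosure k) (AlgebraicClosure k ⊗[k] A) :=
    Algebra.smoothLocus_eq_univ_iff.mp huniv
  haveI : Algebra.Smooth (AlgebraicClosure k) (AlgebraicClosure k ⊗[k] A) :=
    ⟨inferInstance, inferInstance⟩
  exact Algebra.Smooth.of_smooth_tensorProduct_of_faithfullyFlat (AlgebraicClosure k)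

end Groth.Agent.H27.GenSmooth
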