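import Mathlib
import Groth.Agent.H27.AdicSmooth
import Groth.Agent.S9410

set_option autoImplicit false
universe u

namespace Groth.Agent.H27.GeomLocal
open TensorProduct

/-- all local rings of `R` satisfy `P` -/
def Glob (P : ∀ (R : Type u) [CommRing R], Prop) (R : Type u) [CommRing R] : Prop :=
  ∀ (p : Ideal R) [p.IsPrime], P (Localization.AtPrime p)

theorem descend_cps (k : Type u) [Field k] {ι : Type u}
    (K : ι → Type u) [∀ i, Field (K i)] [∀ i, Algebra (K i) k]
    (hdir : ∀ i j, ∃ l, Set.range (algebraMap (K i) k) ⊆ Set.range (algebraMap (K l) k) ∧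
      Set.range (algebraMap (K j) k) ⊆ Set.range (algebraMap (K l) k))
    (hcov : ∀ x : k, ∃ i, x ∈ Set.range (algebraMap (K i) k))
    (L : Type u) [Field L] [Algebra k L] [Module.Finite k L] {Q : Prop}
    (hQ : ∀ (i₀ : ι) (E : Type u) [Field E] [Algebra (K i₀) E], Module.Finite (K i₀) E →
      (k ⊗[K i₀] E ≃ₐ[k] L) → Q) : Q := by
  classical
  have hcovfin : ∀ s : Finset k, ∃ i, ∀ x ∈ s, x ∈ Set.range (algebraMap (K i) k) := by
    intro s
    induction s using Finset.induction_on with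
    | empty => obtain ⟨i, _⟩ := hcov 0; exact ⟨i, fun x hx => absurd hx (Finset.notMem_empty x)⟩
    | insert a s _ ih =>
      obtain ⟨i, hi⟩ := ih
      obtain ⟨j, hj⟩ := hcov a
      obtain ⟨l, hl1, hl2⟩ := hdir i j
      refine ⟨l, fun x hx => ?_⟩
      rcases Finset.mem_insert.mp hx with rfl | hx
      · exact hl2 hj
      · exact hl1 (hi x hx)
  obtain ⟨b, -⟩ : ∃ b : Module.Basis (Fin (Module.finrank k L)) k L, b = b := ⟨Module.finBasis k L, rfl⟩
  obtain ⟨i₀, hi₀⟩ := hcovfin ((Finset.univ.image (fun t : Fin (Module.finrank k L) × Fin (Module.finrank k L) × Fin (Module.finrank k L) => b.repr (b t.1 * b t.2.1) t.2.2)) ∪ (Finset.univ.image (fun l => b.repr 1 l)))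
  have hc : ∀ i j l, ∃ r : K i₀, algebraMap (K i₀) k r = b.repr (b i * b j) l := by
    intro i j l
    exact hi₀ _ (Finset.mem_union_left _ (Finset.mem_image.mpr ⟨(i, j, l), Finset.mem_univ _, rfl⟩))
  have hu : ∀ l, ∃ r : K i₀, algebraMap (K i₀) k r = b.repr 1 l := by
    intro l
    exact hi₀ _ (Finset.mem_union_right _ (Finset.mem_image.mpr ⟨l, Finset.mem_univ _, rfl⟩))
  letI algFL : Algebra (K i₀) L := ((algebraMap k L).comp (algebraMap (K i₀) k)).toAlgebra
  haveI : IsScalarTower (K i₀) k L := IsScalarTower.of_algebraMap_eq (fun _ => rfl)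
  haveI : FaithfulSMul (K i₀) k := (faithfulSMul_iff_algebraMap_injective _ _).mpr (algebraMap (K i₀) k).injective
  obtain ⟨M, hM⟩ : ∃ M : Submodule (K i₀) L, M = Submodule.span (K i₀) (Set.range b) := ⟨_, rfl⟩
  have hbM : ∀ j, b j ∈ M := fun j => by rw [hM]; exact Submodule.subset_span ⟨j, rfl⟩
  have hexp : ∀ x : L, (∀ l, ∃ r : K i₀, algebraMap (K i₀) k r = b.repr x l) → x ∈ M := by
    intro x hx
    rw [← b.sum_repr x]
    refine Submodule.sum_mem _ (fun l _ => ?_)
    obtain ⟨r, hr⟩ := hx l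
    rw [← hr, algebraMap_smul]
    exact Submodule.smul_mem _ _ (hbM l)
  have h1 : (1 : L) ∈ M := hexp 1 hu
  have hbb : ∀ i j, b i * b j ∈ M := fun i j => hexp _ (hc i j)
  have hmul : ∀ x y, x ∈ M → y ∈ M → x * y ∈ M := by
    intro x y hx hy
    rw [hM] at hx hy
    induction hx using Submodule.span_induction with
    | mem x hx =>
      obtain ⟨i, rfl⟩ := hx
      induction hy using Submodule.span_induction with
      | mem y hy => obtain ⟨j, rfl⟩ := hy; exact hbb i j
      | zero => rw [mul_zero]; exact M.zero_mem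
      | add y z _ _ hy hz => rw [mul_add]; exact M.add_mem hy hz
      | smul r y _ hy => rw [mul_smul_comm]; exact M.smul_mem r hy
    | zero => rw [zero_mul]; exact M.zero_mem
    | add x z _ _ hx hz => rw [add_mul]; exact M.add_mem hx hz
    | smul r x _ hx => rw [smul_mul_assoc]; exact M.smul_mem r hx
  obtain ⟨L₀, hL₀⟩ : ∃ L₀ : Subalgebra (K i₀) L, ∀ x, x ∈ L₀ ↔ x ∈ M :=
    ⟨M.toSubalgebra h1 hmul, fun x => Submodule.mem_toSubalgebra⟩
  have hfg : (Subalgebra.toSubmodule L₀).FG := by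
    have : Subalgebra.toSubmodule L₀ = M := by
      ext x; rw [Subalgebra.mem_toSubmodule]; exact hL₀ x
    rw [this, hM]; exact Submodule.fg_span (Set.finite_range b)
  haveI : Algebra.IsIntegral (K i₀) ↥L₀ := ⟨fun x =>
    (isIntegral_algHom_iff L₀.val Subtype.val_injective).mp (IsIntegral.of_mem_of_fg L₀ hfg x.1 x.2)⟩
  have hfield : IsField ↥L₀ := isField_of_isIntegral_of_isField' (Field.toIsField (K i₀))
  obtain ⟨E, hE⟩ : ∃ E : IntermediateField (K i₀) L, ∀ x, x ∈ E ↔ x ∈ M :=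
    ⟨L₀.toIntermediateField' hfield, fun x => by rw [← hL₀ x]; rfl⟩
  have hbE : ∀ j, b j ∈ E := fun j => (hE _).mpr (hbM j)
  obtain ⟨b', hb'⟩ : ∃ b' : Fin (Module.finrank k L) → ↥E, ∀ j, (b' j : L) = b j :=
    ⟨fun j => ⟨b j, hbE j⟩, fun j => rfl⟩
  have hli : LinearIndependent (K i₀) b' := by
    have h0 : LinearIndependent (K i₀) (fun j => b j) :=
      LinearIndependent.restrict_scalars' (K i₀) b.linearIndependent
    refine LinearIndependent.of_comp E.val.toLinearMap ?_
    convert h0 using 1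
    ext j; exact hb' j
  have hsp : ⊤ ≤ Submodule.span (K i₀) (Set.range b') := by
    rintro ⟨x, hx⟩ -
    have hxM : x ∈ Submodule.span (K i₀) (Set.range b) := by rw [← hM]; exact (hE x).mp hx
    have key : ∀ y, y ∈ Submodule.span (K i₀) (Set.range b) →
        ∃ z : ↥E, z ∈ Submodule.span (K i₀) (Set.range b') ∧ (z : L) = y := by
      intro y hy
      induction hy using Submodule.span_induction with
      | mem y hy => obtain ⟨j, rfl⟩ := hy; exact ⟨b' j, Submodule.subset_span ⟨j, rfl⟩, hb' j⟩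
      | zero => exact ⟨0, Submodule.zero_mem _, rfl⟩
      | add y z _ _ hy hz =>
        obtain ⟨y', hy', rfl⟩ := hy; obtain ⟨z', hz', rfl⟩ := hz
        exact ⟨y' + z', Submodule.add_mem _ hy' hz', rfl⟩
      | smul r y _ hy =>
        obtain ⟨y', hy', rfl⟩ := hy
        exact ⟨r • y', Submodule.smul_mem _ r hy', rfl⟩
    obtain ⟨z, hz, hzx⟩ := key x hxM
    have : z = ⟨x, hx⟩ := Subtype.ext hzx
    rw [← this]; exact hz
  obtain ⟨bE, hbE'⟩ : ∃ bE : Module.Basis (Fin (Module.finrank k L)) (K i₀) ↥E, ∀ j, (bE j : L) = b j :=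
    ⟨Module.Basis.mk hli hsp, fun j => by rw [Module.Basis.mk_apply]; exact hb' j⟩
  haveI : Module.Finite (K i₀) ↥E := Module.Finite.of_basis bE
  obtain ⟨φ, hφ⟩ : ∃ φ : k ⊗[K i₀] ↥E →ₐ[k] L, ∀ (a : k) (x : ↥E), φ (a ⊗ₜ x) = algebraMap k L a * (x : L) :=
    ⟨Algebra.TensorProduct.lift (Algebra.ofId k L) E.val (fun _ _ => Commute.all _ _), fun a x => by
      rw [Algebra.TensorProduct.lift_tmul]; rfl⟩
  have hφbij : Function.Bijective φ := by
    obtain ⟨bT, hbT⟩ : ∃ bT : Module.Basis (Fin (Module.finrank k L)) k (k ⊗[K i₀] ↥E), ∀ j, bT j = 1 ⊗ₜ bE j :=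
      ⟨bE.baseChange k, fun j => Module.Basis.baseChange_apply k bE j⟩
    obtain ⟨eL, heL⟩ : ∃ eL : (k ⊗[K i₀] ↥E) ≃ₗ[k] L, ∀ j, eL (bT j) = b j :=
      ⟨bT.equiv b (Equiv.refl _), fun j => by rw [Module.Basis.equiv_apply]; rfl⟩
    have hφe : φ.toLinearMap = eL.toLinearMap := by
      refine bT.ext (fun j => ?_)
      rw [AlgHom.toLinearMap_apply, LinearEquiv.coe_coe, heL, hbT, hφ, map_one, one_mul, hbE']
    have : ⇑φ = ⇑eL := funext (fun x => LinearMap.congr_fun hφe x)
    rw [this]; exact eL.bijective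
  exact hQ i₀ ↥E inferInstance (AlgEquiv.ofBijective φ hφbij)

section
variable {P : ∀ (R : Type u) [CommRing R], Prop}
variable (hiso : ∀ (R R' : Type u) [CommRing R] [CommRing R'], (R ≃+* R') → P R → P R')
include hiso

theorem glob_down {R R' : Type u} [CommRing R] [CommRing R'] (π : R →+* R')
    (hπ : Function.Surjective π) (τ : R) (hτ : π τ = 1) (hkill : ∀ x, π x = 0 → τ * x = 0)
    (h : Glob P R) : Glob P R' := by
  intro q' hq'
  have hb := Groth.Agent.S9410.locIso π hπ (q'.comap π) q' rfl τ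
    (by rw [hτ]; exact fun h => hq'.ne_top ((Ideal.eq_top_iff_one _).mpr h)) hkill
  exact hiso _ _ (RingEquiv.ofBijective _ hb) (h (q'.comap π))

theorem loc_up {R R' : Type u} [CommRing R] [CommRing R'] (π : R →+* R')
    (hπ : Function.Surjective π) (q : Ideal R) [q.IsPrime] (hker : RingHom.ker π ≤ q) (τ : R)
    (hτ : τ ∉ q) (hkill : ∀ x, π x = 0 → τ * x = 0) (h : Glob P R') :
    P (Localization.AtPrime q) := by
  haveI : (q.map π).IsPrime := Ideal.map_isPrime_of_surjective hπ hker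
  have hcm : (q.map π).comap π = q := by
    rw [Ideal.comap_map_of_surjective π hπ, ← RingHom.ker_eq_comap_bot, sup_eq_left]
    exact hker
  have hτ' : π τ ∉ q.map π := fun h => hτ (by rw [← hcm]; exact h)
  have hb := Groth.Agent.S9410.locIso π hπ q (q.map π) hcm.symm τ hτ' hkill
  exact hiso _ _ (RingEquiv.ofBijective _ hb).symm (h (q.map π))

theorem glob_of_ringEquiv {R R' : Type u} [CommRing R] [CommRing R'] (e : R ≃+* R')
    (h : Glob P R) : Glob P R' :=
  glob_down hiso e.toRingHom e.surjective 1 (map_one _) (fun x hx => by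
    rw [one_mul]; exact e.injective (by rw [map_zero]; exact hx)) h

theorem transfer (k F A L E : Type u) [Field k] [Field F] [Algebra F k] [Field L] [Algebra k L]
    [Field E] [Algebra F E] [CommRing A] [Algebra k A] [Algebra F A] [IsScalarTower F k A]
    (e' : k ⊗[F] E ≃ₐ[k] L) (h : Glob P (E ⊗[F] A)) : Glob P (L ⊗[k] A) := by
  let e1 : L ⊗[k] A ≃ₐ[k] (k ⊗[F] E) ⊗[k] A := Algebra.TensorProduct.congr e'.symm AlgEquiv.refl
  let e2 : (k ⊗[F] E) ⊗[k] A ≃ₐ[k] A ⊗[k] (k ⊗[F] E) := Algebra.TensorProduct.comm k _ _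
  let e3 : A ⊗[k] (k ⊗[F] E) ≃ₐ[k] A ⊗[F] E :=
    Algebra.TensorProduct.cancelBaseChange F k k A E
  let e4 : A ⊗[F] E ≃ₐ[F] E ⊗[F] A := Algebra.TensorProduct.comm F A E
  exact glob_of_ringEquiv hiso
    (((e1.toRingEquiv.trans e2.toRingEquiv).trans e3.toRingEquiv).trans e4.toRingEquiv).symm h

theorem union (k : Type u) [Field k] {ι : Type u}
    (K : ι → Type u) [∀ i, Field (K i)] [∀ i, Algebra (K i) k]
    (hdir : ∀ i j, ∃ l, Set.range (algebraMap (K i) k) ⊆ Set.range (algebraMap (K l) k) ∧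
      Set.range (algebraMap (K j) k) ⊆ Set.range (algebraMap (K l) k))
    (hcov : ∀ x : k, ∃ i, x ∈ Set.range (algebraMap (K i) k))
    (A : Type u) [CommRing A] [Algebra k A] [∀ i, Algebra (K i) A]
    [∀ i, IsScalarTower (K i) k A]
    (h : ∀ i, ∀ (k' : Type u) [Field k'] [Algebra (K i) k'], Module.Finite (K i) k' →
      Glob P (k' ⊗[K i] A))
    (L : Type u) [Field L] [Algebra k L] [Module.Finite k L] : Glob P (L ⊗[k] A) := by
  refine descend_cps k K hdir hcov L (fun i₀ E _ _ hfin e' => ?_)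
  exact transfer hiso k (K i₀) A L E e' (h i₀ E hfin)

theorem fin_sep_down (k E M A : Type u) [Field k] [Field E] [Algebra k E] [Module.Finite k E]
    [Algebra.IsSeparable k E] [Field M] [Algebra E M] [Algebra k M] [IsScalarTower k E M]
    [CommRing A] [Algebra k A] [Algebra E A] [IsScalarTower k E A]
    (h : Glob P (M ⊗[k] A)) : Glob P (M ⊗[E] A) := by
  haveI : Algebra.FormallyUnramified k E := Algebra.FormallyUnramified.of_isSeparable k E
  obtain ⟨t, ht1, ht2⟩ :=
    (Algebra.FormallyUnramified.iff_exists_tensorProduct (R := k) (S := E)).mp inferInstance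
  obtain ⟨π, hπt, hπs, hπk⟩ : ∃ π : M ⊗[k] A →ₐ[E] M ⊗[E] A,
      (∀ m a, π (m ⊗ₜ a) = m ⊗ₜ a) ∧ Function.Surjective π ∧
      ∀ x, π x = 0 → x ∈ Submodule.span E {y : M ⊗[k] A | ∃ (d : E) (m : M) (a : A),
        (d • m) ⊗ₜ[k] a - m ⊗ₜ[k] (d • a) = y} := by
    refine ⟨Algebra.TensorProduct.mapOfCompatibleSMul E k E M A,
      fun m a => Algebra.TensorProduct.mapOfCompatibleSMul_tmul E k E M A m a,
      Algebra.TensorProduct.mapOfCompatibleSMul_surjective E k E M A, fun x hx => ?_⟩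
    rw [← TensorProduct.AlgebraTensorModule.ker_mapOfCompatibleSMul (R := k) E M (N := A)]
    exact hx
  obtain ⟨ψ, hψ⟩ : ∃ ψ : E ⊗[k] E →ₐ[k] M ⊗[k] A,
      ∀ x y, ψ (x ⊗ₜ y) = algebraMap E M x ⊗ₜ algebraMap E A y :=
    ⟨Algebra.TensorProduct.map (IsScalarTower.toAlgHom k E M) (IsScalarTower.toAlgHom k E A),
      fun x y => rfl⟩
  have hcomp : ∀ z : E ⊗[k] E,
      π (ψ z) = algebraMap E (M ⊗[E] A) (Algebra.TensorProduct.lmul' k z) := by
    intro z
    induction z using TensorProduct.induction_on with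
    | zero => simp
    | tmul x y =>
      rw [hψ, hπt, Algebra.TensorProduct.lmul'_apply_tmul]
      calc algebraMap E M x ⊗ₜ[E] algebraMap E A y
          = algebraMap E M x ⊗ₜ[E] (y • (1 : A)) := by rw [Algebra.algebraMap_eq_smul_one y]
        _ = (y • algebraMap E M x) ⊗ₜ[E] (1 : A) :=
            (TensorProduct.smul_tmul y (algebraMap E M x) (1 : A)).symm
        _ = algebraMap E M (x * y) ⊗ₜ[E] (1 : A) := by rw [Algebra.smul_def, ← map_mul, mul_comm]
        _ = algebraMap E (M ⊗[E] A) (x * y) := (Algebra.TensorProduct.algebraMap_apply _).symm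
    | add x y hx hy => rw [map_add, map_add, map_add, map_add, hx, hy]
  obtain ⟨τ, hτdef⟩ : ∃ τ, τ = ψ t := ⟨_, rfl⟩
  have hτ1 : π τ = 1 := by rw [hτdef, hcomp, ht2, map_one]
  have hspan : ∀ x ∈ Submodule.span E {y : M ⊗[k] A | ∃ (d : E) (m : M) (a : A),
      (d • m) ⊗ₜ[k] a - m ⊗ₜ[k] (d • a) = y}, τ * x = 0 := by
    intro x hmem
    induction hmem using Submodule.span_induction with
    | mem y hy =>
      obtain ⟨d, m, a, rfl⟩ := hy
      have h1 : (d • m) ⊗ₜ[k] a - m ⊗ₜ[k] (d • a)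
          = (m ⊗ₜ[k] a) * ψ (d ⊗ₜ[k] (1 : E) - (1 : E) ⊗ₜ[k] d) := by
        rw [map_sub, hψ, hψ, mul_sub, Algebra.TensorProduct.tmul_mul_tmul,
          Algebra.TensorProduct.tmul_mul_tmul, map_one, map_one, mul_one, mul_one,
          Algebra.smul_def d m, Algebra.smul_def d a, mul_comm m, mul_comm a]
      have h2 : (d ⊗ₜ[k] (1 : E) - (1 : E) ⊗ₜ[k] d) * t = 0 := by
        have := ht1 d
        rw [← neg_sub, neg_mul, this, neg_zero]
      rw [h1, hτdef]
      calc ψ t * ((m ⊗ₜ[k] a) * ψ (d ⊗ₜ[k] (1 : E) - (1 : E) ⊗ₜ[k] d))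
          = (m ⊗ₜ[k] a) * ψ ((d ⊗ₜ[k] (1 : E) - (1 : E) ⊗ₜ[k] d) * t) := by
            rw [map_mul]; ring
        _ = 0 := by rw [h2, map_zero, mul_zero]
    | zero => exact mul_zero _
    | add y z _ _ hy hz => rw [mul_add, hy, hz, add_zero]
    | smul e y _ hy => rw [mul_smul_comm, hy, smul_zero]
  exact glob_down hiso (π : M ⊗[k] A →+* M ⊗[E] A) hπs τ hτ1 (fun x hx => hspan x (hπk x hx)) h


theorem sep_iff (k : Type u) [Field k] (k' : Type u) [Field k'] [Algebra k k']
    [Algebra.IsSeparable k k'] (A : Type u) [CommRing A] [Algebra k' A] [Algebra k A]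
    [IsScalarTower k k' A] :
    (∀ (L : Type u) [Field L] [Algebra k L], Module.Finite k L → Glob P (L ⊗[k] A)) ↔
    (∀ (M : Type u) [Field M] [Algebra k' M], Module.Finite k' M → Glob P (M ⊗[k'] A)) := by
  constructor
  · intro hk M _ _ hfinM
    haveI : Module.Finite k' M := hfinM
    haveI : ∀ i : {E : IntermediateField k k' // FiniteDimensional k E}, FiniteDimensional k i.1 :=
      fun i => i.2
    refine union hiso k'
      (fun i : {E : IntermediateField k k' // FiniteDimensional k E} => ↥i.1) ?_ ?_ A ?_ M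
    · intro i j
      refine ⟨⟨i.1 ⊔ j.1, IntermediateField.finiteDimensional_sup i.1 j.1⟩, ?_, ?_⟩
      · rintro _ ⟨x, rfl⟩
        exact ⟨⟨x.1, (le_sup_left : i.1 ≤ i.1 ⊔ j.1) x.2⟩, rfl⟩
      · rintro _ ⟨x, rfl⟩
        exact ⟨⟨x.1, (le_sup_right : j.1 ≤ i.1 ⊔ j.1) x.2⟩, rfl⟩
    · intro x
      have hx : IsIntegral k x := Algebra.IsSeparable.isIntegral k x
      exact ⟨⟨IntermediateField.adjoin k {x}, IntermediateField.adjoin.finiteDimensional hx⟩,
        ⟨⟨x, IntermediateField.mem_adjoin_simple_self k x⟩, rfl⟩⟩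
    · intro i M' _ _ hfin
      haveI : Module.Finite i.1 M' := hfin
      letI : Algebra k M' := ((algebraMap i.1 M').comp (algebraMap k i.1)).toAlgebra
      haveI : IsScalarTower k i.1 M' := IsScalarTower.of_algebraMap_eq (fun _ => rfl)
      haveI : Module.Finite k M' := Module.Finite.trans i.1 M'
      haveI : Algebra.IsSeparable k i.1 := Algebra.isSeparable_tower_bot_of_isSeparable k i.1 k'
      exact fin_sep_down hiso k i.1 M' A (hk M' inferInstance)
  · intro hk' L _ _ hfin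
    haveI : Module.Finite k L := hfin
    haveI := Algebra.FormallyEtale.of_isSeparable k k'
    haveI : Algebra.IsGeometricallyReduced k k' :=
      Groth.Agent.H27.AdicSmooth.geomReduced_of_formallySmooth
    haveI : Algebra.IsAlgebraic k L := Algebra.IsAlgebraic.of_finite k L
    haveI hred0 : IsReduced (L ⊗[k] k') := inferInstance
    haveI hred : IsReduced (k' ⊗[k] L) :=
      isReduced_of_injective (Algebra.TensorProduct.comm k k' L).toRingEquiv.toRingHom
        (Algebra.TensorProduct.comm k k' L).injective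
    haveI : IsArtinianRing (k' ⊗[k] L) := IsArtinianRing.of_finite k' _
    have hR2 : Glob P (A ⊗[k'] (k' ⊗[k] L)) := by
      intro q hq
      obtain ⟨incl, hincl, hincl2⟩ : ∃ incl : (k' ⊗[k] L) →+* A ⊗[k'] (k' ⊗[k] L),
          (∀ c, incl c = (1 : A) ⊗ₜ[k'] c) ∧ ∀ I : Ideal (k' ⊗[k] L), I.map incl = I.map
            (Algebra.TensorProduct.includeRight : (k' ⊗[k] L) →ₐ[k'] A ⊗[k'] (k' ⊗[k] L)) :=
        ⟨(Algebra.TensorProduct.includeRight : (k' ⊗[k] L) →ₐ[k'] A ⊗[k'] (k' ⊗[k] L)).toRingHom,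
          fun c => rfl, fun I => rfl⟩
      obtain ⟨m, hm⟩ : ∃ m : Ideal (k' ⊗[k] L), m = q.comap incl := ⟨_, rfl⟩
      haveI hmp : m.IsPrime := hm ▸ Ideal.comap_isPrime incl q
      haveI hmm : m.IsMaximal := IsArtinianRing.isMaximal_of_isPrime m
      obtain ⟨τ₀, hτ₀1, hτ₀2⟩ := Groth.Agent.S9410.art_idem m
      letI : Field ((k' ⊗[k] L) ⧸ m) := Ideal.Quotient.field m
      have hreg1 : Glob P (((k' ⊗[k] L) ⧸ m) ⊗[k'] A) := hk' _ inferInstance
      have hreg2 : Glob P (A ⊗[k'] ((k' ⊗[k] L) ⧸ m)) :=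
        glob_of_ringEquiv hiso (Algebra.TensorProduct.comm k' _ _).toRingEquiv hreg1
      obtain ⟨π, hπs, hker⟩ : ∃ π : A ⊗[k'] (k' ⊗[k] L) →+* A ⊗[k'] ((k' ⊗[k] L) ⧸ m),
          Function.Surjective π ∧ RingHom.ker π = m.map incl := by
        refine ⟨(Algebra.TensorProduct.map (AlgHom.id k' A) (Ideal.Quotient.mkₐ k' m)).toRingHom,
          Algebra.TensorProduct.map_surjective _ _ Function.surjective_id
            (Ideal.Quotient.mkₐ_surjective k' m), ?_⟩
        have h := Algebra.TensorProduct.lTensor_ker (A := A) (Ideal.Quotient.mkₐ k' m)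
          (Ideal.Quotient.mkₐ_surjective k' m)
        have hkm : RingHom.ker (Ideal.Quotient.mkₐ k' m) = m := by
          ext x
          rw [RingHom.mem_ker, Ideal.Quotient.mkₐ_eq_mk, Ideal.Quotient.eq_zero_iff_mem]
        rw [hkm, ← hincl2] at h
        refine Ideal.ext (fun x => ?_)
        rw [← h]
        exact Iff.rfl
      refine loc_up hiso π hπs q ?_ (incl τ₀) ?_ ?_ hreg2
      · rw [hker, Ideal.map_le_iff_le_comap, hm]
      · intro h
        exact hτ₀1 (hm ▸ h)
      · intro x hx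
        have hx' : x ∈ m.map incl := by rw [← hker]; exact hx
        have hle : m.map incl ≤ (Ideal.span {incl τ₀}).annihilator := by
          rw [Ideal.map_le_iff_le_comap]
          intro y hy
          rw [Ideal.mem_comap, Submodule.mem_annihilator_span_singleton, smul_eq_mul, ← map_mul,
            mul_comm, hτ₀2 y hy, map_zero]
        have h3 := hle hx'
        rw [Submodule.mem_annihilator_span_singleton, smul_eq_mul] at h3
        rw [mul_comm]; exact h3
    exact glob_of_ringEquiv hiso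
      ((Algebra.TensorProduct.cancelBaseChange k k' k' A L).toRingEquiv.trans
        (Algebra.TensorProduct.comm k A L).toRingEquiv) hR2

end

end Groth.Agent.H27.GeomLocal
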