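import Mathlib

set_option autoImplicit false
universe u

namespace Groth.Agent.H27.GrNoeth

open DirectSum

section
variable {R A : Type u} [CommRing R] [CommRing A] [Algebra R A]
  (𝒜 : ℤ → Submodule R A) [GradedAlgebra 𝒜]

/-- component extraction -/
theorem extract {n : ℤ} {y : A} (hy : y ∈ 𝒜 n) (s : Finset A) (a : A → A) (d k : A → ℤ)
    (hx : ∀ x ∈ s, x ∈ 𝒜 (d x)) (hk : ∀ x ∈ s, k x + d x = n)
    (h : ∑ x ∈ s, a x * x = y) :
    y = ∑ x ∈ s, (decompose 𝒜 (a x) (k x) : A) * x := by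
  have h1 : GradedRing.proj 𝒜 n y = y := by
    rw [GradedRing.proj_apply]; exact decompose_of_mem_same 𝒜 hy
  calc y = GradedRing.proj 𝒜 n y := h1.symm
    _ = GradedRing.proj 𝒜 n (∑ x ∈ s, a x * x) := by rw [h]
    _ = ∑ x ∈ s, GradedRing.proj 𝒜 n (a x * x) := map_sum _ _ _
    _ = ∑ x ∈ s, (decompose 𝒜 (a x) (k x) : A) * x := by
      refine Finset.sum_congr rfl (fun x hxs => ?_)
      rw [GradedRing.proj_apply, ← hk x hxs]
      exact coe_decompose_mul_add_of_right_mem 𝒜 (hx x hxs)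

/-- component extraction, general index type -/
theorem extract' {n : ℤ} {y : A} (hy : y ∈ 𝒜 n) {ι : Type*} (s : Finset ι) (a x : ι → A)
    (d k : ι → ℤ)
    (hx : ∀ i ∈ s, x i ∈ 𝒜 (d i)) (hk : ∀ i ∈ s, k i + d i = n)
    (h : ∑ i ∈ s, a i * x i = y) :
    y = ∑ i ∈ s, (decompose 𝒜 (a i) (k i) : A) * x i := by
  have h1 : GradedRing.proj 𝒜 n y = y := by
    rw [GradedRing.proj_apply]; exact decompose_of_mem_same 𝒜 hy
  calc y = GradedRing.proj 𝒜 n y := h1.symm
    _ = GradedRing.proj 𝒜 n (∑ i ∈ s, a i * x i) := by rw [h]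
    _ = ∑ i ∈ s, GradedRing.proj 𝒜 n (a i * x i) := map_sum _ _ _
    _ = ∑ i ∈ s, (decompose 𝒜 (a i) (k i) : A) * x i := by
      refine Finset.sum_congr rfl (fun i his => ?_)
      rw [GradedRing.proj_apply, ← hk i his]
      exact coe_decompose_mul_add_of_right_mem 𝒜 (hx i his)

theorem piece_fg (H : ∀ I : Ideal A, I.IsHomogeneous 𝒜 → I.FG) (n : ℤ) :
    ∃ t : Finset A, ((t : Set A) ⊆ (𝒜 n : Set A)) ∧
      ∀ z ∈ 𝒜 n, z ∈ Submodule.span (𝒜 0) (t : Set A) := by
  classical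
  have hhom : (Ideal.span (𝒜 n : Set A)).IsHomogeneous 𝒜 :=
    Ideal.homogeneous_span 𝒜 _ (fun x hx => ⟨n, hx⟩)
  obtain ⟨t, ht, hspan⟩ := (Submodule.fg_span_iff_fg_span_finset_subset _).1 (H _ hhom)
  refine ⟨t, ht, fun z hz => ?_⟩
  have hz' : z ∈ Ideal.span (t : Set A) := by
    rw [Ideal.span, ← hspan]; exact Ideal.subset_span hz
  obtain ⟨f, -, hf⟩ := Submodule.mem_span_finset.1 hz'
  have h1 := extract 𝒜 hz t f (fun _ => n) (fun _ => 0) (fun x hx => ht hx)
    (fun x _ => zero_add n) (by simpa only [smul_eq_mul] using hf)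
  rw [h1]
  refine Submodule.sum_mem _ (fun x hx => ?_)
  have h2 : ((decompose 𝒜 (f x) 0 : 𝒜 0) : A) * x = (decompose 𝒜 (f x) 0 : 𝒜 0) • x :=
    (Algebra.smul_def (decompose 𝒜 (f x) 0 : 𝒜 0) x).symm
  rw [h2]
  exact Submodule.smul_mem _ _ (Submodule.subset_span hx)

theorem isNoetherianRing_zero (H : ∀ I : Ideal A, I.IsHomogeneous 𝒜 → I.FG) :
    IsNoetherianRing (𝒜 0) := by
  classical
  rw [isNoetherianRing_iff_ideal_fg]
  intro I₀
  have hhom : (Ideal.span ((algebraMap (𝒜 0) A) '' (I₀ : Set (𝒜 0)))).IsHomogeneous 𝒜 :=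
    Ideal.homogeneous_span 𝒜 _ (by rintro _ ⟨x, -, rfl⟩; exact ⟨0, x.2⟩)
  obtain ⟨t, ht, hspan⟩ := (Submodule.fg_span_iff_fg_span_finset_subset _).1 (H _ hhom)
  have hex : ∀ x ∈ t, ∃ x' : 𝒜 0, x' ∈ I₀ ∧ (x' : A) = x := fun x hx => by
    obtain ⟨x', hx', hxx⟩ := ht hx
    exact ⟨x', hx', hxx⟩
  choose! g hg using hex
  refine ⟨t.image g, ?_⟩
  apply le_antisymm
  · rw [Submodule.span_le]
    intro y hy
    rw [Finset.coe_image] at hy
    obtain ⟨x, hx, rfl⟩ := hy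
    exact (hg x hx).1
  · intro y hy
    have hy' : (y : A) ∈ Ideal.span (t : Set A) := by
      rw [Ideal.span, ← hspan]; exact Ideal.subset_span ⟨y, hy, rfl⟩
    obtain ⟨f, -, hf⟩ := Submodule.mem_span_finset.1 hy'
    have h1 := extract 𝒜 y.2 t f (fun _ => 0) (fun _ => 0)
      (fun x hx => by obtain ⟨x', -, hxx⟩ := ht hx; rw [← hxx]; exact x'.2)
      (fun _ _ => zero_add 0) (by simpa only [smul_eq_mul] using hf)
    have h2 : y = ∑ x ∈ t, (decompose 𝒜 (f x) 0) * g x := by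
      apply Subtype.ext
      show (y : A) = algebraMap (𝒜 0) A (∑ x ∈ t, (decompose 𝒜 (f x) 0) * g x)
      rw [map_sum, h1]
      refine Finset.sum_congr rfl (fun x hx => ?_)
      rw [map_mul]
      show _ = ((decompose 𝒜 (f x) 0 : 𝒜 0) : A) * ((g x : 𝒜 0) : A)
      rw [(hg x hx).2]
    rw [h2]
    exact Submodule.sum_mem _ (fun x hx => Ideal.mul_mem_left _ _
      (Ideal.subset_span (Finset.mem_coe.2 (Finset.mem_image_of_mem g hx))))

theorem half_fg (H : ∀ I : Ideal A, I.IsHomogeneous 𝒜 → I.FG) (ε : ℤ) :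
    (Algebra.adjoin (𝒜 0) {a : A | ∃ n : ℕ, a ∈ 𝒜 (ε * n)}).FG := by
  classical
  have hhom : (Ideal.span {a : A | ∃ n : ℕ, 0 < n ∧ a ∈ 𝒜 (ε * n)}).IsHomogeneous 𝒜 :=
    Ideal.homogeneous_span 𝒜 _ (fun x hx => by obtain ⟨n, -, hn⟩ := hx; exact ⟨_, hn⟩)
  obtain ⟨t, ht, hspan⟩ := (Submodule.fg_span_iff_fg_span_finset_subset _).1 (H _ hhom)
  have hex : ∀ x ∈ t, ∃ n : ℕ, 0 < n ∧ x ∈ 𝒜 (ε * n) := fun x hx => ht hx
  choose! dg hdg using hex
  choose u hu1 hu2 using fun n : ℕ => piece_fg 𝒜 H (ε * n)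
  obtain ⟨d, hd⟩ : ∃ d : ℕ, d = t.sup dg := ⟨_, rfl⟩
  obtain ⟨T, hT⟩ : ∃ T : Finset A, T = t ∪ (Finset.range d).biUnion u := ⟨_, rfl⟩
  have htT : ∀ x ∈ t, x ∈ Algebra.adjoin (𝒜 0) (T : Set A) := fun x hx =>
    Algebra.subset_adjoin (Finset.mem_coe.2 (by rw [hT]; exact Finset.mem_union_left _ hx))
  have key : ∀ n : ℕ, ∀ y ∈ 𝒜 (ε * n), y ∈ Algebra.adjoin (𝒜 0) (T : Set A) := by
    intro n
    induction n using Nat.strong_induction_on with
    | _ n ih =>
      intro y hy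
      rcases Nat.eq_zero_or_pos n with rfl | hn0
      · have hy0 : y ∈ 𝒜 0 := by simpa using hy
        exact Subalgebra.algebraMap_mem _ (⟨y, hy0⟩ : 𝒜 0)
      by_cases hnd : n < d
      · have h1 := hu2 n y hy
        have hle : Submodule.span (𝒜 0) (u n : Set A) ≤
            Subalgebra.toSubmodule (Algebra.adjoin (𝒜 0) (T : Set A)) := by
          rw [Submodule.span_le]
          intro x hx
          exact Algebra.subset_adjoin (Finset.mem_coe.2 (by
            rw [hT]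
            exact Finset.mem_union_right _
              (Finset.mem_biUnion.2 ⟨n, Finset.mem_range.2 hnd, hx⟩)))
        exact hle h1
      · rw [not_lt] at hnd
        have hyP : y ∈ Ideal.span (t : Set A) := by
          rw [Ideal.span, ← hspan]; exact Ideal.subset_span ⟨n, hn0, hy⟩
        obtain ⟨f, -, hf⟩ := Submodule.mem_span_finset.1 hyP
        have hdgle : ∀ x ∈ t, dg x ≤ n := fun x hx =>
          ((Finset.le_sup hx).trans (le_of_eq hd.symm)).trans hnd
        have h1 := extract 𝒜 hy t f (fun x => ε * dg x)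
          (fun x => ε * ((n - dg x : ℕ) : ℤ))
          (fun x hx => (hdg x hx).2)
          (fun x hx => by
            show ε * ((n - dg x : ℕ) : ℤ) + ε * (dg x : ℤ) = ε * (n : ℤ)
            rw [← mul_add]
            congr 1
            have := hdgle x hx
            omega)
          (by simpa only [smul_eq_mul] using hf)
        rw [h1]
        refine Subalgebra.sum_mem _ (fun x hx => ?_)
        refine Subalgebra.mul_mem _ ?_ (htT x hx)
        exact ih (n - dg x) (by have := (hdg x hx).1; have := hdgle x hx; omega) _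
          (decompose 𝒜 (f x) _).2
  have heq : Algebra.adjoin (𝒜 0) {a : A | ∃ n : ℕ, a ∈ 𝒜 (ε * n)} =
      Algebra.adjoin (𝒜 0) (T : Set A) := by
    apply le_antisymm
    · apply Algebra.adjoin_le
      rintro a ⟨n, hn⟩
      exact key n a hn
    · apply Algebra.adjoin_mono
      intro x hx
      rw [Finset.mem_coe, hT, Finset.mem_union, Finset.mem_biUnion] at hx
      rcases hx with hx | ⟨n, -, hx⟩
      · exact ⟨dg x, (hdg x hx).2⟩
      · exact ⟨n, hu1 n (Finset.mem_coe.2 hx)⟩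
  rw [heq]
  exact Subalgebra.fg_adjoin_finset T

end

end Groth.Agent.H27.GrNoeth
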