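import Groth.Agent.H27.HopfInt

/-!
# Total integral ⇒ comodule retraction of the coaction (helper27 library)
-/

set_option autoImplicit false
universe u v w
open TensorProduct

namespace Groth.Agent.H27.HopfInd

open Groth.Agent.H27.HopfInt

section

variable {k : Type u} [CommRing k] {A : Type v} [CommRing A] [HopfAlgebra k A]

theorem regIsCoactAlg : GLin.IsCoactAlg k A A :=
  ⟨Bialgebra.comul_one, Bialgebra.comul_mul⟩

/-- `Σ (1 ⊗ c₁) * Δ(S c₂) = S c ⊗ 1`. -/
theorem Gamma_comul (c : A) :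
    haveI := regIsCoactAlg (k := k) (A := A)
    Pmap (k := k) (A := A) (B := A) LinearMap.id (Coalgebra.comul (R := k) c) =
      HopfAlgebra.antipode k c ⊗ₜ[k] (1 : A) := by
  haveI := regIsCoactAlg (k := k) (A := A)
  have hid : Hoch.IsComodHom A (LinearMap.id : A →ₗ[k] A) := by
    unfold Hoch.IsComodHom
    rw [LinearMap.rTensor_id, LinearMap.comp_id, LinearMap.id_comp]
  exact Pmap_comul (k := k) (A := A) (B := A) LinearMap.id hid c

theorem Gamma_tmul (x y : A) :
    haveI := regIsCoactAlg (k := k) (A := A)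
    Pmap (k := k) (A := A) (B := A) LinearMap.id (x ⊗ₜ[k] y) =
      Coalgebra.comul (R := k) (HopfAlgebra.antipode k y) * ((1 : A) ⊗ₜ[k] x) := by
  haveI := regIsCoactAlg (k := k) (A := A)
  exact Pmap_tmul (k := k) (A := A) (B := A) LinearMap.id x y

variable {B : Type w} [CommRing B] [Algebra k B] [HopfRep.Comod k A B] [GLin.IsCoactAlg k A B]

/-- `(b' ⊗ c) ⊗ a ↦ b' * α(S c * a)` -/
noncomputable def Lw (α : A →ₗ[k] B) : (B ⊗[k] A) ⊗[k] A →ₗ[k] B :=
  LinearMap.mul' k B ∘ₗ
    (α ∘ₗ LinearMap.mul' k A ∘ₗ (HopfAlgebra.antipode k).rTensor A).lTensor B ∘ₗ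
    (TensorProduct.assoc k B A A).toLinearMap

theorem Lw_tmul (α : A →ₗ[k] B) (b' : B) (c a : A) :
    Lw α ((b' ⊗ₜ[k] c) ⊗ₜ[k] a) = b' * α (HopfAlgebra.antipode k c * a) := by
  simp [Lw]

/-- `b ⊗ a ↦ Σ b₀ α(S(b₁) a)` -/
noncomputable def lam0 (α : A →ₗ[k] B) : B ⊗[k] A →ₗ[k] B :=
  Lw α ∘ₗ (HopfRep.Comod.coact (k := k) (A := A) (V := B)).rTensor A

theorem lam0_tmul (α : A →ₗ[k] B) (b : B) (a : A) :
    lam0 α (b ⊗ₜ[k] a) = Lw α (HopfRep.Comod.coact (k := k) (A := A) b ⊗ₜ[k] a) := by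
  simp [lam0]

/-- `w' ⊗ c ↦ w' * (α ⊗ id)(Δ(S c) * t)` -/
noncomputable def F1 (α : A →ₗ[k] B) (t : A ⊗[k] A) : (B ⊗[k] A) ⊗[k] A →ₗ[k] B ⊗[k] A :=
  LinearMap.mul' k (B ⊗[k] A) ∘ₗ
    (α.rTensor A ∘ₗ LinearMap.mulRight k t ∘ₗ Coalgebra.comul (R := k) ∘ₗ
      HopfAlgebra.antipode k).lTensor (B ⊗[k] A)

theorem F1_tmul (α : A →ₗ[k] B) (t : A ⊗[k] A) (w' : B ⊗[k] A) (c : A) :
    F1 α t (w' ⊗ₜ[k] c) =
      w' * α.rTensor A (Coalgebra.comul (R := k) (HopfAlgebra.antipode k c) * t) := by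
  simp [F1]

/-- `b' ⊗ c ↦ (b' ⊗ 1) * (α ⊗ id)((S c ⊗ 1) * t)` -/
noncomputable def F2 (α : A →ₗ[k] B) (t : A ⊗[k] A) : B ⊗[k] A →ₗ[k] B ⊗[k] A :=
  LinearMap.mul' k (B ⊗[k] A) ∘ₗ
    TensorProduct.map (Algebra.TensorProduct.includeLeft : B →ₐ[k] B ⊗[k] A).toLinearMap
      (α.rTensor A ∘ₗ LinearMap.mulRight k t ∘ₗ
        (Algebra.TensorProduct.includeLeft : A →ₐ[k] A ⊗[k] A).toLinearMap ∘ₗ
        HopfAlgebra.antipode k)

theorem F2_tmul (α : A →ₗ[k] B) (t : A ⊗[k] A) (b' : B) (c : A) :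
    F2 α t (b' ⊗ₜ[k] c) =
      (b' ⊗ₜ[k] (1 : A)) * α.rTensor A ((HopfAlgebra.antipode k c ⊗ₜ[k] (1 : A)) * t) := by
  simp [F2]

theorem rTensor_mul_right (α : A →ₗ[k] B) (x : A) (u : A ⊗[k] A) :
    α.rTensor A (u * ((1 : A) ⊗ₜ[k] x)) = α.rTensor A u * ((1 : B) ⊗ₜ[k] x) := by
  induction u using TensorProduct.induction_on with
  | zero => simp
  | tmul p q => simp [Algebra.TensorProduct.tmul_mul_tmul]
  | add u u' hu hu' => rw [add_mul, map_add, hu, hu', map_add, add_mul]

theorem coassoc_B (b : B) :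
    (HopfRep.Comod.coact (k := k) (A := A) (V := B)).rTensor A
      (HopfRep.Comod.coact (k := k) (A := A) b) =
      (TensorProduct.assoc k B A A).symm ((Coalgebra.comul (R := k)).lTensor B
        (HopfRep.Comod.coact (k := k) (A := A) b)) := by
  rw [LinearEquiv.eq_symm_apply]
  exact LinearMap.congr_fun (HopfRep.Comod.coassoc (k := k) (A := A) (V := B)) b

theorem lam0_comod (α : A →ₗ[k] B) (hα : Hoch.IsComodHom A α) (b : B) (a : A) :
    HopfRep.Comod.coact (k := k) (A := A) (lam0 α (b ⊗ₜ[k] a)) =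
      (lam0 α).rTensor A ((TensorProduct.assoc k B A A).symm
        (b ⊗ₜ[k] Coalgebra.comul (R := k) a)) := by
  haveI := regIsCoactAlg (k := k) (A := A)
  have hcomod : ∀ x : A, HopfRep.Comod.coact (k := k) (A := A) (α x) =
      α.rTensor A (Coalgebra.comul (R := k) x) := fun x => LinearMap.congr_fun hα x
  have step1 : ∀ w : B ⊗[k] A, HopfRep.Comod.coact (k := k) (A := A) (Lw α (w ⊗ₜ[k] a)) =
      F1 α (Coalgebra.comul (R := k) a)
        ((HopfRep.Comod.coact (k := k) (A := A) (V := B)).rTensor A w) := by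
    intro w
    induction w using TensorProduct.induction_on with
    | zero => simp
    | tmul b' c =>
      rw [Lw_tmul, GLin.IsCoactAlg.coact_mul, hcomod, Bialgebra.comul_mul, LinearMap.rTensor_tmul,
        F1_tmul]
    | add w w' hw hw' => simp only [TensorProduct.add_tmul, map_add, hw, hw']
  have step3a : ∀ (b' : B) (t s : A ⊗[k] A),
      F1 α t ((TensorProduct.assoc k B A A).symm (b' ⊗ₜ[k] s)) =
        (b' ⊗ₜ[k] (1 : A)) * α.rTensor A
          (Pmap (k := k) (A := A) (B := A) LinearMap.id s * t) := by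
    intro b' t s
    induction s using TensorProduct.induction_on with
    | zero => simp
    | tmul c₁ c₂ =>
      rw [TensorProduct.assoc_symm_tmul, F1_tmul, Gamma_tmul]
      have h1 : Coalgebra.comul (R := k) (HopfAlgebra.antipode k c₂) * ((1 : A) ⊗ₜ[k] c₁) * t =
          Coalgebra.comul (R := k) (HopfAlgebra.antipode k c₂) * t * ((1 : A) ⊗ₜ[k] c₁) := by
        ring
      rw [h1, rTensor_mul_right, mul_comm (α.rTensor A _) _, ← mul_assoc,
        Algebra.TensorProduct.tmul_mul_tmul, mul_one, one_mul]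
    | add s s' hs hs' =>
      rw [TensorProduct.tmul_add, map_add, map_add, hs, hs', map_add, add_mul, map_add, mul_add]
  have step3 : ∀ (w : B ⊗[k] A) (t : A ⊗[k] A),
      F1 α t ((TensorProduct.assoc k B A A).symm ((Coalgebra.comul (R := k)).lTensor B w)) =
        F2 α t w := by
    intro w t
    induction w using TensorProduct.induction_on with
    | zero => simp
    | tmul b' c => rw [LinearMap.lTensor_tmul, step3a, Gamma_comul, F2_tmul]
    | add w w' hw hw' => simp only [map_add, hw, hw']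
  have step4a : ∀ t : A ⊗[k] A,
      (lam0 α).rTensor A ((TensorProduct.assoc k B A A).symm (b ⊗ₜ[k] t)) =
        (Lw α).rTensor A ((TensorProduct.assoc k (B ⊗[k] A) A A).symm
          (HopfRep.Comod.coact (k := k) (A := A) b ⊗ₜ[k] t)) := by
    intro t
    induction t using TensorProduct.induction_on with
    | zero => simp
    | tmul t₁ t₂ =>
      rw [TensorProduct.assoc_symm_tmul, TensorProduct.assoc_symm_tmul, LinearMap.rTensor_tmul,
        LinearMap.rTensor_tmul, lam0_tmul]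
    | add t t' ht ht' => simp only [TensorProduct.tmul_add, map_add, ht, ht']
  have step4b : ∀ (w : B ⊗[k] A) (t : A ⊗[k] A),
      (Lw α).rTensor A ((TensorProduct.assoc k (B ⊗[k] A) A A).symm (w ⊗ₜ[k] t)) =
        F2 α t w := by
    intro w t
    induction w using TensorProduct.induction_on with
    | zero => simp
    | tmul b' c =>
      rw [F2_tmul]
      induction t using TensorProduct.induction_on with
      | zero => simp
      | tmul t₁ t₂ =>
        rw [TensorProduct.assoc_symm_tmul, LinearMap.rTensor_tmul, Lw_tmul]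
        simp [Algebra.TensorProduct.tmul_mul_tmul]
      | add t t' ht ht' =>
        rw [TensorProduct.tmul_add, map_add, map_add, ht, ht', mul_add, map_add, mul_add]
    | add w w' hw hw' => simp only [TensorProduct.add_tmul, map_add, hw, hw']
  rw [lam0_tmul, step1, coassoc_B, step3, ← step4b, ← step4a]

theorem lam0_coact (α : A →ₗ[k] B) (hα1 : α 1 = 1) (b : B) :
    lam0 α (HopfRep.Comod.coact (k := k) (A := A) b) = b := by
  have h1 : ∀ (b' : B) (s : A ⊗[k] A), Lw α ((TensorProduct.assoc k B A A).symm (b' ⊗ₜ[k] s)) =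
      b' * α (LinearMap.mul' k A ((HopfAlgebra.antipode k).rTensor A s)) := by
    intro b' s
    induction s using TensorProduct.induction_on with
    | zero => simp
    | tmul c₁ c₂ => rw [TensorProduct.assoc_symm_tmul, Lw_tmul]; simp
    | add s s' hs hs' => rw [TensorProduct.tmul_add, map_add, map_add, hs, hs']; simp [mul_add]
  have h2 : ∀ w : B ⊗[k] A,
      Lw α ((TensorProduct.assoc k B A A).symm ((Coalgebra.comul (R := k)).lTensor B w)) =
        TensorProduct.rid k B ((Coalgebra.counit (R := k)).lTensor B w) := by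
    intro w
    induction w using TensorProduct.induction_on with
    | zero => simp
    | tmul b' c =>
      rw [LinearMap.lTensor_tmul, h1, HopfAlgebra.mul_antipode_rTensor_comul_apply,
        LinearMap.lTensor_tmul, TensorProduct.rid_tmul, Algebra.algebraMap_eq_smul_one, map_smul,
        hα1, mul_smul_comm, mul_one]
    | add w w' hw hw' => simp only [map_add, hw, hw']
  have h3 : (Coalgebra.counit (R := k)).lTensor B (HopfRep.Comod.coact (k := k) (A := A) b) =
      b ⊗ₜ[k] (1 : k) :=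
    LinearMap.congr_fun (HopfRep.Comod.counit_comp (k := k) (A := A) (V := B)) b
  show Lw α ((HopfRep.Comod.coact (k := k) (A := A) (V := B)).rTensor A
    (HopfRep.Comod.coact (k := k) (A := A) b)) = b
  rw [coassoc_B, h2, h3, TensorProduct.rid_tmul, one_smul]

theorem exists_lam (α : A →ₗ[k] B) (hα : Hoch.IsComodHom A α) (hα1 : α 1 = 1) :
    ∃ lam : Hoch.Ind k A B →ₗ[k] B, Hoch.IsComodHom A lam ∧
      lam ∘ₗ Hoch.toInd k A B = LinearMap.id := by
  refine ⟨(lam0 α : B ⊗[k] A →ₗ[k] B), ?_, ?_⟩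
  · show HopfRep.Comod.coact (k := k) (A := A) ∘ₗ (lam0 α) =
      (lam0 α).rTensor A ∘ₗ Hoch.Ind.coactAux k A B
    refine TensorProduct.ext' fun b a => ?_
    rw [LinearMap.comp_apply, LinearMap.comp_apply, Hoch.Ind.coactAux_tmul]
    exact lam0_comod α hα b a
  · refine LinearMap.ext fun b => ?_
    show lam0 α (HopfRep.Comod.coact (k := k) (A := A) b) = b
    exact lam0_coact α hα1 b

theorem exists_alpha (lam : Hoch.Ind k A B →ₗ[k] B) (hlam : Hoch.IsComodHom A lam)
    (hsec : lam ∘ₗ Hoch.toInd k A B = LinearMap.id) :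
    ∃ α : A →ₗ[k] B, Hoch.IsComodHom A α ∧ α 1 = 1 := by
  let lam' : B ⊗[k] A →ₗ[k] B := lam
  have hlam' : ∀ x : B ⊗[k] A, HopfRep.Comod.coact (k := k) (A := A) (lam' x) =
      lam'.rTensor A (Hoch.Ind.coactAux k A B x) := fun x => LinearMap.congr_fun hlam x
  have hsec' : ∀ b : B, lam' (HopfRep.Comod.coact (k := k) (A := A) b) = b :=
    fun b => LinearMap.congr_fun hsec b
  refine ⟨lam' ∘ₗ TensorProduct.mk k B A 1, ?_, ?_⟩
  · refine LinearMap.ext fun a => ?_
    show HopfRep.Comod.coact (k := k) (A := A) (lam' ((1 : B) ⊗ₜ[k] a)) =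
      (lam' ∘ₗ TensorProduct.mk k B A 1).rTensor A (Coalgebra.comul (R := k) a)
    rw [hlam', Hoch.Ind.coactAux_tmul]
    generalize Coalgebra.comul (R := k) a = t
    induction t using TensorProduct.induction_on with
    | zero => simp
    | tmul x y =>
      rw [TensorProduct.assoc_symm_tmul, LinearMap.rTensor_tmul, LinearMap.rTensor_tmul]
      rfl
    | add t t' ht ht' => rw [TensorProduct.tmul_add, map_add, map_add, ht, ht', map_add]
  · show lam' ((1 : B) ⊗ₜ[k] (1 : A)) = 1
    rw [← Algebra.TensorProduct.one_def, ← GLin.IsCoactAlg.coact_one (k := k) (A := A) (R := B)]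
    exact hsec' 1

end

end Groth.Agent.H27.HopfInd
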