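import Mathlib

/-!
Helper lemmas on finite group actions on rings: decomposition / inertia (helper27).
-/

set_option autoImplicit false
universe u v

namespace Groth.Agent.H27

variable {B : Type u} [CommRing B] {Γ : Type v} [Group Γ] [Fintype Γ] [MulSemiringAction Γ B]

/-- CRT element: `q ≡ 1 mod P` and `γ • q ∈ P` whenever `γ` does not stabilise `P`. -/
theorem exists_crt_elem (P : Ideal B) [P.IsMaximal] :
    ∃ q : B, q - 1 ∈ P ∧ ∀ γ : Γ, ¬ (∀ y : B, y ∈ P ↔ γ • y ∈ P) → γ • q ∈ P := by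
  classical
  let Q : Γ → Ideal B := fun γ => P.comap (MulSemiringAction.toRingHom Γ B γ)
  have hQmem : ∀ γ y, y ∈ Q γ ↔ γ • y ∈ P := fun γ y => Iff.rfl
  have hQmax : ∀ γ, (Q γ).IsMaximal := by
    intro γ
    exact Ideal.comap_isMaximal_of_surjective _ (MulSemiringAction.toRingEquiv Γ B γ).surjective
  let Dp : Γ → Prop := fun γ => ∀ y : B, y ∈ P ↔ γ • y ∈ P
  have hDQ : ∀ γ, Dp γ ↔ Q γ = P := by
    intro γ
    constructor
    · intro h
      ext y
      rw [hQmem]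
      exact (h y).symm
    · intro h y
      rw [← hQmem, h]
  let s : Finset Γ := Finset.univ.filter (fun γ => ¬ Dp γ)
  have hsup : P ⊔ ⨅ γ ∈ s, Q γ = ⊤ := by
    apply Ideal.sup_iInf_eq_top
    intro γ hγ
    have hγ' : ¬ Dp γ := (Finset.mem_filter.mp hγ).2
    apply Ideal.IsMaximal.coprime_of_ne ‹_› (hQmax γ)
    intro h
    exact hγ' ((hDQ γ).mpr h.symm)
  obtain ⟨p, hp, q, hq, hpq⟩ := Submodule.mem_sup.mp
    (hsup ▸ Submodule.mem_top : (1 : B) ∈ P ⊔ ⨅ γ ∈ s, Q γ)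
  refine ⟨q, ?_, ?_⟩
  · have : q - 1 = -p := by rw [← hpq]; ring
    rw [this]; exact P.neg_mem hp
  · intro γ hγ
    have h1 := (Ideal.mem_iInf.mp hq) γ
    exact (Ideal.mem_iInf.mp h1) (Finset.mem_filter.mpr ⟨Finset.mem_univ _, hγ⟩)

/-- The ring hom `x ↦ (γ • x mod P)`. -/
def rho (P : Ideal B) (γ : Γ) : B →+* B ⧸ P :=
  (Ideal.Quotient.mk P).comp (MulSemiringAction.toRingHom Γ B γ)

omit [Fintype Γ] in
@[simp] lemma rho_apply (P : Ideal B) (γ : Γ) (x : B) :
    rho P γ x = Ideal.Quotient.mk P (γ • x) := rfl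

omit [Fintype Γ] in
lemma rho_eq_iff (P : Ideal B) (γ γ0 : Γ) :
    rho P γ = rho P γ0 ↔ γ * γ0⁻¹ ∈ P.inertia Γ := by
  constructor
  · intro h y
    have := RingHom.congr_fun h (γ0⁻¹ • y)
    simp only [rho_apply, smul_inv_smul, Ideal.Quotient.eq] at this
    rwa [mul_smul]
  · intro h
    ext x
    have := h (γ0 • x)
    simp only [rho_apply, Ideal.Quotient.eq]
    rwa [mul_smul, inv_smul_smul] at this

open Classical in
/-- Sums of `γ • x mod P` over a subset stable under left multiplication by inertia. -/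
theorem sum_rho (P : Ideal B) (s : Finset Γ)
    (hs : ∀ i ∈ P.inertia Γ, ∀ γ ∈ s, i * γ ∈ s) (x : B) :
    ∑ γ ∈ s, Ideal.Quotient.mk P (γ • x) =
      ((Nat.card (P.inertia Γ) : ℕ) : B ⧸ P) * ∑ r ∈ s.image (rho P), r x := by
  have h1 : ∑ γ ∈ s, Ideal.Quotient.mk P (γ • x) =
      ∑ r ∈ s.image (rho P), (Finset.filter (fun a => rho P a = r) s).card • r x :=
    Finset.sum_comp (s := s) (fun r : B →+* B ⧸ P => r x) (rho P)
  rw [h1, Finset.mul_sum]
  refine Finset.sum_congr rfl fun r hr => ?_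
  obtain ⟨γ0, hγ0, rfl⟩ := Finset.mem_image.mp hr
  have hcard : (Finset.filter (fun a => rho P a = rho P γ0) s).card = Nat.card (P.inertia Γ) := by
    rw [Nat.card_eq_fintype_card, Fintype.card_subtype]
    symm
    apply Finset.card_bij (fun i _ => i * γ0)
    · intro i hi
      have hi' : i ∈ P.inertia Γ := (Finset.mem_filter.mp hi).2
      refine Finset.mem_filter.mpr ⟨hs i hi' γ0 hγ0, ?_⟩
      rw [rho_eq_iff, mul_inv_cancel_right]
      exact hi'
    · intro a _ b _ h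
      exact mul_right_cancel h
    · intro γ hγ
      obtain ⟨_, hγ2⟩ := Finset.mem_filter.mp hγ
      refine ⟨γ * γ0⁻¹, Finset.mem_filter.mpr ⟨Finset.mem_univ _, (rho_eq_iff P γ γ0).mp hγ2⟩, ?_⟩
      simp
  rw [hcard, nsmul_eq_mul]

end Groth.Agent.H27
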