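import Mathlib
import Groth.Agent.H27.Inertia

/-!
# The residue field of the inertia ring is the separable closure (helper27)
-/

set_option autoImplicit false
universe u v
open Polynomial

namespace Groth.Agent.H27.InertiaSep

theorem mem_range_of_pow_of_separable {F k : Type*} [Field F] [Field k] [Algebra F k] (x : k)
    (n : ℕ) (hn : n ≠ 0) (h : F[X]) (hh : h.map (algebraMap F k) = (X - C x) ^ n)
    (g : F[X]) (hg : g.Separable) (hgx : aeval x g = 0) : x ∈ (algebraMap F k).range := by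
  have hhx : aeval x h = 0 := by
    rw [aeval_def, ← eval_map, hh, eval_pow, eval_sub, eval_X, eval_C, sub_self, zero_pow hn]
  have hh0 : h ≠ 0 := by
    intro h0
    rw [h0, Polynomial.map_zero] at hh
    exact pow_ne_zero n (X_sub_C_ne_zero x) hh.symm
  have hint : IsIntegral F x := IsAlgebraic.isIntegral ⟨h, hh0, hhx⟩
  have hμg : minpoly F x ∣ g := minpoly.dvd F x hgx
  have hμh : minpoly F x ∣ h := minpoly.dvd F x hhx
  have hμsep : (minpoly F x).Separable := hg.of_dvd hμg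
  have hμmap : (minpoly F x).map (algebraMap F k) ∣ (X - C x) ^ n := by
    rw [← hh]; exact Polynomial.map_dvd _ hμh
  obtain ⟨j, hj, hassoc⟩ := (dvd_prime_pow (prime_X_sub_C x) n).1 hμmap
  have hmonic : ((minpoly F x).map (algebraMap F k)).Monic := (minpoly.monic hint).map _
  have heq : (minpoly F x).map (algebraMap F k) = (X - C x) ^ j :=
    eq_of_monic_of_associated hmonic ((monic_X_sub_C x).pow j) hassoc
  have hsep' : ((X - C x : k[X]) ^ j).Separable := by rw [← heq]; exact hμsep.map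
  have hj0 : j ≠ 0 := by
    rintro rfl
    rw [pow_zero] at heq
    have h1 : ((minpoly F x).map (algebraMap F k)).natDegree = 0 := by
      rw [heq]; exact natDegree_one
    rw [natDegree_map] at h1
    exact (minpoly.natDegree_pos hint).ne' h1
  have hj1 : j = 1 := (Polynomial.Separable.of_pow (not_isUnit_X_sub_C x) hj0 hsep').2
  have hdeg : (minpoly F x).natDegree = 1 := by
    rw [← natDegree_map (algebraMap F k), heq, hj1, pow_one, natDegree_X_sub_C]
  exact minpoly.natDegree_eq_one_iff.1 hdeg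

section

variable (B : Type u) [CommRing B] (Γ : Type v) [Group Γ] [Finite Γ] [MulSemiringAction Γ B]
  (P : Ideal B) [P.IsMaximal]

theorem exists_inv_of_sep (x : B) (g : B[X])
    (hginv : ∀ (i : ℕ) (γ : Γ), γ • g.coeff i = g.coeff i)
    (hsep : (g.map (Ideal.Quotient.mk P)).Separable) (hroot : Polynomial.aeval x g ∈ P) :
    ∃ y : B, (∀ γ : Γ, γ ∈ P.inertia Γ → γ • y = y) ∧ x - y ∈ P := by
  classical
  let T : Subgroup Γ := P.inertia Γ
  haveI : Fintype T := Fintype.ofFinite T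
  let AT : Subring B := FixedPoints.subring B T
  haveI : Algebra.IsInvariant AT B T := ⟨fun b hb => ⟨⟨b, hb⟩, rfl⟩⟩
  haveI : Algebra.IsIntegral AT B := Algebra.IsInvariant.isIntegral AT B T
  let Q : Ideal AT := P.under AT
  haveI : Q.IsMaximal := Ideal.isMaximal_comap_of_isIntegral_of_isMaximal P
  haveI : P.LiesOver Q := ⟨rfl⟩
  letI : Field (AT ⧸ Q) := Ideal.Quotient.field Q
  letI : Field (B ⧸ P) := Ideal.Quotient.field P
  have hcomp : (algebraMap (AT ⧸ Q) (B ⧸ P)).comp (Ideal.Quotient.mk Q) =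
      (Ideal.Quotient.mk P).comp (algebraMap AT B) := by
    ext a; rfl
  -- the characteristic polynomial of `x` for the inertia group
  obtain ⟨hA, hhA⟩ := (Polynomial.mem_lifts _).1
    (Algebra.IsInvariant.charpoly_mem_lifts AT B T x)
  have hh : (hA.map (Ideal.Quotient.mk Q)).map (algebraMap (AT ⧸ Q) (B ⧸ P)) =
      (X - C (Ideal.Quotient.mk P x)) ^ (Fintype.card T) := by
    rw [Polynomial.map_map, hcomp, ← Polynomial.map_map, hhA, MulSemiringAction.charpoly_eq,
      Polynomial.map_prod]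
    rw [← Finset.card_univ, ← Finset.prod_const]
    refine Finset.prod_congr rfl fun t _ => ?_
    rw [Polynomial.map_sub, Polynomial.map_X, Polynomial.map_C]
    congr 2
    exact Ideal.Quotient.eq.2 (t.2 x)
  -- the polynomial `g` over the inertia ring
  have hgl : g ∈ Polynomial.lifts (algebraMap AT B) := by
    rw [Polynomial.lifts_iff_coeff_lifts]
    intro i
    exact ⟨⟨g.coeff i, fun t => hginv i t⟩, rfl⟩
  obtain ⟨gA, hgA⟩ := (Polynomial.mem_lifts _).1 hgl
  have hgF : (gA.map (Ideal.Quotient.mk Q)).map (algebraMap (AT ⧸ Q) (B ⧸ P)) =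
      g.map (Ideal.Quotient.mk P) := by
    rw [Polynomial.map_map, hcomp, ← Polynomial.map_map, hgA]
  have hgsep : (gA.map (Ideal.Quotient.mk Q)).Separable := by
    rw [← Polynomial.separable_map (algebraMap (AT ⧸ Q) (B ⧸ P)), hgF]
    exact hsep
  have hgroot : aeval (Ideal.Quotient.mk P x) (gA.map (Ideal.Quotient.mk Q)) = 0 := by
    rw [aeval_def, ← eval_map, hgF, eval_map_apply]
    rw [Polynomial.coe_aeval_eq_eval] at hroot
    exact Ideal.Quotient.eq_zero_iff_mem.2 hroot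
  obtain ⟨a, ha⟩ := mem_range_of_pow_of_separable (Ideal.Quotient.mk P x) (Fintype.card T)
    Fintype.card_ne_zero _ hh _ hgsep hgroot
  obtain ⟨a', rfl⟩ := Ideal.Quotient.mk_surjective a
  refine ⟨a'.1, fun γ hγ => a'.2 ⟨γ, hγ⟩, ?_⟩
  have h1 : Ideal.Quotient.mk P (a' : B) = Ideal.Quotient.mk P x := ha
  exact Ideal.Quotient.eq.1 h1.symm

end


section part2

open Groth.Agent.H27

variable {B : Type u} [CommRing B] {Γ : Type v} [Group Γ] [MulSemiringAction Γ B]
  (P : Ideal B)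

/-- `γ` stabilises `P`. -/
def Dp (γ : Γ) : Prop := ∀ b : B, b ∈ P ↔ γ • b ∈ P

lemma Dp_one : Dp P (1 : Γ) := fun b => by rw [one_smul]

lemma Dp_mul {γ δ : Γ} (h1 : Dp P γ) (h2 : Dp P δ) : Dp P (γ * δ) := fun b => by
  rw [mul_smul]; exact (h2 b).trans (h1 _)

lemma Dp_inv {γ : Γ} (h : Dp P γ) : Dp P γ⁻¹ := fun b => by
  have := h (γ⁻¹ • b)
  rw [smul_inv_smul] at this
  exact this.symm

lemma Dp_of_inertia {t : Γ} (ht : t ∈ P.inertia Γ) : Dp P t := fun b => by
  have h1 : t • b - b ∈ P := ht b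
  constructor
  · intro hb
    have := P.add_mem h1 hb
    simpa using this
  · intro hb
    have := P.sub_mem hb h1
    simpa using this

lemma conj_mem_inertia {σ t : Γ} (hσ : Dp P σ) (ht : t ∈ P.inertia Γ) :
    σ⁻¹ * t * σ ∈ P.inertia Γ := by
  intro b
  have h1 : t • (σ • b) - σ • b ∈ P := ht (σ • b)
  have h2 := (Dp_inv P hσ _).1 h1
  rw [smul_sub, inv_smul_smul] at h2
  rwa [mul_smul, mul_smul]

lemma smul_mem_AT {σ : Γ} (hσ : Dp P σ) {v : B}
    (hv : v ∈ FixedPoints.subring B (P.inertia Γ)) :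
    σ • v ∈ FixedPoints.subring B (P.inertia Γ) := by
  intro t
  show (t : Γ) • σ • v = σ • v
  have h1 := conj_mem_inertia P hσ t.2
  have h2 : (σ⁻¹ * ↑t * σ) • v = v := hv ⟨_, h1⟩
  calc (t : Γ) • σ • v = σ • (σ⁻¹ * ↑t * σ) • v := by
        rw [← mul_smul, ← mul_smul]; congr 1; group
    _ = σ • v := by rw [h2]

lemma smul_eq_of_mem {v : B} (hv : v ∈ FixedPoints.subring B (P.inertia Γ)) {γ γ' : Γ}
    (h : γ⁻¹ * γ' ∈ P.inertia Γ) : γ' • v = γ • v := by
  have h2 : (γ⁻¹ * γ') • v = v := hv ⟨_, h⟩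
  calc γ' • v = γ • (γ⁻¹ * γ') • v := by rw [← mul_smul, mul_inv_cancel_left]
    _ = γ • v := by rw [h2]

/-- The automorphism of `B ⧸ P` induced by an element of the decomposition group. -/
def sbar (σ : Γ) (hσ : Dp P σ) : B ⧸ P →+* B ⧸ P :=
  Ideal.Quotient.lift P (rho P σ)
    (fun b hb => Ideal.Quotient.eq_zero_iff_mem.2 ((hσ b).1 hb))

lemma sbar_mk (σ : Γ) (hσ : Dp P σ) (b : B) :
    sbar P σ hσ (Ideal.Quotient.mk P b) = Ideal.Quotient.mk P (σ • b) := rfl

lemma charpoly_map_mk [Fintype (P.inertia Γ)] (b : B) :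
    (MulSemiringAction.charpoly (P.inertia Γ) b).map (Ideal.Quotient.mk P) =
      (X - C (Ideal.Quotient.mk P b)) ^ (Fintype.card (P.inertia Γ)) := by
  rw [MulSemiringAction.charpoly_eq, Polynomial.map_prod]
  rw [← Finset.card_univ, ← Finset.prod_const]
  refine Finset.prod_congr rfl fun t _ => ?_
  rw [Polynomial.map_sub, Polynomial.map_X, Polynomial.map_C]
  congr 2
  exact Ideal.Quotient.eq.2 (t.2 b)

variable [P.IsMaximal]

theorem mem_inertia_of_trivial_on_AT [Finite Γ] (σ : Γ)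
    (h : ∀ v ∈ FixedPoints.subring B (P.inertia Γ), σ • v - v ∈ P) : σ ∈ P.inertia Γ := by
  classical
  intro b
  haveI : Fintype (P.inertia Γ) := Fintype.ofFinite _
  let c := MulSemiringAction.charpoly (P.inertia Γ) b
  have hc1 : c.map (rho P σ) = c.map (Ideal.Quotient.mk P) := by
    ext j
    rw [coeff_map, coeff_map]
    show Ideal.Quotient.mk P (σ • c.coeff j) = Ideal.Quotient.mk P (c.coeff j)
    exact Ideal.Quotient.eq.2
      (h _ (fun t => MulSemiringAction.smul_coeff_charpoly b j t))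
  have hc3 : (c.map (rho P σ)).eval (rho P σ b) = 0 := by
    rw [eval_map_apply, MulSemiringAction.eval_charpoly, map_zero]
  rw [hc1, charpoly_map_mk, eval_pow, eval_sub, eval_X, eval_C] at hc3
  have h4 : rho P σ b - Ideal.Quotient.mk P b = 0 := pow_eq_zero_iff (Fintype.card_ne_zero) |>.1 hc3
  exact Ideal.Quotient.eq.1 (sub_eq_zero.1 h4)

theorem exists_crt_inv [Fintype Γ] :
    ∃ e : B, e ∈ FixedPoints.subring B (P.inertia Γ) ∧ e - 1 ∈ P ∧
      ∀ γ : Γ, ¬ Dp P γ → γ • e ∈ P := by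
  classical
  obtain ⟨q, hq1, hq2⟩ := exists_crt_elem (Γ := Γ) P
  haveI : Fintype (P.inertia Γ) := Fintype.ofFinite _
  refine ⟨∏ t : P.inertia Γ, (t : Γ) • q, ?_, ?_, ?_⟩
  · intro s
    show (s : Γ) • ∏ t : P.inertia Γ, (t : Γ) • q = _
    rw [Finset.smul_prod']
    exact Fintype.prod_equiv (Equiv.mulLeft s) _ _ (fun t => by simp [mul_smul])
  · rw [← Ideal.Quotient.eq, map_prod, map_one]
    apply Finset.prod_eq_one
    intro t _
    have h1 : (t : Γ) • q - q ∈ P := t.2 q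
    have h2 : Ideal.Quotient.mk P ((t : Γ) • q) = Ideal.Quotient.mk P q := Ideal.Quotient.eq.2 h1
    rw [h2]
    exact (Ideal.Quotient.eq.2 hq1).trans (map_one _)
  · intro γ hγ
    rw [Finset.smul_prod']
    apply Ideal.prod_mem P (Finset.mem_univ (1 : P.inertia Γ))
    show γ • ((1 : Γ) • q) ∈ P
    rw [one_smul]
    exact hq2 γ hγ

theorem W_props [Fintype (Γ ⧸ P.inertia Γ)] (v : B)
    (hv : v ∈ FixedPoints.subring B (P.inertia Γ)) (δ : Γ) :
    δ • (∑ c : Γ ⧸ P.inertia Γ, (c.out : Γ) • v) = ∑ c : Γ ⧸ P.inertia Γ, (c.out : Γ) • v := by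
  rw [Finset.smul_sum]
  have h1 : ∀ c : Γ ⧸ P.inertia Γ, δ • (c.out : Γ) • v = ((δ • c).out : Γ) • v := by
    intro c
    rw [← mul_smul]
    apply smul_eq_of_mem P hv
    rw [← QuotientGroup.eq, QuotientGroup.out_eq']
    conv_lhs => rw [← QuotientGroup.out_eq' c]
    rfl
  rw [Finset.sum_congr rfl (fun c _ => h1 c)]
  exact Equiv.sum_comp (MulAction.toPerm δ : Equiv.Perm (Γ ⧸ P.inertia Γ))
    (fun c => (c.out : Γ) • v)

open Classical in
theorem mk_W [Fintype (Γ ⧸ P.inertia Γ)] (e : B) (he1 : e - 1 ∈ P)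
    (he2 : ∀ γ : Γ, ¬ Dp P γ → γ • e ∈ P) (v : B) :
    Ideal.Quotient.mk P (∑ c : Γ ⧸ P.inertia Γ, (c.out : Γ) • (e * v)) =
      ∑ c ∈ Finset.univ.filter (fun c : Γ ⧸ P.inertia Γ => Dp P (c.out : Γ)),
        Ideal.Quotient.mk P ((c.out : Γ) • v) := by
  rw [map_sum, Finset.sum_filter]
  refine Finset.sum_congr rfl fun c _ => ?_
  split_ifs with h
  · rw [smul_mul', map_mul]
    have h4 : Ideal.Quotient.mk P ((c.out : Γ) • e) = 1 := by
      have h3 : (c.out : Γ) • (e - 1) ∈ P := (h _).1 he1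
      rw [smul_sub, smul_one] at h3
      exact (Ideal.Quotient.eq.2 h3).trans (map_one _)
    rw [h4, one_mul]
  · rw [Ideal.Quotient.eq_zero_iff_mem, smul_mul']
    exact P.mul_mem_right _ (he2 _ h)

end part2


section part3

open Groth.Agent.H27

variable {B : Type u} [CommRing B] {Γ : Type v} [Group Γ] [Finite Γ] [MulSemiringAction Γ B]
  (P : Ideal B) [P.IsMaximal]

theorem exists_sep_of_inv (x y : B) (hy : ∀ γ : Γ, γ ∈ P.inertia Γ → γ • y = y)
    (hxy : x - y ∈ P) :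
    ∃ g : B[X], (∀ (i : ℕ) (γ : Γ), γ • g.coeff i = g.coeff i) ∧
      (g.map (Ideal.Quotient.mk P)).Separable ∧ Polynomial.aeval x g ∈ P := by
  classical
  haveI : Fintype Γ := Fintype.ofFinite Γ
  haveI : Fintype (P.inertia Γ) := Fintype.ofFinite _
  haveI : Fintype (Γ ⧸ P.inertia Γ) := Fintype.ofFinite _
  let AT : Subring B := FixedPoints.subring B (P.inertia Γ)
  have hyAT : y ∈ AT := fun t => hy t t.2
  letI : Field (B ⧸ P) := Ideal.Quotient.field P
  -- the invariant ring and its residue field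
  let A0 : Subring B := FixedPoints.subring B Γ
  haveI : Algebra.IsInvariant A0 B Γ := ⟨fun b hb => ⟨⟨b, hb⟩, rfl⟩⟩
  haveI : Algebra.IsIntegral A0 B := Algebra.IsInvariant.isIntegral A0 B Γ
  let p0 : Ideal A0 := P.under A0
  haveI : p0.IsMaximal := Ideal.isMaximal_comap_of_isIntegral_of_isMaximal P
  haveI : P.LiesOver p0 := ⟨rfl⟩
  letI : Field (A0 ⧸ p0) := Ideal.Quotient.field p0
  let ι : (A0 ⧸ p0) →+* (B ⧸ P) := algebraMap (A0 ⧸ p0) (B ⧸ P)
  obtain ⟨e, heAT, he1, he2⟩ := exists_crt_inv (Γ := Γ) P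
  let Dq : Finset (Γ ⧸ P.inertia Γ) := Finset.univ.filter (fun c => Dp P (c.out : Γ))
  let W : B → B := fun v => ∑ c : Γ ⧸ P.inertia Γ, (c.out : Γ) • v
  have hWinv : ∀ v ∈ AT, ∀ δ : Γ, δ • W v = W v := fun v hv δ => W_props P v hv δ
  have hWmk : ∀ v : B, Ideal.Quotient.mk P (W (e * v)) =
      ∑ c ∈ Dq, Ideal.Quotient.mk P ((c.out : Γ) • v) := fun v => mk_W P e he1 he2 v
  -- the monoid homs
  let fc : (Γ ⧸ P.inertia Γ) → (AT →* B ⧸ P) :=
    fun c => ((rho P (c.out : Γ)).comp AT.subtype).toMonoidHom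
  have hfc : ∀ c (v : AT), fc c v = Ideal.Quotient.mk P ((c.out : Γ) • (v : B)) :=
    fun c v => rfl
  have hfc_inj : ∀ c ∈ Dq, ∀ c' ∈ Dq, fc c = fc c' → c = c' := by
    intro c hc c' hc' h
    have hD' : Dp P (c'.out : Γ) := (Finset.mem_filter.1 hc').2
    have hmem : (c'.out : Γ)⁻¹ * c.out ∈ P.inertia Γ := by
      apply mem_inertia_of_trivial_on_AT P
      intro v hv
      have h1 : Ideal.Quotient.mk P ((c.out : Γ) • v) = Ideal.Quotient.mk P ((c'.out : Γ) • v) :=
        DFunLike.congr_fun h ⟨v, hv⟩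
      have h2 : (c.out : Γ) • v - (c'.out : Γ) • v ∈ P := Ideal.Quotient.eq.1 h1
      have h3 := (Dp_inv P hD' _).1 h2
      rw [smul_sub, inv_smul_smul, ← mul_smul] at h3
      exact h3
    calc c = QuotientGroup.mk (c.out : Γ) := (QuotientGroup.out_eq' c).symm
      _ = QuotientGroup.mk (c'.out : Γ) := (QuotientGroup.eq.2 hmem).symm
      _ = c' := QuotientGroup.out_eq' c'
  have h1out : ((QuotientGroup.mk (1 : Γ) : Γ ⧸ P.inertia Γ).out : Γ) ∈ P.inertia Γ := by
    have h0 : ((QuotientGroup.mk (1 : Γ) : Γ ⧸ P.inertia Γ).out : Γ)⁻¹ * 1 ∈ P.inertia Γ :=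
      QuotientGroup.eq.1 (QuotientGroup.out_eq' _)
    rw [mul_one] at h0
    exact (Subgroup.inv_mem_iff _).1 h0
  have h1Dq : (QuotientGroup.mk (1 : Γ) : Γ ⧸ P.inertia Γ) ∈ Dq :=
    Finset.mem_filter.2 ⟨Finset.mem_univ _, Dp_of_inertia P h1out⟩
  obtain ⟨u, hu⟩ : ∃ u : AT, ∑ c ∈ Dq, fc c u ≠ 0 := by
    by_contra hcon
    push_neg at hcon
    have hli := linearIndependent_monoidHom AT (B ⧸ P)
    rw [linearIndependent_iff'] at hli
    have hsum : ∑ f ∈ Dq.image fc, (fun _ => (1 : B ⧸ P)) f • (f : AT → B ⧸ P) = 0 := by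
      funext v
      simp only [one_smul, Finset.sum_apply, Pi.zero_apply]
      rw [Finset.sum_image hfc_inj]
      exact hcon v
    have h10 := hli (Dq.image fc) (fun _ => 1) hsum (fc (QuotientGroup.mk (1 : Γ)))
      (Finset.mem_image_of_mem _ h1Dq)
    exact one_ne_zero h10
  have heu : e * (u : B) ∈ AT := AT.mul_mem heAT u.2
  have ht : Ideal.Quotient.mk P (W (e * (u : B))) = ∑ c ∈ Dq, fc c u := hWmk u
  have hinvar : ∀ w ∈ AT, (∀ σ : Γ, Dp P σ → σ • w - w ∈ P) →
      ∃ a, ι a = Ideal.Quotient.mk P w := by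
    intro w hw hwD
    have h1 : Ideal.Quotient.mk P (W (e * ((u : B) * w))) =
        (∑ c ∈ Dq, fc c u) * Ideal.Quotient.mk P w := by
      rw [hWmk, Finset.sum_mul]
      refine Finset.sum_congr rfl fun c hc => ?_
      have hD : Dp P (c.out : Γ) := (Finset.mem_filter.1 hc).2
      rw [smul_mul', map_mul, hfc]
      congr 1
      exact Ideal.Quotient.eq.2 (hwD _ hD)
    have hα : e * ((u : B) * w) ∈ AT := AT.mul_mem heAT (AT.mul_mem u.2 hw)
    let α : A0 := ⟨W (e * ((u : B) * w)), hWinv _ hα⟩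
    let β : A0 := ⟨W (e * (u : B)), hWinv _ heu⟩
    have hβ : ι (Ideal.Quotient.mk p0 β) = ∑ c ∈ Dq, fc c u := ht
    have hα' : ι (Ideal.Quotient.mk p0 α) = (∑ c ∈ Dq, fc c u) * Ideal.Quotient.mk P w := h1
    refine ⟨Ideal.Quotient.mk p0 α / Ideal.Quotient.mk p0 β, ?_⟩
    rw [map_div₀, hα', hβ, mul_div_cancel_left₀ _ hu]
  -- the orbit polynomial
  let O : Finset (B ⧸ P) := Dq.image (fun c => Ideal.Quotient.mk P ((c.out : Γ) • y))
  let m : (B ⧸ P)[X] := ∏ z ∈ O, (X - C z)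
  have hmsep : m.Separable :=
    (Polynomial.separable_prod_X_sub_C_iff' (f := fun z : B ⧸ P => z) (s := O)).2
      (fun a _ b _ h => h)
  have hyO : Ideal.Quotient.mk P y ∈ O := by
    refine Finset.mem_image.2 ⟨QuotientGroup.mk 1, h1Dq, ?_⟩
    rw [hy _ h1out]
  have hmroot : m.eval (Ideal.Quotient.mk P y) = 0 := by
    rw [Polynomial.eval_prod]
    exact Finset.prod_eq_zero hyO (by simp)
  let φ : AT →+* B ⧸ P := (Ideal.Quotient.mk P).comp AT.subtype
  have hmlift : m ∈ Polynomial.lifts φ := by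
    apply Subsemiring.prod_mem
    intro z hz
    obtain ⟨c, hc, rfl⟩ := Finset.mem_image.1 hz
    have hD : Dp P (c.out : Γ) := (Finset.mem_filter.1 hc).2
    have hmemAT : (c.out : Γ) • y ∈ AT := smul_mem_AT P hD hyAT
    have h1 : (X - C (Ideal.Quotient.mk P ((c.out : Γ) • y)) : (B ⧸ P)[X]) =
        X + C (φ ⟨-((c.out : Γ) • y), AT.neg_mem hmemAT⟩) := by
      rw [sub_eq_add_neg, ← C_neg, ← map_neg]
      rfl
    rw [h1]
    exact Subsemiring.add_mem _ (X_mem_lifts φ) (C_mem_lifts φ _)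
  obtain ⟨M, hM⟩ := (Polynomial.mem_lifts _).1 hmlift
  have hmσ : ∀ (σ : Γ) (hσ : Dp P σ), m.map (sbar P σ hσ) = m := by
    intro σ hσ
    have hinjσ : Function.Injective (sbar P σ hσ) := (sbar P σ hσ).injective
    have hO : O.image (sbar P σ hσ) = O := by
      apply Finset.eq_of_subset_of_card_le
      · intro z hz
        obtain ⟨z', hz', rfl⟩ := Finset.mem_image.1 hz
        obtain ⟨c, hc, rfl⟩ := Finset.mem_image.1 hz'
        have hD : Dp P (c.out : Γ) := (Finset.mem_filter.1 hc).2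
        have hm : (σ * (c.out : Γ))⁻¹ * ((σ • c).out : Γ) ∈ P.inertia Γ := by
          rw [← QuotientGroup.eq, QuotientGroup.out_eq']
          conv_rhs => rw [← QuotientGroup.out_eq' c]
          rfl
        refine Finset.mem_image.2 ⟨σ • c, ?_, ?_⟩
        · refine Finset.mem_filter.2 ⟨Finset.mem_univ _, ?_⟩
          have h2 : ((σ • c).out : Γ) =
              (σ * c.out) * ((σ * (c.out : Γ))⁻¹ * ((σ • c).out : Γ)) := by group
          rw [h2]
          exact Dp_mul P (Dp_mul P hσ hD) (Dp_of_inertia P hm)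
        · show Ideal.Quotient.mk P (((σ • c).out : Γ) • y) =
            Ideal.Quotient.mk P (σ • (c.out : Γ) • y)
          congr 1
          rw [← mul_smul]
          exact smul_eq_of_mem P hyAT hm
      · rw [Finset.card_image_of_injective _ hinjσ]
    show (∏ z ∈ O, (X - C z)).map (sbar P σ hσ) = ∏ z ∈ O, (X - C z)
    rw [Polynomial.map_prod]
    conv_rhs => rw [← hO, Finset.prod_image (fun a _ b _ h => hinjσ h)]
    refine Finset.prod_congr rfl fun z _ => ?_
    rw [Polynomial.map_sub, Polynomial.map_X, Polynomial.map_C]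
  have hcoef : ∀ j, m.coeff j ∈ Set.range ι := by
    intro j
    have h1 : m.coeff j = Ideal.Quotient.mk P ((M.coeff j : AT) : B) := by
      rw [← hM, coeff_map]; rfl
    rw [h1]
    apply hinvar _ (M.coeff j).2
    intro σ hσ
    apply Ideal.Quotient.eq.1
    have h2 : Ideal.Quotient.mk P (σ • ((M.coeff j : AT) : B)) = sbar P σ hσ (m.coeff j) := by
      rw [h1]; rfl
    rw [h2, ← coeff_map, hmσ σ hσ, h1]
  have hml : m ∈ Polynomial.lifts ι := (Polynomial.lifts_iff_coeff_lifts m).2 hcoef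
  obtain ⟨m0, hm0⟩ := (Polynomial.mem_lifts _).1 hml
  obtain ⟨G0, hG0⟩ := Polynomial.map_surjective (Ideal.Quotient.mk p0)
    Ideal.Quotient.mk_surjective m0
  have hGm : (G0.map A0.subtype).map (Ideal.Quotient.mk P) = m := by
    rw [Polynomial.map_map]
    have hc : (Ideal.Quotient.mk P).comp A0.subtype = ι.comp (Ideal.Quotient.mk p0) := by
      ext a; rfl
    rw [hc, ← Polynomial.map_map, hG0, hm0]
  refine ⟨G0.map A0.subtype, ?_, ?_, ?_⟩
  · intro i γ
    rw [coeff_map]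
    exact (G0.coeff i).2 γ
  · rw [hGm]; exact hmsep
  · rw [Polynomial.coe_aeval_eq_eval, ← Ideal.Quotient.eq_zero_iff_mem, ← eval_map_apply, hGm,
      (Ideal.Quotient.eq.2 hxy : Ideal.Quotient.mk P x = Ideal.Quotient.mk P y)]
    exact hmroot

end part3

end Groth.Agent.H27.InertiaSep
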