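import Mathlib

/-!
# Adic formal smoothness of power series rings

`adicSmooth_mvPowerSeries`: if `K` is formally smooth over `R` (discrete topologies), then
`K[[x_1, …, x_n]]` is formally smooth over `R` for the adic topology of any ideal `𝔫` containing the
variables (in the lifting form of `CAlgX.IsAdicFormallySmooth`).
-/

set_option autoImplicit false
universe u
open MvPowerSeries

namespace Groth.Agent.H27.PSSmooth

theorem tail_mem {K : Type*} [CommRing K] (n : ℕ) (𝔫 : Ideal (MvPowerSeries (Fin n) K))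
    (h𝔫 : ∀ i, (X i : MvPowerSeries (Fin n) K) ∈ 𝔫) (t : ℕ) (g : MvPowerSeries (Fin n) K)
    (hg : ∀ m : Fin n →₀ ℕ, (∀ i, m i < t) → coeff m g = 0) : g ∈ 𝔫 ^ t := by
  classical
  let gi : Fin n → MvPowerSeries (Fin n) K := fun i m =>
    if (t ≤ m i ∧ ∀ j, j < i → m j < t) then coeff m g else 0
  have hgi : ∀ i m, coeff m (gi i) =
      if (t ≤ m i ∧ ∀ j, j < i → m j < t) then coeff m g else 0 := fun i m => rfl
  have hsum : g = ∑ i, gi i := by
    ext m
    rw [map_sum]
    simp only [hgi]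
    by_cases hc : coeff m g = 0
    · simp [hc]
    · have hex : ∃ i, t ≤ m i := by
        by_contra hcon
        push_neg at hcon
        exact hc (hg m hcon)
      let Sm : Finset (Fin n) := Finset.univ.filter (fun i => t ≤ m i)
      have hSm : Sm.Nonempty := by
        obtain ⟨i, hi⟩ := hex
        exact ⟨i, by simp [Sm, hi]⟩
      have hi₀ : t ≤ m (Sm.min' hSm) := by
        have := Finset.min'_mem Sm hSm
        simpa [Sm] using this
      have hmin : ∀ j, j < Sm.min' hSm → m j < t := by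
        intro j hj
        by_contra hcon
        push_neg at hcon
        have hjm : j ∈ Sm := by simp [Sm, hcon]
        exact absurd (Finset.min'_le Sm j hjm) (not_le.mpr hj)
      rw [Finset.sum_eq_single (Sm.min' hSm)]
      · rw [if_pos ⟨hi₀, hmin⟩]
      · intro i _ hne
        rw [if_neg]
        rintro ⟨h1, h2⟩
        rcases lt_or_gt_of_ne hne with hlt | hgt
        · exact absurd h1 (not_le.mpr (hmin i hlt))
        · exact absurd hi₀ (not_le.mpr (h2 _ hgt))
      · intro h; exact absurd (Finset.mem_univ _) h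
  rw [hsum]
  refine Ideal.sum_mem _ (fun i _ => ?_)
  have hdvd : (X i : MvPowerSeries (Fin n) K) ^ t ∣ gi i := by
    rw [X_pow_dvd_iff]
    intro m hm
    rw [hgi, if_neg]
    rintro ⟨h1, _⟩
    exact absurd h1 (not_le.mpr hm)
  obtain ⟨h, hh⟩ := hdvd
  rw [hh]
  exact Ideal.mul_mem_right _ _ (Ideal.pow_mem_pow (h𝔫 i) t)

theorem adicSmooth_mvPowerSeries {R K : Type u} [CommRing R] [CommRing K] [Algebra R K]
    [Algebra.FormallySmooth R K] (n : ℕ) (𝔫 : Ideal (MvPowerSeries (Fin n) K))
    (h𝔫 : ∀ i, (X i : MvPowerSeries (Fin n) K) ∈ 𝔫)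
    (A : Type u) [CommRing A] [Algebra R A] (J : Ideal A) (hJ : J ^ 2 = ⊥)
    (ψ : MvPowerSeries (Fin n) K →ₐ[R] A ⧸ J) (hψ : ∃ k : ℕ, ∀ x ∈ 𝔫 ^ k, ψ x = 0) :
    ∃ χ : MvPowerSeries (Fin n) K →ₐ[R] A, (Ideal.Quotient.mkₐ R J).comp χ = ψ := by
  classical
  obtain ⟨k, hk⟩ := hψ
  haveI : Algebra.FormallySmooth R (MvPolynomial (Fin n) K) := Algebra.FormallySmooth.comp R K _
  let ι : MvPolynomial (Fin n) K →+* MvPowerSeries (Fin n) K :=
    MvPolynomial.coeToMvPowerSeries.ringHom
  have hι : ∀ Q : MvPolynomial (Fin n) K, ι Q = (Q : MvPowerSeries (Fin n) K) := fun Q => rfl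
  let ψ₀ : MvPolynomial (Fin n) K →ₐ[R] A ⧸ J :=
    { toRingHom := ψ.toRingHom.comp ι
      commutes' := by
        intro r
        show ψ (ι (algebraMap R (MvPolynomial (Fin n) K) r)) = algebraMap R (A ⧸ J) r
        rw [MvPolynomial.algebraMap_apply, hι, MvPolynomial.coe_C, ← ψ.commutes r,
          MvPowerSeries.algebraMap_apply] }
  obtain ⟨χ₀, hχ₀⟩ :=
    Algebra.FormallySmooth.comp_surjective R (MvPolynomial (Fin n) K) J hJ ψ₀
  have hχ₀' : ∀ Q, Ideal.Quotient.mk J (χ₀ Q) = ψ (ι Q) := fun Q => AlgHom.congr_fun hχ₀ Q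
  obtain ⟨t, ht⟩ : ∃ t : ℕ, t = (k + 1) + (k + 1) := ⟨_, rfl⟩
  have ha : ∀ i, χ₀ (MvPolynomial.X i) ^ t = 0 := by
    intro i
    have h1 : χ₀ (MvPolynomial.X i) ^ (k + 1) ∈ J := by
      rw [← Ideal.Quotient.eq_zero_iff_mem, map_pow, hχ₀', hι, MvPolynomial.coe_X, ← map_pow]
      apply hk
      apply Ideal.pow_le_pow_right (Nat.le_succ k)
      exact Ideal.pow_mem_pow (h𝔫 i) _
    have h2 : χ₀ (MvPolynomial.X i) ^ t =
        χ₀ (MvPolynomial.X i) ^ (k + 1) * χ₀ (MvPolynomial.X i) ^ (k + 1) := by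
      rw [← pow_add, ht]
    have h3 : χ₀ (MvPolynomial.X i) ^ t ∈ J ^ 2 := by
      rw [h2, pow_two]; exact Ideal.mul_mem_mul h1 h1
    rw [hJ] at h3; simpa using h3
  let d : Fin n →₀ ℕ := Finsupp.equivFunOnFinite.symm (fun _ => t - 1)
  have hdi : ∀ i, d i = t - 1 := fun i => by simp [d]
  have hd : ∀ m : Fin n →₀ ℕ, m ≤ d ↔ ∀ i, m i < t := by
    intro m
    rw [Finsupp.le_def]
    constructor
    · intro h i
      have := h i
      rw [hdi] at this
      omega
    · intro h i
      have := h i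
      rw [hdi]
      omega
  have hZ : ∀ Q : MvPolynomial (Fin n) K, (∀ m, m ≤ d → Q.coeff m = 0) → χ₀ Q = 0 := by
    intro Q hQ
    conv_lhs => rw [Q.as_sum]
    rw [map_sum]
    apply Finset.sum_eq_zero
    intro m hm
    have hne : Q.coeff m ≠ 0 := MvPolynomial.mem_support_iff.mp hm
    have hnle : ¬ m ≤ d := fun h => hne (hQ m h)
    rw [hd] at hnle
    push_neg at hnle
    obtain ⟨i, hi⟩ := hnle
    have hm' : m - Finsupp.single i t + Finsupp.single i t = m := by
      ext j
      by_cases hj : j = i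
      · subst hj
        simp only [Finsupp.coe_add, Finsupp.coe_tsub, Pi.add_apply, Pi.sub_apply,
          Finsupp.single_eq_same]
        omega
      · simp [Finsupp.single_apply, Ne.symm hj]
    have hmon : MvPolynomial.monomial m (Q.coeff m) =
        MvPolynomial.monomial (m - Finsupp.single i t) (Q.coeff m) * MvPolynomial.X i ^ t := by
      rw [MvPolynomial.X_pow_eq_monomial, MvPolynomial.monomial_mul, mul_one, hm']
    rw [hmon, map_mul, map_pow, ha, mul_zero]
  let χ : MvPowerSeries (Fin n) K →ₐ[R] A :=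
    { toFun := fun f => χ₀ (trunc' K d f)
      map_one' := by simp
      map_mul' := by
        intro f g
        have h0 := hZ (trunc' K d (f * g) - trunc' K d f * trunc' K d g) (by
          intro m hm
          rw [MvPolynomial.coeff_sub, coeff_trunc', if_pos hm,
            coeff_trunc'_mul_trunc'_eq_coeff_mul d f g hm, sub_self])
        rw [map_sub, sub_eq_zero] at h0
        show χ₀ (trunc' K d (f * g)) = χ₀ (trunc' K d f) * χ₀ (trunc' K d g)
        rw [h0, map_mul]
      map_zero' := by simp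
      map_add' := by intro f g; simp
      commutes' := by
        intro r
        show χ₀ (trunc' K d (algebraMap R (MvPowerSeries (Fin n) K) r)) = algebraMap R A r
        rw [MvPowerSeries.algebraMap_apply, trunc'_C, ← MvPolynomial.algebraMap_apply,
          χ₀.commutes] }
  refine ⟨χ, ?_⟩
  apply AlgHom.ext
  intro f
  show Ideal.Quotient.mk J (χ₀ (trunc' K d f)) = ψ f
  rw [hχ₀']
  have htail : f - ι (trunc' K d f) ∈ 𝔫 ^ t := by
    apply tail_mem n 𝔫 h𝔫 t
    intro m hm
    rw [map_sub, hι, MvPolynomial.coeff_coe, coeff_trunc', if_pos ((hd m).mpr hm), sub_self]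
  have h0 : ψ (f - ι (trunc' K d f)) = 0 := by
    apply hk
    exact Ideal.pow_le_pow_right (by omega) htail
  rw [map_sub, sub_eq_zero] at h0
  exact h0.symm

end Groth.Agent.H27.PSSmooth
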