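import Mathlib
import Groth.Prelude.Def_CAlgX
import Groth.Agent.H27.RegSmoothU
import Groth.Agent.H27.RegSmooth
import Groth.Agent.H27.FieldSmooth
import Groth.Agent.S9318
import Groth.Agent.S19474

/-!
# Adic formal smoothness over a field: the differential criterion

For a Noetherian local `k`-algebra `A` with residue field `K`:
`A` is formally smooth over `k` for the adic topology iff `A` is regular and
`Ω_{k/ℤ} ⊗ K → Ω_{A/ℤ} ⊗ K` is injective.
-/

set_option autoImplicit false
universe u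
open IsLocalRing TensorProduct

namespace Groth.Agent.H27.OmegaInj

/-- Surjection form of adic formal smoothness. -/
theorem surj_form {F A : Type u} [CommRing F] [CommRing A] [Algebra F A] (I : Ideal A)
    (h : CAlgX.IsAdicFormallySmooth F A I)
    (E E₀ : Type u) [CommRing E] [CommRing E₀] [Algebra F E] [Algebra F E₀] (π : E →ₐ[F] E₀)
    (hπ : Function.Surjective π) (hsq : ∀ x y, π x = 0 → π y = 0 → x * y = 0)
    (ψ : A →ₐ[F] E₀) (hψ : ∃ N : ℕ, ∀ a ∈ I ^ N, ψ a = 0) :
    ∃ χ : A →ₐ[F] E, ∀ a, π (χ a) = ψ a := by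
  have hJ : (RingHom.ker π) ^ 2 = ⊥ := by
    rw [pow_two, eq_bot_iff, Ideal.mul_le]
    intro x hx y hy
    rw [Ideal.mem_bot]
    exact hsq x y ((RingHom.mem_ker).mp hx) ((RingHom.mem_ker).mp hy)
  let e : (E ⧸ RingHom.ker π) ≃ₐ[F] E₀ := Ideal.quotientKerAlgEquivOfSurjective hπ
  obtain ⟨N, hN⟩ := hψ
  obtain ⟨χ, hχ⟩ := h E (RingHom.ker π) hJ (e.symm.toAlgHom.comp ψ) ⟨N, fun a ha => by
    show e.symm (ψ a) = 0
    rw [hN a ha, map_zero]⟩
  refine ⟨χ, fun a => ?_⟩
  have h1 : Ideal.Quotient.mk (RingHom.ker π) (χ a) = e.symm (ψ a) := AlgHom.congr_fun hχ a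
  have h2 : e (Ideal.Quotient.mk (RingHom.ker π) (χ a)) = π (χ a) := rfl
  rw [← h2, h1, AlgEquiv.apply_symm_apply]

/-- If `Ω_k ⊗ K → Ω_A ⊗ K` is injective, derivations `k → M` into modules killed by the maximal
ideal extend to `A`. -/
theorem extend_der {k A : Type u} [Field k] [CommRing A] [IsLocalRing A] [Algebra k A]
    (hinj : Function.Injective
      ((KaehlerDifferential.mapBaseChange ℤ k A).lTensor (ResidueField A)))
    (M : Type u) [AddCommGroup M] [Module A M] (hM : ∀ a ∈ maximalIdeal A, ∀ z : M, a • z = 0)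
    (δ : k →+ M)
    (hδ : ∀ x y, δ (x * y) = algebraMap k A x • δ y + algebraMap k A y • δ x) :
    ∃ D : A →+ M, (∀ a b, D (a * b) = a • D b + b • D a) ∧
      ∀ x, D (algebraMap k A x) = δ x := by
  letI : Module k M := Module.compHom M (algebraMap k A)
  haveI : IsScalarTower k A M := ⟨fun x a z => by
    show (x • a) • z = algebraMap k A x • (a • z)
    rw [Algebra.smul_def, mul_smul]⟩
  have hδ1 : δ 1 = 0 := by
    have h1 := hδ 1 1
    rw [mul_one, (algebraMap k A).map_one, one_smul] at h1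
    have h2 : δ 1 + δ 1 = δ 1 + 0 := by rw [add_zero]; exact h1.symm
    exact add_left_cancel h2
  let dδ : Derivation ℤ k M :=
    { toLinearMap := δ.toIntLinearMap
      map_one_eq_zero' := hδ1
      leibniz' := fun x y => hδ x y }
  let l : Ω[k⁄ℤ] →ₗ[k] M := dδ.liftKaehlerDifferential
  let g : A ⊗[k] Ω[k⁄ℤ] →ₗ[A] M := LinearMap.liftBaseChange A l
  have hTor : Module.IsTorsionBySet A M (maximalIdeal A : Set A) := fun z a => hM a.1 a.2 z
  letI : Module (ResidueField A) M := hTor.module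
  haveI : IsScalarTower A (ResidueField A) M := ⟨fun a c z => by
    obtain ⟨c', rfl⟩ := IsLocalRing.residue_surjective c
    show (a * c') • z = a • (c' • z)
    exact mul_smul a c' z⟩
  let f' : ResidueField A ⊗[A] (A ⊗[k] Ω[k⁄ℤ]) →ₗ[ResidueField A]
      ResidueField A ⊗[A] Ω[A⁄ℤ] :=
    (KaehlerDifferential.mapBaseChange ℤ k A).baseChange (ResidueField A)
  have hf' : Function.Injective f' := hinj
  obtain ⟨r, hr⟩ := f'.exists_leftInverse_of_injective (LinearMap.ker_eq_bot.mpr hf')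
  let gb : ResidueField A ⊗[A] (A ⊗[k] Ω[k⁄ℤ]) →ₗ[ResidueField A] M :=
    LinearMap.liftBaseChange (ResidueField A) g
  let h : Ω[A⁄ℤ] →ₗ[A] M :=
    ((gb ∘ₗ r).restrictScalars A) ∘ₗ (TensorProduct.mk A (ResidueField A) Ω[A⁄ℤ] 1)
  refine ⟨{ toFun := fun a => h (KaehlerDifferential.D ℤ A a)
            map_zero' := by simp
            map_add' := fun a b => by simp }, ?_, ?_⟩
  · intro a b
    show h (KaehlerDifferential.D ℤ A (a * b)) =
      a • h (KaehlerDifferential.D ℤ A b) + b • h (KaehlerDifferential.D ℤ A a)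
    rw [Derivation.leibniz, map_add, map_smul, map_smul]
  · intro x
    show gb (r ((1 : ResidueField A) ⊗ₜ[A] KaehlerDifferential.D ℤ A (algebraMap k A x))) = δ x
    have e1 : (1 : ResidueField A) ⊗ₜ[A] KaehlerDifferential.D ℤ A (algebraMap k A x) =
        f' ((1 : ResidueField A) ⊗ₜ[A] ((1 : A) ⊗ₜ[k] KaehlerDifferential.D ℤ k x)) := by
      show _ = (KaehlerDifferential.mapBaseChange ℤ k A).baseChange (ResidueField A) _
      rw [LinearMap.baseChange_tmul, KaehlerDifferential.mapBaseChange_tmul, one_smul,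
        KaehlerDifferential.map_D]
    rw [e1]
    have e2 := LinearMap.congr_fun hr
      ((1 : ResidueField A) ⊗ₜ[A] ((1 : A) ⊗ₜ[k] KaehlerDifferential.D ℤ k x))
    rw [LinearMap.comp_apply, LinearMap.id_apply] at e2
    rw [e2]
    show LinearMap.liftBaseChange (ResidueField A) g _ = δ x
    rw [LinearMap.liftBaseChange_tmul, one_smul]
    show LinearMap.liftBaseChange A l _ = δ x
    rw [LinearMap.liftBaseChange_tmul, one_smul]
    exact Derivation.liftKaehlerDifferential_comp_D dδ x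

/-- The case of a kernel killed by the maximal ideal: correct a ring-hom lift by a derivation. -/
theorem lift_m {k A : Type u} [Field k] [CommRing A] [IsLocalRing A] [Algebra k A]
    (hinj : Function.Injective
      ((KaehlerDifferential.mapBaseChange ℤ k A).lTensor (ResidueField A)))
    (E E₀ : Type u) [CommRing E] [CommRing E₀] [Algebra k E] [Algebra k E₀] (π : E →ₐ[k] E₀)
    (hsq : ∀ x y, π x = 0 → π y = 0 → x * y = 0) (ψ : A →ₐ[k] E₀)
    (hm : ∀ a ∈ maximalIdeal A, ∀ e, π e = ψ a → ∀ z, π z = 0 → e * z = 0)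
    (χ' : A →+* E) (hχ' : ∀ a, π (χ' a) = ψ a) :
    ∃ χ : A →ₐ[k] E, ∀ a, π (χ a) = ψ a := by
  let Mi : Ideal E := RingHom.ker π
  have hMi : ∀ z : E, z ∈ Mi ↔ π z = 0 := fun z => RingHom.mem_ker
  letI modA : Module A ↥Mi := Module.compHom ↥Mi χ'
  have hmem : ∀ x : k, χ' (algebraMap k A x) - algebraMap k E x ∈ Mi := by
    intro x
    rw [hMi]
    simp only [map_sub, hχ', AlgHom.commutes, sub_self]
  let δ : k →+ ↥Mi :=
    { toFun := fun x => ⟨χ' (algebraMap k A x) - algebraMap k E x, hmem x⟩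
      map_zero' := by
        apply Subtype.ext
        show χ' (algebraMap k A 0) - algebraMap k E 0 = 0
        rw [map_zero, map_zero, map_zero, sub_zero]
      map_add' := fun x y => by
        apply Subtype.ext
        show χ' (algebraMap k A (x + y)) - algebraMap k E (x + y) =
          (χ' (algebraMap k A x) - algebraMap k E x) + (χ' (algebraMap k A y) - algebraMap k E y)
        rw [map_add, map_add, map_add]; ring }
  have hδ : ∀ x y, δ (x * y) = algebraMap k A x • δ y + algebraMap k A y • δ x := by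
    intro x y
    apply Subtype.ext
    have h0 := hsq _ _ ((hMi _).mp (hmem x)) ((hMi _).mp (hmem y))
    show χ' (algebraMap k A (x * y)) - algebraMap k E (x * y) =
      χ' (algebraMap k A x) * (χ' (algebraMap k A y) - algebraMap k E y) +
        χ' (algebraMap k A y) * (χ' (algebraMap k A x) - algebraMap k E x)
    rw [map_mul, map_mul, map_mul]
    linear_combination (-1 : E) * h0
  have hM : ∀ a ∈ maximalIdeal A, ∀ z : ↥Mi, a • z = 0 := by
    intro a ha z
    apply Subtype.ext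
    show χ' a * (z : E) = 0
    exact hm a ha (χ' a) (hχ' a) z ((hMi _).mp z.2)
  obtain ⟨D, hD, hDk⟩ := extend_der hinj ↥Mi hM δ hδ
  have hD1 : D 1 = 0 := by
    have h1 := hD 1 1
    rw [mul_one, one_smul] at h1
    have h2 : D 1 + D 1 = D 1 + 0 := by rw [add_zero]; exact h1.symm
    exact add_left_cancel h2
  have hDmul : ∀ a b, ((D (a * b) : ↥Mi) : E) = χ' a * (D b : E) + χ' b * (D a : E) := by
    intro a b; rw [hD a b]; rfl
  have hDD : ∀ a b, ((D a : ↥Mi) : E) * (D b : E) = 0 := fun a b =>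
    hsq _ _ ((hMi _).mp (D a).2) ((hMi _).mp (D b).2)
  let χ : A →ₐ[k] E :=
    { toFun := fun a => χ' a - (D a : E)
      map_one' := by
        show χ' 1 - ((D 1 : ↥Mi) : E) = 1
        rw [hD1, map_one]; simp
      map_mul' := fun a b => by
        show χ' (a * b) - ((D (a * b) : ↥Mi) : E) =
          (χ' a - ((D a : ↥Mi) : E)) * (χ' b - ((D b : ↥Mi) : E))
        rw [hDmul, map_mul]; linear_combination (-1 : E) * hDD a b
      map_zero' := by
        show χ' 0 - ((D 0 : ↥Mi) : E) = 0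
        rw [map_zero, map_zero]; simp
      map_add' := fun a b => by
        show χ' (a + b) - ((D (a + b) : ↥Mi) : E) =
          (χ' a - ((D a : ↥Mi) : E)) + (χ' b - ((D b : ↥Mi) : E))
        rw [map_add, map_add, Submodule.coe_add]; ring
      commutes' := fun x => by
        show χ' (algebraMap k A x) - ((D (algebraMap k A x) : ↥Mi) : E) = algebraMap k E x
        rw [hDk x]
        show χ' (algebraMap k A x) - (χ' (algebraMap k A x) - algebraMap k E x) = algebraMap k E x
        ring }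
  refine ⟨χ, fun a => ?_⟩
  show π (χ' a - ((D a : ↥Mi) : E)) = ψ a
  rw [map_sub, hχ', (hMi _).mp (D a).2, sub_zero]

/-- Induction on the nilpotency index of the maximal ideal acting on the kernel. -/
theorem lift_ind {k A : Type u} [Field k] [CommRing A] [IsLocalRing A] [Algebra k A]
    (hinj : Function.Injective
      ((KaehlerDifferential.mapBaseChange ℤ k A).lTensor (ResidueField A)))
    (hring : ∀ (E E₀ : Type u) [CommRing E] [CommRing E₀] [Algebra k E] [Algebra k E₀]
      (π : E →ₐ[k] E₀), Function.Surjective π → (∀ x y, π x = 0 → π y = 0 → x * y = 0) →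
      ∀ ψ : A →ₐ[k] E₀, (∃ N : ℕ, ∀ a ∈ maximalIdeal A ^ N, ψ a = 0) →
      ∃ χ' : A →+* E, ∀ a, π (χ' a) = ψ a) :
    ∀ (j : ℕ) (E E₀ : Type u) [CommRing E] [CommRing E₀] [Algebra k E] [Algebra k E₀]
      (π : E →ₐ[k] E₀), Function.Surjective π → (∀ x y, π x = 0 → π y = 0 → x * y = 0) →
      ∀ ψ : A →ₐ[k] E₀, (∃ N : ℕ, ∀ a ∈ maximalIdeal A ^ N, ψ a = 0) →
      (∀ a ∈ maximalIdeal A ^ j, ∀ e, π e = ψ a → ∀ z, π z = 0 → e * z = 0) →
      ∃ χ : A →ₐ[k] E, ∀ a, π (χ a) = ψ a := by
  intro j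
  induction j with
  | zero =>
    intro E E₀ _ _ _ _ π hπ hsq ψ hψ hj
    have hinjπ : Function.Injective π := by
      rw [injective_iff_map_eq_zero]
      intro z hz
      have := hj 1 (by rw [pow_zero, Ideal.one_eq_top]; exact Submodule.mem_top) 1
        (by rw [map_one, map_one]) z hz
      rwa [one_mul] at this
    let e : E ≃ₐ[k] E₀ := AlgEquiv.ofBijective π ⟨hinjπ, hπ⟩
    refine ⟨e.symm.toAlgHom.comp ψ, fun a => ?_⟩
    show e (e.symm (ψ a)) = ψ a
    exact e.apply_symm_apply _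
  | succ j ih =>
    intro E E₀ _ _ _ _ π hπ hsq ψ hψ hj
    obtain ⟨𝔞, h𝔞def⟩ : ∃ 𝔞 : Ideal E, 𝔞 = Ideal.span
        {w | ∃ a ∈ maximalIdeal A, ∃ e z, π e = ψ a ∧ π z = 0 ∧ w = e * z} := ⟨_, rfl⟩
    have h𝔞 : ∀ w ∈ 𝔞, π w = 0 := by
      intro w hw
      have hle : 𝔞 ≤ RingHom.ker π := by
        rw [h𝔞def]
        apply Ideal.span_le.mpr
        rintro w ⟨a, ha, e, z, he, hz, rfl⟩
        show e * z ∈ RingHom.ker π
        rw [RingHom.mem_ker, map_mul, hz, mul_zero]
      exact (RingHom.mem_ker).mp (hle hw)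
    let π₁ : E ⧸ 𝔞 →ₐ[k] E₀ := Ideal.Quotient.liftₐ 𝔞 π h𝔞
    let q : E →ₐ[k] E ⧸ 𝔞 := Ideal.Quotient.mkₐ k 𝔞
    have hq : ∀ x, π₁ (q x) = π x := fun x => rfl
    have hqs : Function.Surjective q := Ideal.Quotient.mkₐ_surjective k 𝔞
    have hq0 : ∀ x, q x = 0 ↔ x ∈ 𝔞 := fun x => by
      show Ideal.Quotient.mk 𝔞 x = 0 ↔ x ∈ 𝔞
      exact Ideal.Quotient.eq_zero_iff_mem
    have hπ₁ : Function.Surjective π₁ := fun y => by
      obtain ⟨x, rfl⟩ := hπ y
      exact ⟨q x, hq x⟩
    have hsq₁ : ∀ x y, π₁ x = 0 → π₁ y = 0 → x * y = 0 := by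
      intro x y hx hy
      obtain ⟨x', rfl⟩ := hqs x
      obtain ⟨y', rfl⟩ := hqs y
      rw [hq] at hx hy
      rw [← map_mul, hsq x' y' hx hy, map_zero]
    have hm₁ : ∀ a ∈ maximalIdeal A, ∀ e₁, π₁ e₁ = ψ a → ∀ z₁, π₁ z₁ = 0 → e₁ * z₁ = 0 := by
      intro a ha e₁ he₁ z₁ hz₁
      obtain ⟨e, rfl⟩ := hqs e₁
      obtain ⟨z, rfl⟩ := hqs z₁
      rw [hq] at he₁ hz₁
      rw [← map_mul, hq0, h𝔞def]
      exact Ideal.subset_span ⟨a, ha, e, z, he₁, hz₁, rfl⟩
    obtain ⟨χ'₁, hχ'₁⟩ := hring (E ⧸ 𝔞) E₀ π₁ hπ₁ hsq₁ ψ hψ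
    obtain ⟨χ₁, hχ₁⟩ := lift_m hinj (E ⧸ 𝔞) E₀ π₁ hsq₁ ψ hm₁ χ'₁ hχ'₁
    have hsq_q : ∀ x y, q x = 0 → q y = 0 → x * y = 0 := fun x y hx hy =>
      hsq x y (h𝔞 x ((hq0 x).mp hx)) (h𝔞 y ((hq0 y).mp hy))
    have hψ₁ : ∃ N : ℕ, ∀ a ∈ maximalIdeal A ^ N, χ₁ a = 0 := by
      obtain ⟨N, hN⟩ := hψ
      refine ⟨N + N, fun a ha => ?_⟩
      rw [pow_add] at ha
      refine Submodule.mul_induction_on ha (fun b hb c hc => ?_) (fun x y hx hy => ?_)
      · rw [map_mul]
        exact hsq₁ _ _ (by rw [hχ₁, hN b hb]) (by rw [hχ₁, hN c hc])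
      · rw [map_add, hx, hy, add_zero]
    have hj' : ∀ a ∈ maximalIdeal A ^ j, ∀ e, q e = χ₁ a → ∀ z, q z = 0 → e * z = 0 := by
      intro a ha e he z hz
      have hπe : π e = ψ a := by rw [← hq, he, hχ₁]
      have hz' : z ∈ 𝔞 := (hq0 z).mp hz
      rw [h𝔞def] at hz'
      refine Submodule.span_induction (p := fun z _ => e * z = 0) ?_ ?_ ?_ ?_ hz'
      · rintro w ⟨a', ha', e', z', he', hz'', rfl⟩
        rw [← mul_assoc]
        refine hj (a * a') ?_ (e * e') ?_ z' hz''
        · rw [pow_succ]; exact Ideal.mul_mem_mul ha ha'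
        · rw [map_mul, map_mul, hπe, he']
      · exact mul_zero e
      · intro x y _ _ hx hy; rw [mul_add, hx, hy, add_zero]
      · intro r x _ hx; rw [smul_eq_mul, mul_left_comm, hx, mul_zero]
    obtain ⟨χ, hχ⟩ := ih E (E ⧸ 𝔞) q hqs hsq_q χ₁ hψ₁ hj'
    exact ⟨χ, fun a => by rw [← hq, hχ, hχ₁]⟩

/-- A regular local ring containing a field `F` over which all field extensions are formally
smooth is formally smooth over `F` for its adic topology. -/
theorem adicSmooth_prime {F A : Type u} [Field F] [CommRing A] [IsLocalRing A]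
    [IsNoetherianRing A] [Algebra F A] (hreg : IsRegularLocalRing A)
    (hK : ∀ (K : Type u) [Field K] [Algebra F K], Algebra.FormallySmooth F K) :
    CAlgX.IsAdicFormallySmooth F A (maximalIdeal A) := by
  have hI : maximalIdeal A ≠ ⊤ := (maximalIdeal.isMaximal A).ne_top
  haveI := Groth.Agent.S19474.isNoetherianRing_adicCompletion A (maximalIdeal A)
  have hreg' := (Groth.Agent.S19474.result A _ hI).2
  have hfg : (maximalIdeal A).FG := IsNoetherian.noetherian _
  have hsm := Groth.Agent.S9318.result (R := F) (maximalIdeal A) hfg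
  have hmax := AdicCompletion.maximalIdeal_eq_map (R := A)
  haveI : IsRegularLocalRing (AdicCompletion (maximalIdeal A) A) := hreg'.mp hreg
  haveI := hK (ResidueField (AdicCompletion (maximalIdeal A) A))
  have h' := Groth.Agent.H27.RegSmooth.adicSmooth_of_regular F
    (AdicCompletion (maximalIdeal A) A)
  rw [hmax] at h'
  exact hsm.mpr h'

theorem ring_lift_of_tower {F k A : Type u} [CommRing F] [CommRing k] [CommRing A]
    [Algebra F k] [Algebra k A] [Algebra F A] [IsScalarTower F k A] (I : Ideal A)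
    (h : CAlgX.IsAdicFormallySmooth F A I)
    (E E₀ : Type u) [CommRing E] [CommRing E₀] [Algebra k E] [Algebra k E₀] (π : E →ₐ[k] E₀)
    (hπ : Function.Surjective π) (hsq : ∀ x y, π x = 0 → π y = 0 → x * y = 0)
    (ψ : A →ₐ[k] E₀) (hψ : ∃ N : ℕ, ∀ a ∈ I ^ N, ψ a = 0) :
    ∃ χ' : A →+* E, ∀ a, π (χ' a) = ψ a := by
  letI : Algebra F E := ((algebraMap k E).comp (algebraMap F k)).toAlgebra
  letI : Algebra F E₀ := ((algebraMap k E₀).comp (algebraMap F k)).toAlgebra
  haveI : IsScalarTower F k E := IsScalarTower.of_algebraMap_eq (fun _ => rfl)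
  haveI : IsScalarTower F k E₀ := IsScalarTower.of_algebraMap_eq (fun _ => rfl)
  obtain ⟨χ, hχ⟩ := surj_form I h E E₀ (π.restrictScalars F) hπ hsq (ψ.restrictScalars F) hψ
  exact ⟨χ.toRingHom, hχ⟩

theorem smooth_of_inj_aux {F k A : Type u} [Field F] [Field k] [CommRing A] [IsLocalRing A]
    [IsNoetherianRing A] [Algebra F k] [Algebra k A] [Algebra F A] [IsScalarTower F k A]
    (hF : ∀ (K : Type u) [Field K] [Algebra F K], Algebra.FormallySmooth F K)
    (hreg : IsRegularLocalRing A)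
    (hinj : Function.Injective
      ((KaehlerDifferential.mapBaseChange ℤ k A).lTensor (ResidueField A))) :
    CAlgX.IsAdicFormallySmooth k A (maximalIdeal A) := by
  have h₀ := adicSmooth_prime (F := F) hreg hF
  have hring := ring_lift_of_tower (F := F) (k := k) (maximalIdeal A) h₀
  intro E _ _ J hJ ψ hψ
  obtain ⟨N, hN⟩ := hψ
  have hmemJ : ∀ x : E, Ideal.Quotient.mkₐ k J x = 0 → x ∈ J := fun x hx =>
    Ideal.Quotient.eq_zero_iff_mem.mp hx
  have hJJ : ∀ x y : E, x ∈ J → y ∈ J → x * y = 0 := by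
    intro x y hx hy
    have : x * y ∈ J ^ 2 := by rw [pow_two]; exact Ideal.mul_mem_mul hx hy
    rw [hJ] at this
    exact (Ideal.mem_bot).mp this
  obtain ⟨χ, hχ⟩ := lift_ind hinj hring N E (E ⧸ J) (Ideal.Quotient.mkₐ k J)
    (Ideal.Quotient.mkₐ_surjective k J)
    (fun x y hx hy => hJJ x y (hmemJ x hx) (hmemJ y hy))
    ψ ⟨N, hN⟩
    (fun a ha e he z hz => hJJ e z (hmemJ e (by rw [he, hN a ha])) (hmemJ z hz))
  exact ⟨χ, AlgHom.ext hχ⟩

theorem smooth_of_inj {k A : Type u} [Field k] [CommRing A] [IsLocalRing A]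
    [IsNoetherianRing A] [Algebra k A] (hreg : IsRegularLocalRing A)
    (hinj : Function.Injective
      ((KaehlerDifferential.mapBaseChange ℤ k A).lTensor (ResidueField A))) :
    CAlgX.IsAdicFormallySmooth k A (maximalIdeal A) := by
  obtain ⟨p, hpc⟩ := CharP.exists k
  rcases CharP.char_is_prime_or_zero k p with hpp | hp0
  · haveI : Fact p.Prime := ⟨hpp⟩
    letI : Algebra (ZMod p) k := ZMod.algebra k p
    letI algFk : Algebra (ULift.{u} (ZMod p)) k :=
      ((algebraMap (ZMod p) k).comp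
        (ULift.ringEquiv : ULift.{u} (ZMod p) ≃+* ZMod p).toRingHom).toAlgebra
    letI algFA : Algebra (ULift.{u} (ZMod p)) A :=
      ((algebraMap k A).comp (algebraMap (ULift.{u} (ZMod p)) k)).toAlgebra
    haveI : @IsScalarTower (ULift.{u} (ZMod p)) k A Algebra.toSMul Algebra.toSMul
        Algebra.toSMul := IsScalarTower.of_algebraMap_eq (fun _ => rfl)
    have hF : ∀ (K : Type u) [Field K] [Algebra (ULift.{u} (ZMod p)) K],
        Algebra.FormallySmooth (ULift.{u} (ZMod p)) K := by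
      intro K _ _
      letI : Algebra (ZMod p) K :=
        ((algebraMap (ULift.{u} (ZMod p)) K).comp
          (algebraMap (ZMod p) (ULift.{u} (ZMod p)))).toAlgebra
      haveI : @IsScalarTower (ZMod p) (ULift.{u} (ZMod p)) K Algebra.toSMul Algebra.toSMul
          Algebra.toSMul := IsScalarTower.of_algebraMap_eq (fun _ => rfl)
      haveI : Algebra.FormallySmooth (ZMod p) K :=
        Groth.Agent.H27.FieldSmooth.formallySmooth_zmod p K
      haveI : Algebra.FormallyUnramified (ZMod p) (ULift.{u} (ZMod p)) :=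
        Algebra.FormallyUnramified.of_surjective (Algebra.ofId (ZMod p) (ULift.{u} (ZMod p)))
          (fun y => ⟨y.down, rfl⟩)
      exact Algebra.FormallySmooth.of_restrictScalars (ZMod p) (ULift.{u} (ZMod p)) K
    exact smooth_of_inj_aux (F := ULift.{u} (ZMod p)) hF hreg hinj
  · subst hp0
    haveI : CharZero k := CharP.charP_to_charZero k
    exact adicSmooth_prime hreg
      (fun K _ _ => Groth.Agent.H27.FieldSmooth.formallySmooth_of_charZero k K)

/-- Adic formal smoothness implies injectivity of `Ω_k ⊗ K → Ω_A ⊗ K`. -/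
theorem inj_of_smooth {k A : Type u} [Field k] [CommRing A] [IsLocalRing A] [Algebra k A]
    (hS : ∀ (E E₀ : Type u) [CommRing E] [CommRing E₀] [Algebra k E] [Algebra k E₀]
      (π : E →ₐ[k] E₀), Function.Surjective π → (∀ x y, π x = 0 → π y = 0 → x * y = 0) →
      ∀ ψ : A →ₐ[k] E₀, (∃ N : ℕ, ∀ a ∈ maximalIdeal A ^ N, ψ a = 0) →
      ∃ χ : A →ₐ[k] E, ∀ a, π (χ a) = ψ a) :
    Function.Injective
      ((KaehlerDifferential.mapBaseChange ℤ k A).lTensor (ResidueField A)) := by
  rw [injective_iff_map_eq_zero]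
  intro z hz
  refine (Module.forall_dual_apply_eq_zero_iff (ResidueField A) z).mp (fun φ => ?_)
  let e : ResidueField A ⊗[A] (A ⊗[k] Ω[k⁄ℤ]) ≃ₗ[ResidueField A] ResidueField A ⊗[k] Ω[k⁄ℤ] :=
    TensorProduct.AlgebraTensorModule.cancelBaseChange k A (ResidueField A) (ResidueField A)
      Ω[k⁄ℤ]
  let φ₁ : ResidueField A ⊗[k] Ω[k⁄ℤ] →ₗ[ResidueField A] ResidueField A :=
    φ ∘ₗ e.symm.toLinearMap
  let l₀ : Ω[k⁄ℤ] →ₗ[k] ResidueField A :=
    (φ₁.restrictScalars k) ∘ₗ (TensorProduct.mk k (ResidueField A) Ω[k⁄ℤ] 1)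
  let δ : Derivation ℤ k (ResidueField A) := l₀.compDer (KaehlerDifferential.D ℤ k)
  have hδ : ∀ x, δ x = φ₁ ((1 : ResidueField A) ⊗ₜ[k] KaehlerDifferential.D ℤ k x) :=
    fun x => rfl
  let ι : k →+* TrivSqZeroExt (ResidueField A) (ResidueField A) :=
    { toFun := fun x =>
        TrivSqZeroExt.inl (algebraMap k (ResidueField A) x) + TrivSqZeroExt.inr (δ x)
      map_one' := by
        apply TrivSqZeroExt.ext
        · simp
        · simp
      map_mul' := fun x y => by
        apply TrivSqZeroExt.ext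
        · simp only [TrivSqZeroExt.fst_add, TrivSqZeroExt.fst_mul, TrivSqZeroExt.fst_inl,
            TrivSqZeroExt.fst_inr, add_zero, map_mul]
        · simp only [TrivSqZeroExt.snd_add, TrivSqZeroExt.snd_mul, TrivSqZeroExt.fst_add,
            TrivSqZeroExt.fst_inl, TrivSqZeroExt.fst_inr, TrivSqZeroExt.snd_inl,
            TrivSqZeroExt.snd_inr, add_zero, zero_add, Derivation.leibniz, Algebra.smul_def,
            smul_eq_mul, MulOpposite.smul_eq_mul_unop, MulOpposite.unop_op,
            Algebra.algebraMap_self, RingHom.id_apply]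
          ring
      map_zero' := by
        apply TrivSqZeroExt.ext
        · simp
        · simp
      map_add' := fun x y => by
        apply TrivSqZeroExt.ext
        · simp only [TrivSqZeroExt.fst_add, TrivSqZeroExt.fst_inl, TrivSqZeroExt.fst_inr,
            add_zero, map_add]
        · simp only [TrivSqZeroExt.snd_add, TrivSqZeroExt.snd_inl, TrivSqZeroExt.snd_inr,
            zero_add, map_add] }
  letI algE : Algebra k (TrivSqZeroExt (ResidueField A) (ResidueField A)) := ι.toAlgebra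
  let π : TrivSqZeroExt (ResidueField A) (ResidueField A) →ₐ[k] ResidueField A :=
    { toRingHom :=
        (TrivSqZeroExt.fstHom (ResidueField A) (ResidueField A) (ResidueField A)).toRingHom
      commutes' := fun x => by
        show TrivSqZeroExt.fst (TrivSqZeroExt.inl (algebraMap k (ResidueField A) x) +
          TrivSqZeroExt.inr (δ x)) = algebraMap k (ResidueField A) x
        simp }
  have hπfst : ∀ w, π w = w.fst := fun w => rfl
  let ψ₀ : A →ₐ[k] ResidueField A := IsScalarTower.toAlgHom k A (ResidueField A)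
  obtain ⟨χ, hχ⟩ := hS _ _ π
    (fun c => ⟨TrivSqZeroExt.inl c, by rw [hπfst, TrivSqZeroExt.fst_inl]⟩)
    (fun x y hx hy => by
      rw [hπfst] at hx hy
      apply TrivSqZeroExt.ext
      · rw [TrivSqZeroExt.fst_mul, hx, zero_mul, TrivSqZeroExt.fst_zero]
      · rw [TrivSqZeroExt.snd_mul, hx, hy, MulOpposite.op_zero, zero_smul, zero_smul,
          add_zero, TrivSqZeroExt.snd_zero])
    ψ₀ ⟨1, fun a ha => by
      rw [pow_one] at ha
      show algebraMap A (ResidueField A) a = 0
      rw [IsLocalRing.ResidueField.algebraMap_eq]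
      exact (IsLocalRing.residue_eq_zero_iff a).mpr ha⟩
  have hfst : ∀ a, (χ a).fst = algebraMap A (ResidueField A) a := fun a => hχ a
  let D₀ : A →+ ResidueField A :=
    { toFun := fun a => (χ a).snd
      map_zero' := by rw [map_zero, TrivSqZeroExt.snd_zero]
      map_add' := fun a b => by rw [map_add, TrivSqZeroExt.snd_add] }
  let Dd : Derivation ℤ A (ResidueField A) :=
    { toLinearMap := D₀.toIntLinearMap
      map_one_eq_zero' := by
        show (χ 1).snd = 0
        rw [map_one, TrivSqZeroExt.snd_one]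
      leibniz' := fun a b => by
        show (χ (a * b)).snd = a • (χ b).snd + b • (χ a).snd
        rw [map_mul, TrivSqZeroExt.snd_mul, hfst, hfst]
        simp only [Algebra.smul_def, smul_eq_mul, MulOpposite.smul_eq_mul_unop,
          MulOpposite.unop_op, Algebra.algebraMap_self, RingHom.id_apply]
        ring }
  let lD : Ω[A⁄ℤ] →ₗ[A] ResidueField A := Dd.liftKaehlerDifferential
  let φ' : ResidueField A ⊗[A] Ω[A⁄ℤ] →ₗ[ResidueField A] ResidueField A :=
    LinearMap.liftBaseChange (ResidueField A) lD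
  let f' : ResidueField A ⊗[A] (A ⊗[k] Ω[k⁄ℤ]) →ₗ[ResidueField A]
      ResidueField A ⊗[A] Ω[A⁄ℤ] :=
    (KaehlerDifferential.mapBaseChange ℤ k A).baseChange (ResidueField A)
  have key : φ₁ = (φ' ∘ₗ f') ∘ₗ e.symm.toLinearMap := by
    apply TensorProduct.AlgebraTensorModule.curry_injective
    apply LinearMap.ext_ring
    apply Derivation.liftKaehlerDifferential_unique
    ext x
    show φ₁ ((1 : ResidueField A) ⊗ₜ[k] KaehlerDifferential.D ℤ k x) =
      φ' (f' (e.symm ((1 : ResidueField A) ⊗ₜ[k] KaehlerDifferential.D ℤ k x)))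
    have e1 : e.symm ((1 : ResidueField A) ⊗ₜ[k] KaehlerDifferential.D ℤ k x) =
        (1 : ResidueField A) ⊗ₜ[A] ((1 : A) ⊗ₜ[k] KaehlerDifferential.D ℤ k x) :=
      TensorProduct.AlgebraTensorModule.cancelBaseChange_symm_tmul k A (ResidueField A) _ _
    rw [e1]
    have e2 : f' ((1 : ResidueField A) ⊗ₜ[A] ((1 : A) ⊗ₜ[k] KaehlerDifferential.D ℤ k x)) =
        (1 : ResidueField A) ⊗ₜ[A] KaehlerDifferential.D ℤ A (algebraMap k A x) := by
      show (KaehlerDifferential.mapBaseChange ℤ k A).baseChange (ResidueField A) _ = _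
      rw [LinearMap.baseChange_tmul, KaehlerDifferential.mapBaseChange_tmul, one_smul,
        KaehlerDifferential.map_D]
    rw [e2]
    show _ = LinearMap.liftBaseChange (ResidueField A) lD _
    rw [LinearMap.liftBaseChange_tmul, one_smul]
    show _ = Dd.liftKaehlerDifferential _
    rw [Derivation.liftKaehlerDifferential_comp_D]
    show _ = (χ (algebraMap k A x)).snd
    rw [χ.commutes]
    show _ = (TrivSqZeroExt.inl (algebraMap k (ResidueField A) x) +
      TrivSqZeroExt.inr (δ x) : TrivSqZeroExt (ResidueField A) (ResidueField A)).snd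
    rw [TrivSqZeroExt.snd_add, TrivSqZeroExt.snd_inl, TrivSqZeroExt.snd_inr, zero_add, hδ]
  have h3 : φ z = φ₁ (e z) := by
    show φ z = φ (e.symm (e z))
    rw [LinearEquiv.symm_apply_apply]
  rw [h3, key]
  show φ' (f' (e.symm (e z))) = 0
  rw [LinearEquiv.symm_apply_apply]
  have h4 : f' z = 0 := hz
  rw [h4, map_zero]

end Groth.Agent.H27.OmegaInj
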