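import Mathlib
import Groth.Prelude.Def_CAlgX
import Groth.Agent.H27.OmegaInj
import Groth.Agent.H29.RegLocalization
import Groth.Agent.S2471

/-!
# Localizations of adically formally smooth local algebras over a field

If `A` is a Noetherian local `k`-algebra, formally smooth over the field `k` for its adic topology,
then so is every localization `A_p`.  The proof uses the criterion S2471 (regular + injectivity of
`Ω_k ⊗ κ → Ω ⊗ κ`), split injectivity of `Ω_k ⊗ A → Ω_A` modulo `p + m^n`, and Krull's intersection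
theorem in `A/p`.
-/

set_option autoImplicit false
universe u
open TensorProduct IsLocalRing Module

namespace Groth.Agent.H27.LocSmooth

/-- Derivations `k → A/J` extend to `A` when `A` is `I`-adically formally smooth and `I^n ≤ J`. -/
theorem quot_der {k A : Type u} [Field k] [CommRing A] [Algebra k A] (I J : Ideal A)
    (h : CAlgX.IsAdicFormallySmooth k A I) (hIJ : ∃ n : ℕ, I ^ n ≤ J)
    (δ : Derivation ℤ k (A ⧸ J)) :
    ∃ Δ : Derivation ℤ A (A ⧸ J), ∀ x, Δ (algebraMap k A x) = δ x := by
  let ι : k →+* TrivSqZeroExt (A ⧸ J) (A ⧸ J) :=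
    { toFun := fun x =>
        TrivSqZeroExt.inl (algebraMap k (A ⧸ J) x) + TrivSqZeroExt.inr (δ x)
      map_one' := by
        apply TrivSqZeroExt.ext
        · simp
        · simp
      map_mul' := fun x y => by
        apply TrivSqZeroExt.ext
        · simp only [TrivSqZeroExt.fst_add, TrivSqZeroExt.fst_mul, TrivSqZeroExt.fst_inl,
            TrivSqZeroExt.fst_inr, add_zero, map_mul]
        · simp only [TrivSqZeroExt.snd_add, TrivSqZeroExt.snd_mul, TrivSqZeroExt.fst_add,
            TrivSqZeroExt.fst_inl, TrivSqZeroExt.fst_inr, TrivSqZeroExt.snd_inl,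
            TrivSqZeroExt.snd_inr, add_zero, zero_add, Derivation.leibniz, Algebra.smul_def,
            smul_eq_mul, MulOpposite.smul_eq_mul_unop, MulOpposite.unop_op,
            Algebra.algebraMap_self, RingHom.id_apply]
          ring
      map_zero' := by
        apply TrivSqZeroExt.ext
        · simp
        · simp
      map_add' := fun x y => by
        apply TrivSqZeroExt.ext
        · simp only [TrivSqZeroExt.fst_add, TrivSqZeroExt.fst_inl, TrivSqZeroExt.fst_inr,
            add_zero, map_add]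
        · simp only [TrivSqZeroExt.snd_add, TrivSqZeroExt.snd_inl, TrivSqZeroExt.snd_inr,
            zero_add, map_add] }
  letI algE : Algebra k (TrivSqZeroExt (A ⧸ J) (A ⧸ J)) := ι.toAlgebra
  let π : TrivSqZeroExt (A ⧸ J) (A ⧸ J) →ₐ[k] (A ⧸ J) :=
    { toRingHom := (TrivSqZeroExt.fstHom (A ⧸ J) (A ⧸ J) (A ⧸ J)).toRingHom
      commutes' := fun x => by
        show TrivSqZeroExt.fst (TrivSqZeroExt.inl (algebraMap k (A ⧸ J) x) +
          TrivSqZeroExt.inr (δ x)) = algebraMap k (A ⧸ J) x
        simp }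
  have hπfst : ∀ w, π w = w.fst := fun w => rfl
  obtain ⟨n, hn⟩ := hIJ
  obtain ⟨χ, hχ⟩ := Groth.Agent.H27.OmegaInj.surj_form I h _ _ π
    (fun c => ⟨TrivSqZeroExt.inl c, by rw [hπfst, TrivSqZeroExt.fst_inl]⟩)
    (fun x y hx hy => by
      rw [hπfst] at hx hy
      apply TrivSqZeroExt.ext
      · rw [TrivSqZeroExt.fst_mul, hx, zero_mul, TrivSqZeroExt.fst_zero]
      · rw [TrivSqZeroExt.snd_mul, hx, hy, MulOpposite.op_zero, zero_smul, zero_smul,
          add_zero, TrivSqZeroExt.snd_zero])
    (Ideal.Quotient.mkₐ k J) ⟨n, fun a ha => by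
      show Ideal.Quotient.mk J a = 0
      exact Ideal.Quotient.eq_zero_iff_mem.mpr (hn ha)⟩
  have hfst : ∀ a, (χ a).fst = Ideal.Quotient.mk J a := fun a => hχ a
  let D₀ : A →+ (A ⧸ J) :=
    { toFun := fun a => (χ a).snd
      map_zero' := by rw [map_zero, TrivSqZeroExt.snd_zero]
      map_add' := fun a b => by rw [map_add, TrivSqZeroExt.snd_add] }
  let Dd : Derivation ℤ A (A ⧸ J) :=
    { toLinearMap := D₀.toIntLinearMap
      map_one_eq_zero' := by
        show (χ 1).snd = 0
        rw [map_one, TrivSqZeroExt.snd_one]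
      leibniz' := fun a b => by
        show (χ (a * b)).snd = a • (χ b).snd + b • (χ a).snd
        rw [map_mul, TrivSqZeroExt.snd_mul, hfst, hfst]
        simp only [Algebra.smul_def, smul_eq_mul, MulOpposite.smul_eq_mul_unop,
          MulOpposite.unop_op, Ideal.Quotient.algebraMap_eq, Algebra.algebraMap_self,
          RingHom.id_apply]
        ring }
  refine ⟨Dd, fun x => ?_⟩
  show (χ (algebraMap k A x)).snd = δ x
  rw [χ.commutes]
  show (TrivSqZeroExt.inl (algebraMap k (A ⧸ J) x) +
    TrivSqZeroExt.inr (δ x) : TrivSqZeroExt (A ⧸ J) (A ⧸ J)).snd = δ x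
  rw [TrivSqZeroExt.snd_add, TrivSqZeroExt.snd_inl, TrivSqZeroExt.snd_inr, zero_add]

/-- If `α w ∈ p Ω_A`, every coordinate of `w` lies in any ideal `J ⊇ p` containing a power of `m`. -/
theorem coord_mem {k A : Type u} [Field k] [CommRing A] [IsLocalRing A] [Algebra k A]
    (h : CAlgX.IsAdicFormallySmooth k A (maximalIdeal A)) (p J : Ideal A) (hpJ : p ≤ J)
    (hJ : ∃ n : ℕ, maximalIdeal A ^ n ≤ J)
    {ι : Type u} (b : Basis ι k Ω[k⁄ℤ]) (i : ι) (w : A ⊗[k] Ω[k⁄ℤ])
    (hw : KaehlerDifferential.mapBaseChange ℤ k A w ∈ p • (⊤ : Submodule A Ω[A⁄ℤ])) :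
    (Algebra.TensorProduct.basis A b).repr w i ∈ J := by
  classical
  let di : Derivation ℤ k k := (b.coord i).compDer (KaehlerDifferential.D ℤ k)
  let δ : Derivation ℤ k (A ⧸ J) := (Algebra.linearMap k (A ⧸ J)).compDer di
  obtain ⟨Δ, hΔ⟩ := quot_der (maximalIdeal A) J h hJ δ
  let ρ : Ω[A⁄ℤ] →ₗ[A] (A ⧸ J) := Δ.liftKaehlerDifferential
  have hfun : (ρ.restrictScalars k) ∘ₗ (KaehlerDifferential.map ℤ ℤ k A) =
      (Algebra.linearMap k (A ⧸ J)) ∘ₗ (b.coord i) := by
    apply Derivation.liftKaehlerDifferential_unique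
    ext x
    show ρ (KaehlerDifferential.map ℤ ℤ k A (KaehlerDifferential.D ℤ k x)) =
      algebraMap k (A ⧸ J) (b.coord i (KaehlerDifferential.D ℤ k x))
    rw [KaehlerDifferential.map_D]
    show Δ.liftKaehlerDifferential (KaehlerDifferential.D ℤ A (algebraMap k A x)) = _
    rw [Derivation.liftKaehlerDifferential_comp_D, hΔ]
    rfl
  have hρ : ∀ ω : Ω[k⁄ℤ], ρ (KaehlerDifferential.map ℤ ℤ k A ω) =
      algebraMap k (A ⧸ J) (b.repr ω i) := fun ω => LinearMap.congr_fun hfun ω
  have hB' : ∀ j, (Algebra.TensorProduct.basis A b) j = (1 : A) ⊗ₜ[k] b j :=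
    fun j => Algebra.TensorProduct.basis_apply b j
  have hlin : ρ ∘ₗ (KaehlerDifferential.mapBaseChange ℤ k A) =
      (Algebra.linearMap A (A ⧸ J)) ∘ₗ ((Algebra.TensorProduct.basis A b).coord i) := by
    apply (Algebra.TensorProduct.basis A b).ext
    intro j
    show ρ (KaehlerDifferential.mapBaseChange ℤ k A ((Algebra.TensorProduct.basis A b) j)) =
      algebraMap A (A ⧸ J)
        ((Algebra.TensorProduct.basis A b).repr ((Algebra.TensorProduct.basis A b) j) i)
    rw [Basis.repr_self, hB' j, KaehlerDifferential.mapBaseChange_tmul, one_smul, hρ,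
      Basis.repr_self, Finsupp.single_apply, Finsupp.single_apply]
    split_ifs <;> simp
  have hkill : ∀ y ∈ p • (⊤ : Submodule A Ω[A⁄ℤ]), ρ y = 0 := by
    intro y hy
    refine Submodule.smul_induction_on hy (fun a ha y _ => ?_) (fun x y hx hy => ?_)
    · rw [map_smul, Algebra.smul_def, Ideal.Quotient.algebraMap_eq,
        Ideal.Quotient.eq_zero_iff_mem.mpr (hpJ ha), zero_mul]
    · rw [map_add, hx, hy, add_zero]
  have h1 : ρ (KaehlerDifferential.mapBaseChange ℤ k A w) =
      algebraMap A (A ⧸ J) ((Algebra.TensorProduct.basis A b).repr w i) :=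
    LinearMap.congr_fun hlin w
  rw [hkill _ hw, Ideal.Quotient.algebraMap_eq] at h1
  exact Ideal.Quotient.eq_zero_iff_mem.mp h1.symm

/-- The map `Ω_k ⊗ A → Ω_A` reflects membership in `p`-multiples. -/
theorem mem_smul_of_map_mem {k A : Type u} [Field k] [CommRing A] [IsLocalRing A]
    [IsNoetherianRing A] [Algebra k A] (h : CAlgX.IsAdicFormallySmooth k A (maximalIdeal A))
    (p : Ideal A) [p.IsPrime] (w : A ⊗[k] Ω[k⁄ℤ])
    (hw : KaehlerDifferential.mapBaseChange ℤ k A w ∈ p • (⊤ : Submodule A Ω[A⁄ℤ])) :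
    w ∈ p • (⊤ : Submodule A (A ⊗[k] Ω[k⁄ℤ])) := by
  classical
  let b := Module.Free.chooseBasis k Ω[k⁄ℤ]
  have hne : (maximalIdeal A).map (Ideal.Quotient.mk p) ≠ ⊤ := by
    intro htop
    have h1 := congrArg (Ideal.comap (Ideal.Quotient.mk p)) htop
    rw [Ideal.comap_map_of_surjective _ Ideal.Quotient.mk_surjective, Ideal.comap_top,
      ← RingHom.ker_eq_comap_bot, Ideal.mk_ker,
      sup_eq_left.mpr (IsLocalRing.le_maximalIdeal (Ideal.IsPrime.ne_top inferInstance))] at h1
    exact (maximalIdeal.isMaximal A).ne_top h1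
  have hK : (⨅ n : ℕ, ((maximalIdeal A).map (Ideal.Quotient.mk p)) ^ n) = ⊥ :=
    Ideal.iInf_pow_eq_bot_of_isDomain _ hne
  have hcoord : ∀ i, (Algebra.TensorProduct.basis A b).repr w i ∈ p := by
    intro i
    have hmem : Ideal.Quotient.mk p ((Algebra.TensorProduct.basis A b).repr w i) ∈
        (⨅ n : ℕ, ((maximalIdeal A).map (Ideal.Quotient.mk p)) ^ n) := by
      rw [Ideal.mem_iInf]
      intro n
      have hn := coord_mem h p (p ⊔ maximalIdeal A ^ n) le_sup_left ⟨n, le_sup_right⟩ b i w hw
      obtain ⟨y, hy, z, hz, hyz⟩ := Submodule.mem_sup.mp hn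
      rw [← hyz, map_add, Ideal.Quotient.eq_zero_iff_mem.mpr hy, zero_add, ← Ideal.map_pow]
      exact Ideal.mem_map_of_mem _ hz
    rw [hK, Ideal.mem_bot] at hmem
    exact Ideal.Quotient.eq_zero_iff_mem.mp hmem
  have hsum : w = ((Algebra.TensorProduct.basis A b).repr w).sum
      fun i a => a • (Algebra.TensorProduct.basis A b) i := by
    rw [← Finsupp.linearCombination_apply, Basis.linearCombination_repr]
  rw [hsum, Finsupp.sum]
  apply Submodule.sum_mem
  intro i _
  exact Submodule.smul_mem_smul (hcoord i) Submodule.mem_top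

/-- Injectivity of `f ⊗ R/I` from reflection of `I`-multiples. -/
theorem lTensor_quot_injective {R : Type*} [CommRing R] {M N : Type*} [AddCommGroup M] [Module R M]
    [AddCommGroup N] [Module R N] (I : Ideal R) (f : M →ₗ[R] N)
    (hf : ∀ w, f w ∈ I • (⊤ : Submodule R N) → w ∈ I • (⊤ : Submodule R M)) :
    Function.Injective (f.lTensor (R ⧸ I)) := by
  rw [injective_iff_map_eq_zero]
  intro z hz
  obtain ⟨w, hw⟩ := Submodule.Quotient.mk_surjective _
    (TensorProduct.quotTensorEquivQuotSMul M I z)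
  have hz' : z = (1 : R ⧸ I) ⊗ₜ[R] w := by
    rw [← TensorProduct.quotTensorEquivQuotSMul_symm_mk I w, hw, LinearEquiv.symm_apply_apply]
  rw [hz', LinearMap.lTensor_tmul] at hz
  have h2 := congrArg (TensorProduct.quotTensorEquivQuotSMul N I) hz
  rw [TensorProduct.quotTensorEquivQuotSMul_mk_one_tmul, map_zero,
    Submodule.Quotient.mk_eq_zero] at h2
  have h3 := hf w h2
  rw [hz', ← TensorProduct.quotTensorEquivQuotSMul_symm_mk I w,
    (Submodule.Quotient.mk_eq_zero _).mpr h3, map_zero]

/-- Injectivity of `f ⊗ B` passes to `f ⊗ L` for a flat `B`-algebra `L`. -/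
theorem lTensor_injective_of_flat {R B L X Y : Type*} [CommRing R] [CommRing B] [CommRing L]
    [Algebra R B] [Algebra B L] [Algebra R L] [IsScalarTower R B L] [Module.Flat B L]
    [AddCommGroup X] [Module R X] [AddCommGroup Y] [Module R Y] (f : X →ₗ[R] Y)
    (hf : Function.Injective (f.lTensor B)) : Function.Injective (f.lTensor L) := by
  have h1 : Function.Injective (f.baseChange B) := hf
  have h2 : Function.Injective ((f.baseChange B).lTensor L) :=
    Module.Flat.lTensor_preserves_injective_linearMap (M := L) (f.baseChange B) h1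
  have hsq : ∀ z, TensorProduct.AlgebraTensorModule.cancelBaseChange R B L L Y
      ((f.baseChange B).lTensor L z) =
      f.lTensor L (TensorProduct.AlgebraTensorModule.cancelBaseChange R B L L X z) := by
    intro z
    induction z using TensorProduct.induction_on with
    | zero => simp
    | tmul l y =>
      induction y using TensorProduct.induction_on with
      | zero => simp
      | tmul b x =>
        rw [LinearMap.lTensor_tmul, LinearMap.baseChange_tmul,
          TensorProduct.AlgebraTensorModule.cancelBaseChange_tmul,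
          TensorProduct.AlgebraTensorModule.cancelBaseChange_tmul, LinearMap.lTensor_tmul]
      | add y y' hy hy' =>
        rw [TensorProduct.tmul_add, map_add, map_add, map_add, map_add, hy, hy']
    | add z z' hz hz' => rw [map_add, map_add, map_add, map_add, hz, hz']
  intro a a' haa
  have h3 : (TensorProduct.AlgebraTensorModule.cancelBaseChange R B L L X).symm a =
      (TensorProduct.AlgebraTensorModule.cancelBaseChange R B L L X).symm a' := by
    apply h2
    apply (TensorProduct.AlgebraTensorModule.cancelBaseChange R B L L Y).injective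
    rw [hsq, hsq, LinearEquiv.apply_symm_apply, LinearEquiv.apply_symm_apply, haa]
  exact (TensorProduct.AlgebraTensorModule.cancelBaseChange R B L L X).symm.injective h3

/-- `Ω_k ⊗ κ(p) → Ω_A ⊗_A κ(p)` is injective for every prime `p` of an adically formally smooth
Noetherian local `k`-algebra `A`. -/
theorem inj_top {k A : Type u} [Field k] [CommRing A] [IsLocalRing A] [IsNoetherianRing A]
    [Algebra k A] (h : CAlgX.IsAdicFormallySmooth k A (maximalIdeal A)) (p : Ideal A) [p.IsPrime] :
    Function.Injective ((KaehlerDifferential.mapBaseChange ℤ k A).lTensor p.ResidueField) := by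
  haveI : Module.Flat (A ⧸ p) p.ResidueField :=
    IsLocalization.flat p.ResidueField (nonZeroDivisors (A ⧸ p))
  exact lTensor_injective_of_flat (R := A) (B := A ⧸ p) (L := p.ResidueField) _
    (lTensor_quot_injective p _ (fun w hw => mem_smul_of_map_mem h p w hw))

/-- Injectivity of `Ω_k ⊗ L → Ω_A ⊗ L` for a field `L` lets derivations `k → L` extend to `A`. -/
theorem ext_of_inj {k A L : Type u} [Field k] [CommRing A] [Algebra k A] [Field L] [Algebra A L]
    [Algebra k L] [IsScalarTower k A L]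
    (hT : Function.Injective ((KaehlerDifferential.mapBaseChange ℤ k A).lTensor L))
    (δ : Derivation ℤ k L) :
    ∃ D : Derivation ℤ A L, ∀ x, D (algebraMap k A x) = δ x := by
  let l : Ω[k⁄ℤ] →ₗ[k] L := δ.liftKaehlerDifferential
  let g : A ⊗[k] Ω[k⁄ℤ] →ₗ[A] L := LinearMap.liftBaseChange A l
  let f' : L ⊗[A] (A ⊗[k] Ω[k⁄ℤ]) →ₗ[L] L ⊗[A] Ω[A⁄ℤ] :=
    (KaehlerDifferential.mapBaseChange ℤ k A).baseChange L
  have hf' : Function.Injective f' := hT
  obtain ⟨r, hr⟩ := f'.exists_leftInverse_of_injective (LinearMap.ker_eq_bot.mpr hf')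
  let gb : L ⊗[A] (A ⊗[k] Ω[k⁄ℤ]) →ₗ[L] L := LinearMap.liftBaseChange L g
  let hh : Ω[A⁄ℤ] →ₗ[A] L :=
    ((gb ∘ₗ r).restrictScalars A) ∘ₗ (TensorProduct.mk A L Ω[A⁄ℤ] 1)
  refine ⟨hh.compDer (KaehlerDifferential.D ℤ A), fun x => ?_⟩
  show gb (r ((1 : L) ⊗ₜ[A] KaehlerDifferential.D ℤ A (algebraMap k A x))) = δ x
  have e1 : (1 : L) ⊗ₜ[A] KaehlerDifferential.D ℤ A (algebraMap k A x) =
      f' ((1 : L) ⊗ₜ[A] ((1 : A) ⊗ₜ[k] KaehlerDifferential.D ℤ k x)) := by
    show _ = (KaehlerDifferential.mapBaseChange ℤ k A).baseChange L _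
    rw [LinearMap.baseChange_tmul, KaehlerDifferential.mapBaseChange_tmul, one_smul,
      KaehlerDifferential.map_D]
  rw [e1]
  have e2 := LinearMap.congr_fun hr
    ((1 : L) ⊗ₜ[A] ((1 : A) ⊗ₜ[k] KaehlerDifferential.D ℤ k x))
  rw [LinearMap.comp_apply, LinearMap.id_apply] at e2
  rw [e2]
  show LinearMap.liftBaseChange L g _ = δ x
  rw [LinearMap.liftBaseChange_tmul, one_smul]
  show LinearMap.liftBaseChange A l _ = δ x
  rw [LinearMap.liftBaseChange_tmul, one_smul]
  exact Derivation.liftKaehlerDifferential_comp_D δ x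

/-- Derivations `A → L` extend to the localization `S = A_p` when `L` is an `S`-module. -/
theorem ext_loc {A S : Type u} [CommRing A] [CommRing S] [Algebra A S] (p : Ideal A) [p.IsPrime]
    [IsLocalization.AtPrime S p] {L : Type u} [AddCommGroup L] [Module A L] [Module S L]
    [IsScalarTower A S L] (D : Derivation ℤ A L) :
    ∃ D' : Derivation ℤ S L, ∀ a, D' (algebraMap A S a) = D a := by
  let u : Ω[A⁄ℤ] →ₗ[A] L := D.liftKaehlerDifferential
  have hunit : ∀ x : p.primeCompl, IsUnit ((algebraMap A (Module.End A L)) x) := by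
    intro x
    obtain ⟨v, hv⟩ := IsLocalization.map_units S x
    have hfun : ∀ z : L, (algebraMap A (Module.End A L) x) z = (v : S) • z := fun z => by
      rw [Module.algebraMap_end_apply, hv, algebraMap_smul]
    rw [Module.End.isUnit_iff]
    constructor
    · intro z z' hzz
      rw [hfun, hfun] at hzz
      have := congrArg (fun t => ((v⁻¹ : Sˣ) : S) • t) hzz
      simpa [smul_smul] using this
    · intro z
      exact ⟨((v⁻¹ : Sˣ) : S) • z, by rw [hfun, smul_smul, Units.mul_inv, one_smul]⟩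
  let v : Ω[S⁄ℤ] →ₗ[A] L :=
    IsLocalizedModule.lift p.primeCompl (KaehlerDifferential.map ℤ ℤ A S) u hunit
  let v' : Ω[S⁄ℤ] →ₗ[S] L := v.extendScalarsOfIsLocalization p.primeCompl S
  refine ⟨v'.compDer (KaehlerDifferential.D ℤ S), fun a => ?_⟩
  have hmap : KaehlerDifferential.D ℤ S (algebraMap A S a) =
      KaehlerDifferential.map ℤ ℤ A S (KaehlerDifferential.D ℤ A a) :=
    (KaehlerDifferential.map_D ℤ ℤ A S a).symm
  show v (KaehlerDifferential.D ℤ S (algebraMap A S a)) = D a
  rw [hmap]
  show IsLocalizedModule.lift p.primeCompl (KaehlerDifferential.map ℤ ℤ A S) u hunit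
    (KaehlerDifferential.map ℤ ℤ A S (KaehlerDifferential.D ℤ A a)) = D a
  rw [IsLocalizedModule.lift_apply]
  exact Derivation.liftKaehlerDifferential_comp_D D a

/-- If derivations of `k` into the residue field extend to `S`, then `Ω_k ⊗ K → Ω_S ⊗ K` is
injective. -/
theorem inj_of_ext {k S : Type u} [Field k] [CommRing S] [IsLocalRing S] [Algebra k S]
    (hext : ∀ δ : Derivation ℤ k (ResidueField S), ∃ Dd : Derivation ℤ S (ResidueField S),
      ∀ x, Dd (algebraMap k S x) = δ x) :
    Function.Injective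
      ((KaehlerDifferential.mapBaseChange ℤ k S).lTensor (ResidueField S)) := by
  rw [injective_iff_map_eq_zero]
  intro z hz
  refine (Module.forall_dual_apply_eq_zero_iff (ResidueField S) z).mp (fun φ => ?_)
  let e : ResidueField S ⊗[S] (S ⊗[k] Ω[k⁄ℤ]) ≃ₗ[ResidueField S] ResidueField S ⊗[k] Ω[k⁄ℤ] :=
    TensorProduct.AlgebraTensorModule.cancelBaseChange k S (ResidueField S) (ResidueField S)
      Ω[k⁄ℤ]
  let φ₁ : ResidueField S ⊗[k] Ω[k⁄ℤ] →ₗ[ResidueField S] ResidueField S :=
    φ ∘ₗ e.symm.toLinearMap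
  let l₀ : Ω[k⁄ℤ] →ₗ[k] ResidueField S :=
    (φ₁.restrictScalars k) ∘ₗ (TensorProduct.mk k (ResidueField S) Ω[k⁄ℤ] 1)
  let δ : Derivation ℤ k (ResidueField S) := l₀.compDer (KaehlerDifferential.D ℤ k)
  have hδ : ∀ x, δ x = φ₁ ((1 : ResidueField S) ⊗ₜ[k] KaehlerDifferential.D ℤ k x) :=
    fun x => rfl
  obtain ⟨Dd, hDd⟩ := hext δ
  let lD : Ω[S⁄ℤ] →ₗ[S] ResidueField S := Dd.liftKaehlerDifferential
  let φ' : ResidueField S ⊗[S] Ω[S⁄ℤ] →ₗ[ResidueField S] ResidueField S :=
    LinearMap.liftBaseChange (ResidueField S) lD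
  let f' : ResidueField S ⊗[S] (S ⊗[k] Ω[k⁄ℤ]) →ₗ[ResidueField S]
      ResidueField S ⊗[S] Ω[S⁄ℤ] :=
    (KaehlerDifferential.mapBaseChange ℤ k S).baseChange (ResidueField S)
  have key : φ₁ = (φ' ∘ₗ f') ∘ₗ e.symm.toLinearMap := by
    apply TensorProduct.AlgebraTensorModule.curry_injective
    apply LinearMap.ext_ring
    apply Derivation.liftKaehlerDifferential_unique
    ext x
    show φ₁ ((1 : ResidueField S) ⊗ₜ[k] KaehlerDifferential.D ℤ k x) =
      φ' (f' (e.symm ((1 : ResidueField S) ⊗ₜ[k] KaehlerDifferential.D ℤ k x)))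
    have e1 : e.symm ((1 : ResidueField S) ⊗ₜ[k] KaehlerDifferential.D ℤ k x) =
        (1 : ResidueField S) ⊗ₜ[S] ((1 : S) ⊗ₜ[k] KaehlerDifferential.D ℤ k x) :=
      TensorProduct.AlgebraTensorModule.cancelBaseChange_symm_tmul k S (ResidueField S) _ _
    rw [e1]
    have e2 : f' ((1 : ResidueField S) ⊗ₜ[S] ((1 : S) ⊗ₜ[k] KaehlerDifferential.D ℤ k x)) =
        (1 : ResidueField S) ⊗ₜ[S] KaehlerDifferential.D ℤ S (algebraMap k S x) := by
      show (KaehlerDifferential.mapBaseChange ℤ k S).baseChange (ResidueField S) _ = _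
      rw [LinearMap.baseChange_tmul, KaehlerDifferential.mapBaseChange_tmul, one_smul,
        KaehlerDifferential.map_D]
    rw [e2]
    show _ = LinearMap.liftBaseChange (ResidueField S) lD _
    rw [LinearMap.liftBaseChange_tmul, one_smul]
    show _ = Dd.liftKaehlerDifferential _
    rw [Derivation.liftKaehlerDifferential_comp_D, hDd, hδ]
  have h3 : φ z = φ₁ (e z) := by
    show φ z = φ (e.symm (e z))
    rw [LinearEquiv.symm_apply_apply]
  rw [h3, key]
  show φ' (f' (e.symm (e z))) = 0
  rw [LinearEquiv.symm_apply_apply]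
  have h4 : f' z = 0 := hz
  rw [h4, map_zero]

/-- **EGA 0_IV 22.5.8**: localizations of an adically formally smooth Noetherian local algebra over a
field are adically formally smooth. -/
theorem main {k A : Type u} [Field k] [CommRing A] [IsLocalRing A] [IsNoetherianRing A]
    [Algebra k A] (h : CAlgX.IsAdicFormallySmooth k A (maximalIdeal A)) (p : Ideal A) [p.IsPrime] :
    CAlgX.IsAdicFormallySmooth k (Localization.AtPrime p)
      (maximalIdeal (Localization.AtPrime p)) := by
  have hreg : IsRegularLocalRing A := (Groth.Agent.S2471.result.mp h).1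
  haveI := hreg
  haveI : IsRegularLocalRing (Localization.AtPrime p) :=
    Groth.Agent.H29.isRegularLocalRing_localization_atPrime A p
  haveI : IsNoetherianRing (Localization.AtPrime p) :=
    IsLocalization.isNoetherianRing p.primeCompl _ inferInstance
  haveI : IsScalarTower k A (ResidueField (Localization.AtPrime p)) :=
    IsScalarTower.of_algebraMap_eq (fun x => by
      rw [IsScalarTower.algebraMap_apply k (Localization.AtPrime p)
          (ResidueField (Localization.AtPrime p)),
        IsScalarTower.algebraMap_apply k A (Localization.AtPrime p),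
        ← IsScalarTower.algebraMap_apply A (Localization.AtPrime p)
          (ResidueField (Localization.AtPrime p))])
  rw [Groth.Agent.S2471.result]
  refine ⟨inferInstance, ?_⟩
  apply inj_of_ext
  intro δ
  obtain ⟨D, hD⟩ := ext_of_inj (A := A) (L := ResidueField (Localization.AtPrime p))
    (inj_top h p) δ
  obtain ⟨D', hD'⟩ := ext_loc (S := Localization.AtPrime p) p D
  refine ⟨D', fun x => ?_⟩
  rw [IsScalarTower.algebraMap_apply k A (Localization.AtPrime p), hD', hD]

end Groth.Agent.H27.LocSmooth
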