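import Mathlib.RingTheory.Norm.Defs
import Mathlib.RingTheory.Norm.Basic
import Mathlib.RingTheory.AdjoinRoot
import Mathlib.LinearAlgebra.Charpoly.Basic
import Mathlib.LinearAlgebra.Charpoly.ToMatrix
import Mathlib.LinearAlgebra.Matrix.Charpoly.Coeff
import Mathlib.LinearAlgebra.Matrix.Charpoly.Minpoly
import Mathlib.RingTheory.Polynomial.Resultant.Basic
import Mathlib.Tactic

/-!
# Norm from `k[T]/(χ_u)` equals `det P(u)`
-/

namespace Groth.Agent.H27.NormDet

open Polynomial

universe u

section
variable {R : Type*} [CommRing R]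

/-- matrix of multiplication by `mk g P` in the power basis -/
noncomputable def mulMat (g P : R[X]) (n : ℕ) : Matrix (Fin n) (Fin n) R :=
  Matrix.of fun i j => ((P * X ^ (j : ℕ)) %ₘ g).coeff i

theorem norm_mk_eq (g : R[X]) (hg : g.Monic) (n : ℕ) (hn : g.natDegree = n) (P : R[X]) :
    Algebra.norm R (AdjoinRoot.mk g P) = (mulMat g P n).det := by
  subst hn
  rw [Algebra.norm_eq_matrix_det (AdjoinRoot.powerBasisAux' hg)]
  congr 1
  ext i j
  rw [Algebra.leftMulMatrix_eq_repr_mul, AdjoinRoot.powerBasisAux'_repr_apply_to_fun]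
  have hb : (AdjoinRoot.powerBasisAux' hg) j = AdjoinRoot.mk g (X ^ (j : ℕ)) := by
    rw [map_pow, AdjoinRoot.mk_X]
    exact (AdjoinRoot.powerBasis' hg).basis_eq_pow j
  rw [hb, ← map_mul, AdjoinRoot.modByMonicHom_mk]
  rfl

theorem mulMat_map {S : Type*} [CommRing S] (φ : R →+* S) (g P : R[X]) (hg : g.Monic) (n : ℕ) :
    mulMat (g.map φ) (P.map φ) n = (mulMat g P n).map φ := by
  ext i j
  simp only [mulMat, Matrix.of_apply, Matrix.map_apply]
  rw [← Polynomial.coeff_map, Polynomial.map_modByMonic φ hg, Polynomial.map_mul,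
    Polynomial.map_pow, Polynomial.map_X]

theorem aeval_map_map {S : Type*} [CommRing S] (φ : R →+* S) {n : ℕ}
    (A : Matrix (Fin n) (Fin n) R) (P : R[X]) :
    aeval (A.map φ) (P.map φ) = φ.mapMatrix (aeval A P) := by
  induction P using Polynomial.induction_on' with
  | add p q hp hq => simp only [Polynomial.map_add, map_add, hp, hq]
  | monomial k a =>
    rw [Polynomial.map_monomial, aeval_monomial, aeval_monomial, map_mul, map_pow]
    congr 1
    ext i j
    simp only [Matrix.algebraMap_matrix_apply, RingHom.mapMatrix_apply, Matrix.map_apply]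
    split_ifs <;> simp

theorem nat_lhs {S : Type*} [CommRing S] (φ : R →+* S) {n : ℕ}
    (A : Matrix (Fin n) (Fin n) R) (P : R[X]) :
    φ (mulMat A.charpoly P n).det = (mulMat (A.map φ).charpoly (P.map φ) n).det := by
  rw [RingHom.map_det, RingHom.mapMatrix_apply, ← mulMat_map φ _ _ (Matrix.charpoly_monic A),
    Matrix.charpoly_map]

theorem nat_rhs {S : Type*} [CommRing S] (φ : R →+* S) {n : ℕ}
    (A : Matrix (Fin n) (Fin n) R) (P : R[X]) :
    φ (aeval A P).det = (aeval (A.map φ) (P.map φ)).det := by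
  rw [RingHom.map_det, aeval_map_map]

theorem det_sub_algebraMap {ι : Type*} [Fintype ι] [DecidableEq ι] (M : Matrix ι ι R) (a : R) :
    (M - algebraMap R (Matrix ι ι R) a).det = (-1) ^ Fintype.card ι * M.charpoly.eval a := by
  rw [Matrix.eval_charpoly, ← Matrix.det_neg, neg_sub]
  congr 2

end

/-- the predicate -/
def Good {R : Type u} [CommRing R] (P : R[X]) : Prop :=
  ∀ (n : ℕ) (A : Matrix (Fin n) (Fin n) R), (mulMat A.charpoly P n).det = (aeval A P).det

theorem good_of_splits (K : Type u) [Field K] (P : K[X]) (hP : P.Splits) : Good P := by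
  intro n A
  have hχ : A.charpoly.Monic := Matrix.charpoly_monic A
  have hn : A.charpoly.natDegree = n := by
    rw [Matrix.charpoly_natDegree_eq_dim, Fintype.card_fin]
  rw [← norm_mk_eq _ hχ n hn]
  let F₁ : K[X] →* K := (Algebra.norm K).comp (AdjoinRoot.mk A.charpoly).toMonoidHom
  let F₂ : K[X] →* K := (Matrix.detMonoidHom).comp (Polynomial.aeval A).toRingHom.toMonoidHom
  change F₁ P = F₂ P
  obtain ⟨c, m, hm⟩ : ∃ c m, P = C c * (Multiset.map (fun a => X - C a) m).prod :=
    ⟨_, _, hP.eq_prod_roots⟩
  subst hm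
  rw [map_mul, map_mul, map_multiset_prod, map_multiset_prod, Multiset.map_map, Multiset.map_map]
  congr 1
  · show Algebra.norm K (AdjoinRoot.mk A.charpoly (C c)) = (aeval A (C c)).det
    have h1 : AdjoinRoot.mk A.charpoly (C c) = algebraMap K _ c := rfl
    rw [h1, Algebra.norm_algebraMap_of_basis (AdjoinRoot.powerBasisAux' hχ), Fintype.card_fin, hn,
      aeval_C, Algebra.algebraMap_eq_smul_one, Matrix.det_smul, Matrix.det_one, mul_one,
      Fintype.card_fin]
  · congr 1
    apply Multiset.map_congr rfl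
    intro a _
    show Algebra.norm K (AdjoinRoot.mk A.charpoly (X - C a)) = (aeval A (X - C a)).det
    set pb := AdjoinRoot.powerBasis' hχ with hpb
    have h1 : AdjoinRoot.mk A.charpoly (X - C a) = pb.gen - algebraMap K _ a := by
      rw [map_sub, AdjoinRoot.mk_X, AdjoinRoot.mk_C]; rfl
    have h2 : aeval A (X - C a) = A - algebraMap K _ a := by simp
    have h3 : minpoly K pb.gen = A.charpoly := by
      show minpoly K (AdjoinRoot.root A.charpoly) = _
      rw [AdjoinRoot.minpoly_root hχ.ne_zero, hχ.leadingCoeff, inv_one, C_1, mul_one]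
    have h4 : pb.dim = n := hn
    rw [Algebra.norm_eq_matrix_det pb.basis, h1, map_sub, AlgHom.commutes, det_sub_algebraMap,
      charpoly_leftMulMatrix pb, h3, h2, det_sub_algebraMap, Fintype.card_fin, Fintype.card_fin, h4]

theorem good_all {R : Type u} [CommRing R] (P : R[X]) : Good P := by
  refine Polynomial.induction_of_Splits_of_injective_of_surjective P (P := @Good)
    good_of_splits ?_ ?_
  · intro R S _ _ φ hφ P IH n A
    apply hφ
    rw [nat_lhs, nat_rhs, IH n (A.map φ)]
  · intro R S _ _ φ hφ P IH n A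
    obtain ⟨q, rfl⟩ := Polynomial.map_surjective φ hφ P
    choose f hf using hφ
    have hA : (A.map f).map φ = A := by
      ext i j; simp [hf]
    rw [← hA, ← nat_lhs, ← nat_rhs, IH q n (A.map f)]

theorem norm_eq_det (k : Type u) [CommRing k] (M : Type u) [AddCommGroup M] [Module k M]
    [Module.Free k M] [Module.Finite k M] (u : M →ₗ[k] M) (P : Polynomial k) :
    Algebra.norm k (AdjoinRoot.mk u.charpoly P) = LinearMap.det (Polynomial.aeval u P) := by
  cases subsingleton_or_nontrivial k
  · exact Subsingleton.elim _ _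
  let b := Module.finBasis k M
  let n := Module.finrank k M
  let A := LinearMap.toMatrix b b u
  have key : ∀ g : k[X], g = A.charpoly →
      Algebra.norm k (AdjoinRoot.mk g P) = LinearMap.det (Polynomial.aeval u P) := by
    rintro g rfl
    rw [norm_mk_eq A.charpoly (Matrix.charpoly_monic A) n
      (by rw [Matrix.charpoly_natDegree_eq_dim, Fintype.card_fin]) P, good_all P n A,
      ← LinearMap.det_toMatrix b]
    congr 1
    exact Polynomial.aeval_algHom_apply ((LinearMap.toMatrixAlgEquiv b).toAlgHom) u P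
  exact key _ (LinearMap.charpoly_toMatrix u b).symm

end Groth.Agent.H27.NormDet
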