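import Mathlib
import Groth.Prelude.Def_PLie
import Groth.Agent.H27.AssocJacobson

/-!
# `p`-maps on three-dimensional semidirect products `R x ⋉_D (R y ⊕ R z)`
-/

set_option autoImplicit false

namespace Groth.Agent.H27.PLieSemi

open Groth.Agent.H27.AssocJacobson

universe u v

section Blk

variable {R : Type u} [CommRing R]

/-- The block matrix `[[α D, m], [0, 0]]`. -/
def blk (D : Matrix (Fin 2) (Fin 2) R) (α : R) (m : Matrix (Fin 2) Unit R) :
    Matrix (Fin 2 ⊕ Unit) (Fin 2 ⊕ Unit) R :=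
  Matrix.fromBlocks (α • D) m 0 0

theorem blk_mul (D : Matrix (Fin 2) (Fin 2) R) (α α' : R) (m m' : Matrix (Fin 2) Unit R) :
    blk D α m * blk D α' m' = Matrix.fromBlocks ((α * α') • (D * D)) (α • (D * m')) 0 0 := by
  simp [blk, Matrix.fromBlocks_multiply, smul_smul]
  rw [mul_comm]

theorem blk_pow (D : Matrix (Fin 2) (Fin 2) R) (α : R) (m : Matrix (Fin 2) Unit R) (n : ℕ) :
    (blk D α m) ^ (n + 1) =
      Matrix.fromBlocks (α ^ (n + 1) • D ^ (n + 1)) (α ^ n • (D ^ n * m)) 0 0 := by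
  induction n with
  | zero => simp [blk]
  | succ n ih =>
    rw [pow_succ, ih, blk, Matrix.fromBlocks_multiply]
    congr 1
    · rw [Matrix.mul_zero, add_zero, Matrix.smul_mul, Matrix.mul_smul, smul_smul, ← pow_succ,
        ← pow_succ]
    · rw [Matrix.mul_zero, add_zero, Matrix.smul_mul]
    · simp
    · simp

end Blk

section Main

variable (R : Type u) [CommRing R] {L : Type v} [LieRing L] [LieAlgebra R L]

/-- the `(y, z)`-coordinates as a column -/
noncomputable def Qmap (bs : Module.Basis (Fin 3) R L) : L →ₗ[R] Matrix (Fin 2) Unit R where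
  toFun u := Matrix.of fun i _ => bs.repr u i.succ
  map_add' u w := by ext i j; simp
  map_smul' c u := by ext i j; simp

@[simp] theorem Qmap_apply (bs : Module.Basis (Fin 3) R L) (u : L) (i : Fin 2) (j : Unit) :
    Qmap R bs u i j = bs.repr u i.succ := rfl

/-- the affine representation -/
noncomputable def eMap (bs : Module.Basis (Fin 3) R L) (D : Matrix (Fin 2) (Fin 2) R) :
    L →ₗ[R] Matrix (Fin 2 ⊕ Unit) (Fin 2 ⊕ Unit) R where
  toFun u := blk D (bs.repr u 0) (Qmap R bs u)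
  map_add' u w := by
    simp only [blk, map_add, Finsupp.add_apply, add_smul, Matrix.fromBlocks_add, add_zero]
  map_smul' c u := by
    simp only [blk, map_smul, Finsupp.smul_apply, RingHom.id_apply, Matrix.fromBlocks_smul,
      smul_zero, smul_eq_mul, mul_smul]

theorem eMap_apply (bs : Module.Basis (Fin 3) R L) (D : Matrix (Fin 2) (Fin 2) R) (u : L) :
    eMap R bs D u = blk D (bs.repr u 0) (Qmap R bs u) := rfl

theorem lemmaC (p : ℕ) [hp : Fact p.Prime] [CharP R p]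
    (bs : Module.Basis (Fin 3) R L) (D : Matrix (Fin 2) (Fin 2) R) (s : R)
    (hD : D ^ p = s • D) (hinj : ∀ r : R, r • D = 0 → r = 0)
    (hxy : ⁅bs 0, bs 1⁆ = D 0 0 • bs 1 + D 1 0 • bs 2)
    (hxz : ⁅bs 0, bs 2⁆ = D 0 1 • bs 1 + D 1 1 • bs 2) (hyz : ⁅bs 1, bs 2⁆ = 0) :
    ∃ φ : PLie.PMap R p L, φ (bs 0) = s • bs 0 ∧ φ (bs 1) = 0 ∧ φ (bs 2) = 0 := by
  classical
  have hexp : ∀ u : L, u = bs.repr u 0 • bs 0 + bs.repr u 1 • bs 1 + bs.repr u 2 • bs 2 := by
    intro u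
    conv_lhs => rw [← bs.sum_repr u]
    rw [Fin.sum_univ_three]
  have hrep : ∀ (a0 a1 a2 : R),
      bs.repr (a0 • bs 0 + a1 • bs 1 + a2 • bs 2) 0 = a0 ∧
      bs.repr (a0 • bs 0 + a1 • bs 1 + a2 • bs 2) 1 = a1 ∧
      bs.repr (a0 • bs 0 + a1 • bs 1 + a2 • bs 2) 2 = a2 := by
    intro a0 a1 a2
    simp [Finsupp.single_apply]
  have hyx : ⁅bs 1, bs 0⁆ = -(D 0 0 • bs 1 + D 1 0 • bs 2) := by
    rw [← hxy]; exact (lie_skew (bs 1) (bs 0)).symm
  have hzx : ⁅bs 2, bs 0⁆ = -(D 0 1 • bs 1 + D 1 1 • bs 2) := by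
    rw [← hxz]; exact (lie_skew (bs 2) (bs 0)).symm
  have hzy : ⁅bs 2, bs 1⁆ = 0 := by
    rw [← lie_skew, hyz, neg_zero]
  have hbrk : ∀ (a0 a1 a2 b0 b1 b2 : R),
      ⁅a0 • bs 0 + a1 • bs 1 + a2 • bs 2, b0 • bs 0 + b1 • bs 1 + b2 • bs 2⁆ =
        ((a0 * b1 - a1 * b0) * D 0 0 + (a0 * b2 - a2 * b0) * D 0 1) • bs 1 +
        ((a0 * b1 - a1 * b0) * D 1 0 + (a0 * b2 - a2 * b0) * D 1 1) • bs 2 := by
    intro a0 a1 a2 b0 b1 b2
    simp only [add_lie, lie_add, smul_lie, lie_smul, lie_self, hxy, hxz, hyz, hyx, hzx, hzy,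
      smul_zero, add_zero, zero_add, smul_neg, smul_add, smul_smul]
    module
  have hbrk' : ∀ u w : L, ⁅u, w⁆ =
      ((bs.repr u 0 * bs.repr w 1 - bs.repr u 1 * bs.repr w 0) * D 0 0 +
        (bs.repr u 0 * bs.repr w 2 - bs.repr u 2 * bs.repr w 0) * D 0 1) • bs 1 +
      ((bs.repr u 0 * bs.repr w 1 - bs.repr u 1 * bs.repr w 0) * D 1 0 +
        (bs.repr u 0 * bs.repr w 2 - bs.repr u 2 * bs.repr w 0) * D 1 1) • bs 2 := by
    intro u w
    have h := hbrk (bs.repr u 0) (bs.repr u 1) (bs.repr u 2) (bs.repr w 0) (bs.repr w 1)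
      (bs.repr w 2)
    rw [← hexp u, ← hexp w] at h
    exact h
  have hP0 : ∀ u w : L, bs.repr ⁅u, w⁆ 0 = 0 := by
    intro u w
    rw [hbrk' u w]
    simp [Finsupp.single_apply]
  have hQbr : ∀ u w : L, Qmap R bs ⁅u, w⁆ =
      bs.repr u 0 • (D * Qmap R bs w) - bs.repr w 0 • (D * Qmap R bs u) := by
    intro u w
    rw [hbrk' u w]
    ext i ⟨⟩
    fin_cases i <;>
      simp [Matrix.mul_apply, Fin.sum_univ_two, Finsupp.single_apply] <;> ring
  have hbr : ∀ u w : L, eMap R bs D ⁅u, w⁆ =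
      eMap R bs D u * eMap R bs D w - eMap R bs D w * eMap R bs D u := by
    intro u w
    rw [eMap_apply, eMap_apply, eMap_apply, blk_mul, blk_mul, sub_eq_add_neg, Matrix.fromBlocks_neg,
      Matrix.fromBlocks_add, hP0, hQbr, blk, zero_smul]
    congr 1
    · rw [mul_comm (bs.repr w 0), add_neg_cancel]
    · rw [sub_eq_add_neg]
    · simp
    · simp
  have he_inj : Function.Injective (eMap R bs D) := by
    rw [injective_iff_map_eq_zero]
    intro u hu
    rw [eMap_apply, blk] at hu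
    have hu' := hu.trans (Matrix.fromBlocks_zero (l := Fin 2) (m := Unit) (n := Fin 2) (o := Unit)
      (α := R)).symm
    rw [Matrix.fromBlocks_inj] at hu'
    obtain ⟨h1, h2, -, -⟩ := hu'
    have ha0 : bs.repr u 0 = 0 := hinj _ h1
    have ha1 : bs.repr u 1 = 0 := by
      have := congrFun (congrFun h2 0) ()
      simpa using this
    have ha2 : bs.repr u 2 = 0 := by
      have := congrFun (congrFun h2 1) ()
      simpa using this
    rw [hexp u, ha0, ha1, ha2]; simp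
  obtain ⟨q, hq⟩ : ∃ q, p = q + 1 := ⟨p - 1, (Nat.sub_add_cancel hp.out.one_le).symm⟩
  have hq1 : q ≠ 0 := by have := hp.out.two_le; omega
  obtain ⟨ψ, hψdef⟩ : ∃ ψ : L → L, ∀ u, ψ u = (s * (bs.repr u 0) ^ p) • bs 0 +
      ((bs.repr u 0) ^ q • (D ^ q * Qmap R bs u)) 0 () • bs 1 +
      ((bs.repr u 0) ^ q • (D ^ q * Qmap R bs u)) 1 () • bs 2 := ⟨fun u => _, fun u => rfl⟩
  have hψ : ∀ u, eMap R bs D (ψ u) = eMap R bs D u ^ p := by
    intro u
    have h1 : (blk D (bs.repr u 0) (Qmap R bs u)) ^ p =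
        Matrix.fromBlocks ((bs.repr u 0) ^ p • D ^ p)
          ((bs.repr u 0) ^ q • (D ^ q * Qmap R bs u)) 0 0 := by
      rw [hq]; exact blk_pow D _ _ q
    obtain ⟨h0, h1', h2'⟩ := hrep (s * (bs.repr u 0) ^ p)
      (((bs.repr u 0) ^ q • (D ^ q * Qmap R bs u)) 0 ())
      (((bs.repr u 0) ^ q • (D ^ q * Qmap R bs u)) 1 ())
    have hQψ : Qmap R bs (ψ u) = (bs.repr u 0) ^ q • (D ^ q * Qmap R bs u) := by
      ext i ⟨⟩
      revert i
      rw [Fin.forall_fin_two]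
      constructor
      · show bs.repr (ψ u) 1 = _
        rw [hψdef u]; exact h1'
      · show bs.repr (ψ u) 2 = _
        rw [hψdef u]; exact h2'
    rw [eMap_apply, eMap_apply, h1, hD, hQψ, hψdef u, h0, blk, smul_smul, mul_comm]
  obtain ⟨φ, hφ⟩ := pmap_of_embedding R p (eMap R bs D) he_inj hbr ψ hψ
  have hQ0 : Qmap R bs (bs 0) = 0 := by
    ext i ⟨⟩; simp [Finsupp.single_apply, Fin.succ_ne_zero]
  refine ⟨φ, ?_, ?_, ?_⟩
  · rw [hφ, hψdef, hQ0]; simp
  · rw [hφ, hψdef]; simp [Finsupp.single_apply, hp.out.ne_zero, hq1]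
  · rw [hφ, hψdef]; simp [Finsupp.single_apply, hp.out.ne_zero, hq1]

end Main

end Groth.Agent.H27.PLieSemi
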