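import Mathlib
import Groth.Agent.H15.PSEval
import Groth.Agent.Lib.Helper8.TwoIdealComplete

/-!
# Power series maps into complete rings; square-zero extensions of complete Noetherian rings
-/

namespace Groth.Agent.H27.PSLift

open MvPowerSeries

theorem exists_ps_hom_gen {σ K R : Type*} [Finite σ] [CommRing K] [CommRing R] (I : Ideal R)
    [IsAdicComplete I R] (φ : K →+* R) (x : σ → R) (hx : ∀ i, x i ∈ I) :
    ∃ u : MvPowerSeries σ K →+* R, (∀ a, u (MvPowerSeries.C a) = φ a) ∧
      ∀ i, u (MvPowerSeries.X i) = x i := by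
  classical
  have hN : ∀ n, (Ideal.span (Set.range fun i => Ideal.Quotient.mk (I ^ n) (x i))) ^ n = ⊥ := by
    intro n
    rw [eq_bot_iff]
    have h1 : Ideal.span (Set.range fun i => Ideal.Quotient.mk (I ^ n) (x i)) ≤
        I.map (Ideal.Quotient.mk (I ^ n)) := by
      rw [Ideal.span_le]
      rintro _ ⟨i, rfl⟩
      exact Ideal.mem_map_of_mem _ (hx i)
    refine (Ideal.pow_right_mono h1 n).trans ?_
    rw [← Ideal.map_pow, Ideal.map_quotient_self]
  choose f hfC hfX using fun n => Groth.Agent.H15.PSEval.exists_eval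
    ((Ideal.Quotient.mk (I ^ n)).comp φ) (fun i => Ideal.Quotient.mk (I ^ n) (x i)) n (hN n)
  have hcompat : ∀ {m n : ℕ} (hle : m ≤ n),
      (Ideal.Quotient.factorPow I hle).comp (f n) = f m := by
    intro m n hle
    apply Groth.Agent.H15.PSEval.ringHom_ext_nilp _ _ ?_ ?_ m ?_
    · intro a
      rw [RingHom.comp_apply, hfC, hfC]
      rfl
    · intro i
      rw [RingHom.comp_apply, hfX, hfX]
      rfl
    · have h2 : (fun i => ((Ideal.Quotient.factorPow I hle).comp (f n)) (MvPowerSeries.X i)) =
          fun i => Ideal.Quotient.mk (I ^ m) (x i) := by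
        funext i
        rw [RingHom.comp_apply, hfX]
        rfl
      rw [h2]
      exact hN m
  refine ⟨IsAdicComplete.liftRingHom I f hcompat, ?_, ?_⟩
  · intro a
    rw [← sub_eq_zero]
    apply IsHausdorff.haus' (I := I)
    intro n
    rw [SModEq.sub_mem, sub_zero, smul_eq_mul, Ideal.mul_top, ← Ideal.Quotient.eq,
      IsAdicComplete.mk_liftRingHom, hfC]
    rfl
  · intro i
    rw [← sub_eq_zero]
    apply IsHausdorff.haus' (I := I)
    intro n
    rw [SModEq.sub_mem, sub_zero, smul_eq_mul, Ideal.mul_top, ← Ideal.Quotient.eq,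
      IsAdicComplete.mk_liftRingHom, hfX]

theorem ps_ringHom_ext_complete {σ K A : Type*} [Finite σ] [CommRing K] [CommRing A]
    (I : Ideal A) [IsHausdorff I A] (f g : MvPowerSeries σ K →+* A)
    (hC : ∀ a, f (C a) = g (C a)) (hX : ∀ i, f (X i) = g (X i))
    (hI : ∀ i, f (X i) ∈ I) : f = g := by
  apply RingHom.ext
  intro p
  rw [← sub_eq_zero]
  apply IsHausdorff.haus' (I := I)
  intro n
  rw [SModEq.sub_mem, sub_zero, smul_eq_mul, Ideal.mul_top, ← Ideal.Quotient.eq]
  have h : (Ideal.Quotient.mk (I ^ n)).comp f = (Ideal.Quotient.mk (I ^ n)).comp g := by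
    apply Groth.Agent.H15.PSEval.ringHom_ext_nilp _ _ ?_ ?_ n ?_
    · intro a
      rw [RingHom.comp_apply, RingHom.comp_apply, hC]
    · intro i
      rw [RingHom.comp_apply, RingHom.comp_apply, hX]
    · rw [eq_bot_iff]
      have h1 : Ideal.span (Set.range fun i => ((Ideal.Quotient.mk (I ^ n)).comp f) (X i)) ≤
          I.map (Ideal.Quotient.mk (I ^ n)) := by
        rw [Ideal.span_le]
        rintro _ ⟨i, rfl⟩
        exact Ideal.mem_map_of_mem _ (hI i)
      refine (Ideal.pow_right_mono h1 n).trans ?_
      rw [← Ideal.map_pow, Ideal.map_quotient_self]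
  exact DFunLike.congr_fun h p

lemma isNoetherian_of_surj {E A M : Type*} [CommRing E] [CommRing A] [Algebra E A]
    (hsurj : Function.Surjective (algebraMap E A)) [AddCommGroup M] [Module E M] [Module A M]
    [IsScalarTower E A M] [IsNoetherian A M] : IsNoetherian E M := by
  rw [isNoetherian_def]
  intro s
  let s' : Submodule A M :=
    { carrier := s
      add_mem' := fun ha hb => s.add_mem ha hb
      zero_mem' := s.zero_mem
      smul_mem' := fun a x hx => by
        obtain ⟨e, rfl⟩ := hsurj a
        rw [algebraMap_smul]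
        exact s.smul_mem e hx }
  obtain ⟨G, hG⟩ := (IsNoetherian.noetherian s' : s'.FG)
  refine ⟨G, le_antisymm ?_ ?_⟩
  · rw [Submodule.span_le]
    intro x hx
    have h1 : x ∈ s' := hG ▸ Submodule.subset_span hx
    exact h1
  · intro x hx
    have hx' : x ∈ Submodule.span A (G : Set M) := by
      rw [hG]
      exact hx
    refine Submodule.span_induction (p := fun x _ => x ∈ Submodule.span E (G : Set M))
      ?_ ?_ ?_ ?_ hx'
    · intro y hy
      exact Submodule.subset_span hy
    · exact Submodule.zero_mem _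
    · intro y z _ _ hy hz
      exact Submodule.add_mem _ hy hz
    · intro a y _ hy
      obtain ⟨e, rfl⟩ := hsurj a
      rw [algebraMap_smul]
      exact Submodule.smul_mem _ e hy

theorem isNoetherianRing_of_sqZero {E A : Type*} [CommRing E] [CommRing A] [IsNoetherianRing A]
    (f : E →+* A) (hf : Function.Surjective f) (hsq : RingHom.ker f ^ 2 = ⊥)
    (hfg : (RingHom.ker f).FG) : IsNoetherianRing E := by
  letI : Algebra E A := f.toAlgebra
  have hsurj : Function.Surjective (algebraMap E A) := hf
  haveI : IsNoetherian E A := isNoetherian_of_surj (E := E) (A := A) (M := A) hsurj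
  have htor : Module.IsTorsionBySet E (RingHom.ker f) (RingHom.ker f : Set E) := by
    intro x a
    apply Subtype.ext
    have h1 : (a : E) * (x : E) ∈ RingHom.ker f ^ 2 := by
      rw [pow_two]
      exact Ideal.mul_mem_mul a.2 x.2
    rw [hsq] at h1
    exact h1
  letI : Module (E ⧸ RingHom.ker f) (RingHom.ker f) := htor.module
  haveI : IsScalarTower E (E ⧸ RingHom.ker f) (RingHom.ker f) := htor.isScalarTower
  haveI : IsNoetherianRing (E ⧸ RingHom.ker f) :=
    isNoetherianRing_of_ringEquiv A (RingHom.quotientKerEquivOfSurjective hf).symm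
  haveI : Module.Finite E (RingHom.ker f) := Module.Finite.iff_fg.mpr hfg
  haveI : Module.Finite (E ⧸ RingHom.ker f) (RingHom.ker f) :=
    Module.Finite.of_restrictScalars_finite E _ _
  haveI : IsNoetherian (E ⧸ RingHom.ker f) (RingHom.ker f) :=
    isNoetherian_of_isNoetherianRing_of_finite _ _
  haveI : IsNoetherian E (RingHom.ker f) :=
    isNoetherian_of_surj (E := E) (A := E ⧸ RingHom.ker f) Ideal.Quotient.mk_surjective
  refine isNoetherian_of_range_eq_ker (RingHom.ker f).subtype (Algebra.linearMap E A) ?_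
  rw [Submodule.range_subtype]
  ext x
  rw [LinearMap.mem_ker, Algebra.linearMap_apply]
  exact RingHom.mem_ker

theorem isAdicComplete_of_sq_zero {E : Type*} [CommRing E] (N : Ideal E) (hsq : N ^ 2 = ⊥) :
    IsAdicComplete N E := by
  haveI : IsHausdorff N E := ⟨fun x hx => by
    have h2 := hx 2
    rw [SModEq.zero, smul_eq_mul, Ideal.mul_top, hsq] at h2
    exact h2⟩
  haveI : IsPrecomplete N E := ⟨fun f hf => ⟨f 2, fun n => by
    rcases le_total n 2 with h | h
    · exact hf h
    · have h2 := hf h
      rw [SModEq.sub_mem, smul_eq_mul, Ideal.mul_top, hsq, Ideal.mem_bot, sub_eq_zero] at h2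
      rw [h2]⟩⟩
  exact { toIsHausdorff := inferInstance, toIsPrecomplete := inferInstance }

theorem isAdicComplete_of_sqZero_ext {E A : Type*} [CommRing E] [CommRing A]
    [IsNoetherianRing A] (I : Ideal A) [IsAdicComplete I A] (f : E →+* A)
    (hf : Function.Surjective f) (hsq : RingHom.ker f ^ 2 = ⊥) (hfg : (RingHom.ker f).FG) :
    IsAdicComplete (I.comap f) E := by
  haveI := isNoetherianRing_of_sqZero f hf hsq hfg
  haveI := isAdicComplete_of_sq_zero (RingHom.ker f) hsq
  haveI : IsAdicComplete ((I.comap f).map (Ideal.Quotient.mk (RingHom.ker f)))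
      (E ⧸ RingHom.ker f) := by
    obtain ⟨e, he⟩ : ∃ e : (E ⧸ RingHom.ker f) ≃+* A,
        ∀ x, e (Ideal.Quotient.mk (RingHom.ker f) x) = f x :=
      ⟨RingHom.quotientKerEquivOfSurjective hf, fun x => rfl⟩
    have hmap : Ideal.map e ((I.comap f).map (Ideal.Quotient.mk (RingHom.ker f))) = I := by
      apply le_antisymm
      · rw [Ideal.map_le_iff_le_comap, Ideal.map_le_iff_le_comap]
        intro x hx
        rw [Ideal.mem_comap, Ideal.mem_comap, he]
        exact hx
      · intro a ha
        obtain ⟨x, rfl⟩ := hf a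
        have hx : x ∈ I.comap f := ha
        rw [← he]
        exact Ideal.mem_map_of_mem e (Ideal.mem_map_of_mem _ hx)
    refine (IsAdicComplete.congr_ringEquiv _ e).mp ?_
    rw [hmap]
    infer_instance
  exact Groth.Agent.Helper8.TwoIdealComplete.isAdicComplete_of_quotient (RingHom.ker f)
    (I.comap f)

end Groth.Agent.H27.PSLift
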