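import Mathlib.Tactic
import Mathlib.Algebra.Category.ModuleCat.Ext.HasExt
import Mathlib.Algebra.Category.ModuleCat.Ext.Basic
import Mathlib.Algebra.Category.ModuleCat.Ext.Finite
import Mathlib.Algebra.Homology.DerivedCategory.Ext.ExactSequences
import Mathlib.Algebra.Homology.DerivedCategory.Ext.ExtClass
import Mathlib.Algebra.Homology.DerivedCategory.Ext.EnoughProjectives
import Mathlib.CategoryTheory.Abelian.Projective.Dimension
import Mathlib.Algebra.Category.ModuleCat.Projective
import Mathlib.Algebra.Homology.ShortComplex.ModuleCat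
import Mathlib.RingTheory.Finiteness.Cardinality
import Mathlib.RingTheory.Noetherian.Basic

/-!
# Projective dimension of finite modules over Noetherian rings via `Ext(-, A)`
-/

set_option autoImplicit false
universe u
open CategoryTheory Abelian

namespace Groth.Agent.H27.PdExt

variable {A : Type u} [CommRing A]

lemma ext_fin_pi_eq_zero (M : ModuleCat.{u} A) (i m : ℕ)
    (h : ∀ e : Ext M (ModuleCat.of A A) i, e = 0)
    (e : Ext M (ModuleCat.of A (Fin m → A)) i) : e = 0 := by
  classical
  let φ : ((Fin m → A) →ₗ[A] (Fin m → A)) →+ Ext M (ModuleCat.of A (Fin m → A)) i :=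
    { toFun := fun g => e.comp (Ext.mk₀ (ModuleCat.ofHom g)) (add_zero i)
      map_zero' := by rw [ModuleCat.ofHom_zero, Ext.mk₀_zero, Ext.comp_zero]
      map_add' := fun g g' => by rw [ModuleCat.ofHom_add, Ext.mk₀_add, Ext.comp_add] }
  have hφ : ∀ g, φ g = e.comp (Ext.mk₀ (ModuleCat.ofHom g)) (add_zero i) := fun g => rfl
  have hid : (LinearMap.id : (Fin m → A) →ₗ[A] (Fin m → A)) =
      ∑ j, (LinearMap.single A (fun _ : Fin m => A) j) ∘ₗ (LinearMap.proj j) := by
    apply LinearMap.ext
    intro x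
    rw [LinearMap.sum_apply]
    simp only [LinearMap.id_coe, id_eq, LinearMap.coe_comp, Function.comp_apply,
      LinearMap.coe_proj, Function.eval, LinearMap.coe_single]
    exact (Finset.univ_sum_single x).symm
  have h1 : e = φ LinearMap.id := by
    rw [hφ, ModuleCat.ofHom_id, Ext.comp_mk₀_id]
  rw [h1, hid, map_sum]
  apply Finset.sum_eq_zero
  intro j _
  rw [hφ, ModuleCat.ofHom_comp, ← Ext.mk₀_comp_mk₀, ← Ext.comp_assoc_of_third_deg_zero,
    h (e.comp (Ext.mk₀ (ModuleCat.ofHom (LinearMap.proj j))) (add_zero i)), Ext.zero_comp]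

lemma ext_finite_eq_zero [IsNoetherianRing A] (M : ModuleCat.{u} A) (q D : ℕ)
    [hpd : HasProjectiveDimensionLT M (D + 1)]
    (h : ∀ i, q < i → ∀ e : Ext M (ModuleCat.of A A) i, e = 0) :
    ∀ (k i : ℕ), q < i → D + 1 ≤ i + k →
      ∀ (N : Type u) [AddCommGroup N] [Module A N] [Module.Finite A N]
      (e : Ext M (ModuleCat.of A N) i), e = 0 := by
  intro k
  induction k with
  | zero =>
    intro i _ hi N _ _ _ e
    exact e.eq_zero_of_hasProjectiveDimensionLT (D + 1) (by omega)
  | succ k ih =>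
    intro i hqi hi N _ _ _ e
    obtain ⟨m, f, hf⟩ := Module.Finite.exists_fin' A N
    let S := f.shortComplexKer
    have hS : S.ShortExact := LinearMap.shortExact_shortComplexKer hf
    have h0 : e.comp hS.extClass (rfl : i + 1 = i + 1) = 0 :=
      ih (i + 1) (by omega) (by omega) (LinearMap.ker f) _
    obtain ⟨e₂, he₂⟩ := Ext.covariant_sequence_exact₃ M hS e rfl h0
    rw [← he₂, ext_fin_pi_eq_zero M i m (h i hqi) e₂, Ext.zero_comp]

lemma hasProjDimLT_of_ext_finite [IsNoetherianRing A] (q : ℕ) :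
    ∀ (M : Type u) [AddCommGroup M] [Module A M] [Module.Finite A M],
    (∀ (N : Type u) [AddCommGroup N] [Module A N] [Module.Finite A N]
      (e : Ext (ModuleCat.of A M) (ModuleCat.of A N) (q + 1)), e = 0) →
    HasProjectiveDimensionLT (ModuleCat.of A M) (q + 1) := by
  induction q with
  | zero =>
    intro M _ _ _ h
    obtain ⟨m, f, hf⟩ := Module.Finite.exists_fin' A M
    let S := f.shortComplexKer
    have hS : S.ShortExact := LinearMap.shortExact_shortComplexKer hf
    have h0 : (Ext.mk₀ (𝟙 S.X₃)).comp hS.extClass (zero_add 1) = 0 := by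
      rw [Ext.mk₀_id_comp]; exact h (LinearMap.ker f) _
    obtain ⟨e₂, he₂⟩ := Ext.covariant_sequence_exact₃ S.X₃ hS (Ext.mk₀ (𝟙 S.X₃)) (zero_add 1) h0
    obtain ⟨s, rfl⟩ := (Ext.mk₀_bijective S.X₃ S.X₂).2 e₂
    rw [Ext.mk₀_comp_mk₀] at he₂
    have hs : s ≫ S.g = 𝟙 S.X₃ := (Ext.mk₀_bijective _ _).1 he₂
    have hr : Retract S.X₃ S.X₂ := ⟨s, S.g, hs⟩
    have hproj : Projective S.X₂ := by
      show Projective (ModuleCat.of A (Fin m → A))
      infer_instance
    exact hr.hasProjectiveDimensionLT 1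
  | succ q ih =>
    intro M _ _ _ h
    obtain ⟨m, f, hf⟩ := Module.Finite.exists_fin' A M
    let S := f.shortComplexKer
    have hS : S.ShortExact := LinearMap.shortExact_shortComplexKer hf
    have hproj : Projective S.X₂ := by
      show Projective (ModuleCat.of A (Fin m → A))
      infer_instance
    have hK : HasProjectiveDimensionLT S.X₁ (q + 1) := by
      apply ih (LinearMap.ker f)
      intro N _ _ _ e
      have h0 : hS.extClass.comp e (by omega : 1 + (q + 1) = q + 1 + 1) = 0 := h N _
      obtain ⟨e₂, he₂⟩ := Ext.contravariant_sequence_exact₁ hS (ModuleCat.of A N) e _ h0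
      rw [← he₂, Ext.eq_zero_of_projective e₂, Ext.comp_zero]
    have h2 : HasProjectiveDimensionLT S.X₂ (q + 1 + 1) :=
      hasProjectiveDimensionLT_of_ge S.X₂ 1 (q + 1 + 1) (by omega)
    exact hS.hasProjectiveDimensionLT_X₃ (q + 1) hK h2

end Groth.Agent.H27.PdExt
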