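import Mathlib

/-!
# Quotients of adically complete Noetherian rings are adically complete

`isPrecomplete_quotient` is copied from helper15's `Groth.Agent.H15.ArtTrim` (to avoid its heavy
imports); `isAdicComplete_quotient` adds Hausdorffness via Krull's intersection theorem.
-/

universe u

namespace Groth.Agent.H27.QuotComplete

theorem isPrecomplete_quotient {R : Type u} [CommRing R] (I 𝔞 : Ideal R) [IsPrecomplete I R] :
    IsPrecomplete (I.map (Ideal.Quotient.mk 𝔞)) (R ⧸ 𝔞) := by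
  refine ⟨fun f hf => ?_⟩
  have hsm : ∀ (n : ℕ) (a b : R ⧸ 𝔞),
      a ≡ b [SMOD ((I.map (Ideal.Quotient.mk 𝔞)) ^ n • ⊤ : Submodule (R ⧸ 𝔞) (R ⧸ 𝔞))] ↔
        a - b ∈ (I ^ n).map (Ideal.Quotient.mk 𝔞) := by
    intro n a b
    rw [SModEq.sub_mem, smul_eq_mul, Ideal.mul_top, Ideal.map_pow]
  have hsm' : ∀ (n : ℕ) (a b : R),
      a ≡ b [SMOD (I ^ n • ⊤ : Submodule R R)] ↔ a - b ∈ I ^ n := by
    intro n a b
    rw [SModEq.sub_mem, smul_eq_mul, Ideal.mul_top]
  have hstep : ∀ n, ∃ δ : R, δ ∈ I ^ n ∧ Ideal.Quotient.mk 𝔞 δ = f (n + 1) - f n := by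
    intro n
    have h1 := (hsm n _ _).1 (hf (Nat.le_succ n))
    have h2 := ((I ^ n).map (Ideal.Quotient.mk 𝔞)).neg_mem h1
    rw [neg_sub] at h2
    obtain ⟨δ, hδ, hδ'⟩ := (Ideal.mem_map_iff_of_surjective _ Ideal.Quotient.mk_surjective).1 h2
    exact ⟨δ, hδ, hδ'⟩
  choose δ hδ1 hδ2 using hstep
  obtain ⟨g₀, hg₀⟩ := Ideal.Quotient.mk_surjective (f 0)
  let g : ℕ → R := fun n => Nat.rec g₀ (fun n gn => gn + δ n) n
  have hg_succ : ∀ n, g (n + 1) = g n + δ n := fun n => rfl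
  have hgf : ∀ n, Ideal.Quotient.mk 𝔞 (g n) = f n := by
    intro n
    induction n with
    | zero => exact hg₀
    | succ n ih => rw [hg_succ, map_add, ih, hδ2]; ring
  have hcauchy : ∀ {m n : ℕ}, m ≤ n → g m ≡ g n [SMOD (I ^ m • ⊤ : Submodule R R)] := by
    intro m n hmn
    rw [hsm']
    induction hmn with
    | refl => rw [sub_self]; exact Ideal.zero_mem _
    | step hmn ih =>
      rename_i n
      rw [hg_succ]
      have : g m - (g n + δ n) = (g m - g n) - δ n := by ring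
      rw [this]
      exact Submodule.sub_mem _ ih (Ideal.pow_le_pow_right hmn (hδ1 n))
  obtain ⟨L, hL⟩ := IsPrecomplete.prec ‹IsPrecomplete I R› @hcauchy
  refine ⟨Ideal.Quotient.mk 𝔞 L, fun n => ?_⟩
  rw [hsm, ← hgf n, ← map_sub]
  exact Ideal.mem_map_of_mem _ ((hsm' n _ _).1 (hL n))

theorem isAdicComplete_quotient {R : Type u} [CommRing R] [IsNoetherianRing R] (I 𝔞 : Ideal R)
    [IsAdicComplete I R] : IsAdicComplete (I.map (Ideal.Quotient.mk 𝔞)) (R ⧸ 𝔞) := by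
  haveI := isPrecomplete_quotient I 𝔞
  haveI : IsHausdorff (I.map (Ideal.Quotient.mk 𝔞)) (R ⧸ 𝔞) := by
    apply IsHausdorff.of_le_jacobson
    have h1 : I ≤ Ideal.jacobson 𝔞 :=
      (IsAdicComplete.le_jacobson_bot I).trans (Ideal.jacobson_mono bot_le)
    have h2 : Ideal.map (Ideal.Quotient.mk 𝔞) (Ideal.jacobson 𝔞) =
        Ideal.jacobson (Ideal.map (Ideal.Quotient.mk 𝔞) 𝔞) :=
      Ideal.map_jacobson_of_surjective Ideal.Quotient.mk_surjective (by rw [Ideal.mk_ker])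
    calc Ideal.map (Ideal.Quotient.mk 𝔞) I ≤ Ideal.map (Ideal.Quotient.mk 𝔞) (Ideal.jacobson 𝔞) :=
          Ideal.map_mono h1
      _ = Ideal.jacobson ⊥ := by rw [h2, Ideal.map_quotient_self]
  exact { toIsHausdorff := inferInstance, toIsPrecomplete := inferInstance }

end Groth.Agent.H27.QuotComplete
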