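import Mathlib
import Groth.Agent.S18703
import Groth.Agent.H29.DepthLib

/-!
# Reflexive modules: depth, (S_k), localization (helper27)
-/

set_option autoImplicit false
set_option linter.style.haveILetI false
set_option linter.unusedSectionVars false
universe u

namespace Groth.Agent.H27.ReflLoc

open RingTheory.Sequence

section Dual
variable {A : Type u} [CommRing A] {N : Type u} [AddCommGroup N] [Module A N]

theorem dual_isSMulRegular {x : A} (hx : IsSMulRegular A x) :
    IsSMulRegular (Module.Dual A N) x := by
  intro ψ ψ' h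
  have h' : x • ψ = x • ψ' := h
  refine LinearMap.ext fun f => hx ?_
  exact (show x • ψ f = x • ψ' f from LinearMap.congr_fun h' f)

open scoped Pointwise in
theorem dual_quot_isSMulRegular {x y : A} (hx : IsSMulRegular A x)
    (hy : IsSMulRegular (QuotSMulTop x A) y) :
    IsSMulRegular (QuotSMulTop x (Module.Dual A N)) y := by
  rw [isSMulRegular_iff_right_eq_zero_of_smul]
  intro z hz
  obtain ⟨ψ, rfl⟩ := Submodule.Quotient.mk_surjective _ z
  rw [← Submodule.Quotient.mk_smul, Submodule.Quotient.mk_eq_zero] at hz
  obtain ⟨ψ', -, hψ'⟩ := (Submodule.mem_smul_pointwise_iff_exists _ _ _).mp hz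
  have hex : ∀ f : N, ∃ a : A, x • a = ψ f := by
    intro f
    have h1 : y • (Submodule.Quotient.mk (ψ f) : QuotSMulTop x A) = 0 := by
      rw [← Submodule.Quotient.mk_smul, Submodule.Quotient.mk_eq_zero]
      have h0 : y • ψ f = x • ψ' f := (LinearMap.congr_fun hψ' f).symm
      rw [h0]
      exact Submodule.smul_mem_pointwise_smul _ x ⊤ Submodule.mem_top
    have h2 := hy.right_eq_zero_of_smul h1
    rw [Submodule.Quotient.mk_eq_zero] at h2
    obtain ⟨a, -, ha⟩ := (Submodule.mem_smul_pointwise_iff_exists _ _ _).mp h2
    exact ⟨a, ha⟩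
  choose h hh using hex
  let hl : Module.Dual A N :=
    { toFun := h
      map_add' := fun f f' => by
        apply hx
        show x • h (f + f') = x • (h f + h f')
        rw [smul_add, hh, hh, hh, map_add]
      map_smul' := fun r f => by
        apply hx
        show x • h (r • f) = x • (r • h f)
        rw [smul_comm x r, hh, hh, map_smul] }
  rw [Submodule.Quotient.mk_eq_zero]
  refine (Submodule.mem_smul_pointwise_iff_exists _ _ _).mpr ⟨hl, Submodule.mem_top, ?_⟩
  refine LinearMap.ext fun f => ?_
  exact hh f

theorem isWeaklyRegular_dual_one {x : A} (h : IsWeaklyRegular A [x]) :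
    IsWeaklyRegular (Module.Dual A N) [x] := by
  rw [isWeaklyRegular_cons_iff] at h ⊢
  exact ⟨dual_isSMulRegular h.1, IsWeaklyRegular.nil _ _⟩

theorem isWeaklyRegular_dual_two {x y : A} (h : IsWeaklyRegular A [x, y]) :
    IsWeaklyRegular (Module.Dual A N) [x, y] := by
  rw [isWeaklyRegular_cons_iff, isWeaklyRegular_cons_iff] at h ⊢
  exact ⟨dual_isSMulRegular h.1, dual_quot_isSMulRegular h.1 h.2.1, IsWeaklyRegular.nil _ _⟩

end Dual

/-- A reflexive module has `I`-depth at least `k` (`k = 1, 2`) as soon as the ring has. -/
theorem le_idealDepth_of_isReflexive {A : Type u} [CommRing A] (I : Ideal A) (G : Type u)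
    [AddCommGroup G] [Module A G] [Module.IsReflexive A G] (k : ℕ) (hk : k = 1 ∨ k = 2)
    (h : (k : ℕ∞) ≤ LocCoh.idealDepth I A) : (k : ℕ∞) ≤ LocCoh.idealDepth I G := by
  classical
  by_cases hIG : I • (⊤ : Submodule A G) = ⊤
  · have : LocCoh.idealDepth I G = ⊤ := by
      unfold LocCoh.idealDepth
      rw [if_pos hIG]
    rw [this]
    exact le_top
  · have hIA : I • (⊤ : Submodule A A) ≠ ⊤ := by
      intro hIA
      apply hIG
      have hI : I = ⊤ := by rw [← hIA, smul_eq_mul, Ideal.mul_top]
      rw [hI, Submodule.top_smul]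
    obtain ⟨rs, hlen, hreg, hmem⟩ := (Groth.Agent.H29.le_idealDepth_iff I A hIA k).mp h
    refine (Groth.Agent.H29.le_idealDepth_iff I G hIG k).mpr ⟨rs, hlen, ?_, hmem⟩
    rw [(Module.evalEquiv A G).isWeaklyRegular_congr]
    rcases hk with rfl | rfl
    · obtain ⟨x, rfl⟩ := List.length_eq_one_iff.mp hlen
      exact isWeaklyRegular_dual_one hreg
    · obtain ⟨x, y, rfl⟩ := List.length_eq_two.mp hlen
      exact isWeaklyRegular_dual_two hreg

section Loc
variable {A : Type u} [CommRing A] [IsNoetherianRing A] {G : Type u} [AddCommGroup G] [Module A G]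
  [Module.Finite A G]

/-- Localizations of finite reflexive modules over Noetherian rings are reflexive. -/
theorem isReflexive_localization [Module.IsReflexive A G] (p : Ideal A) [p.IsPrime] :
    Module.IsReflexive (Localization.AtPrime p) (LocalizedModule p.primeCompl G) := by
  haveI : Module.Finite A (Module.Dual A G) := Module.IsNoetherian.finite A (G →ₗ[A] A)
  haveI : Module.FinitePresentation A (Module.Dual A G) := Module.finitePresentation_of_finite A _
  let L1 : Module.Dual A G →ₗ[A]
      Module.Dual (Localization.AtPrime p) (LocalizedModule p.primeCompl G) :=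
    Groth.Agent.S18703.Lmap p
  let L2 : Module.Dual A (Module.Dual A G) →ₗ[A] Module.Dual (Localization.AtPrime p)
      (Module.Dual (Localization.AtPrime p) (LocalizedModule p.primeCompl G)) :=
    IsLocalizedModule.mapExtendScalars p.primeCompl L1
      (Algebra.linearMap A (Localization.AtPrime p)) (Localization.AtPrime p)
  have hL2 : ∀ ψ f, L2 ψ (L1 f) = algebraMap A (Localization.AtPrime p) (ψ f) := by
    intro ψ f
    show IsLocalizedModule.mapExtendScalars p.primeCompl L1
      (Algebra.linearMap A (Localization.AtPrime p)) (Localization.AtPrime p) ψ (L1 f) = _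
    rw [IsLocalizedModule.mapExtendScalars_apply_apply, IsLocalizedModule.map_apply]
    rfl
  haveI hL2loc : IsLocalizedModule p.primeCompl L2 := inferInstance
  let T : G →ₗ[A] Module.Dual (Localization.AtPrime p)
      (Module.Dual (Localization.AtPrime p) (LocalizedModule p.primeCompl G)) :=
    L2 ∘ₗ (Module.evalEquiv A G).toLinearMap
  haveI hT : IsLocalizedModule p.primeCompl T :=
    IsLocalizedModule.of_linearEquiv_right p.primeCompl L2 (Module.evalEquiv A G)
  let E : LocalizedModule p.primeCompl G →ₗ[A] Module.Dual (Localization.AtPrime p)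
      (Module.Dual (Localization.AtPrime p) (LocalizedModule p.primeCompl G)) :=
    (Module.Dual.eval (Localization.AtPrime p) (LocalizedModule p.primeCompl G)).restrictScalars A
  have hunits : ∀ s : p.primeCompl,
      IsUnit (algebraMap A (Module.End A (Localization.AtPrime p)) s) :=
    IsLocalizedModule.map_units (Algebra.linearMap A (Localization.AtPrime p))
  have hET : E ∘ₗ (LocalizedModule.mkLinearMap p.primeCompl G) = T := by
    refine LinearMap.ext fun g => ?_
    apply LinearMap.restrictScalars_injective A
    apply IsLocalizedModule.ext p.primeCompl L1 hunits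
    refine LinearMap.ext fun f => ?_
    show Module.Dual.eval (Localization.AtPrime p) (LocalizedModule p.primeCompl G)
      (LocalizedModule.mkLinearMap p.primeCompl G g) (L1 f) = L2 (Module.Dual.eval A G g) (L1 f)
    rw [Module.Dual.eval_apply, hL2, Module.Dual.eval_apply]
    exact Groth.Agent.S18703.Lmap_apply p f g
  have hE : E = (IsLocalizedModule.linearEquiv p.primeCompl
      (LocalizedModule.mkLinearMap p.primeCompl G) T).toLinearMap := by
    apply IsLocalizedModule.ext p.primeCompl (LocalizedModule.mkLinearMap p.primeCompl G)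
      (IsLocalizedModule.map_units T)
    rw [hET]
    refine LinearMap.ext fun g => ?_
    exact (IsLocalizedModule.linearEquiv_apply p.primeCompl
      (LocalizedModule.mkLinearMap p.primeCompl G) T g).symm
  refine ⟨?_⟩
  have hb : Function.Bijective E := by
    rw [hE]
    exact (IsLocalizedModule.linearEquiv p.primeCompl
      (LocalizedModule.mkLinearMap p.primeCompl G) T).bijective
  exact hb

/-- A finite reflexive module over a Noetherian ring with `(S_k)` has `(S_k)` (`k = 1, 2`). -/
theorem hasSk_of_isReflexive [Module.IsReflexive A G] (k : ℕ) (hk : k = 1 ∨ k = 2)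
    (hA : LocCoh.HasSk k A A) : LocCoh.HasSk k A G := by
  intro p _
  haveI := isReflexive_localization (G := G) p
  have hAp := hA p
  let e0 : LocalizedModule p.primeCompl A ≃ₗ[A] Localization.AtPrime p :=
    IsLocalizedModule.linearEquiv p.primeCompl (LocalizedModule.mkLinearMap p.primeCompl A)
      (Algebra.linearMap A (Localization.AtPrime p))
  let e : LocalizedModule p.primeCompl A ≃ₗ[Localization.AtPrime p] Localization.AtPrime p :=
    e0.extendScalarsOfIsLocalization p.primeCompl (Localization.AtPrime p)
  have hdepth : LocCoh.depth (Localization.AtPrime p) (LocalizedModule p.primeCompl A) =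
      LocCoh.depth (Localization.AtPrime p) (Localization.AtPrime p) :=
    Groth.Agent.H29.idealDepth_congr _ e
  have hsd : Module.supportDim (Localization.AtPrime p) (LocalizedModule p.primeCompl A) =
      ringKrullDim (Localization.AtPrime p) := by
    rw [Module.supportDim_eq_of_equiv e, Module.supportDim_self_eq_ringKrullDim]
  rw [hdepth, hsd] at hAp
  have hσ : Module.supportDim (Localization.AtPrime p) (LocalizedModule p.primeCompl G) ≤
      ringKrullDim (Localization.AtPrime p) := Module.supportDim_le_ringKrullDim _ _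
  have hμ : min (k : WithBot ℕ∞)
      (Module.supportDim (Localization.AtPrime p) (LocalizedModule p.primeCompl G)) ≤
      ((LocCoh.depth (Localization.AtPrime p) (Localization.AtPrime p) : ℕ∞) : WithBot ℕ∞) :=
    (min_le_min le_rfl hσ).trans hAp
  have h1 : ((1 : ℕ) : ℕ∞) ≤ LocCoh.depth (Localization.AtPrime p) (Localization.AtPrime p) →
      ((1 : ℕ) : ℕ∞) ≤ LocCoh.depth (Localization.AtPrime p) (LocalizedModule p.primeCompl G) :=
    le_idealDepth_of_isReflexive (IsLocalRing.maximalIdeal (Localization.AtPrime p))
      (LocalizedModule p.primeCompl G) 1 (Or.inl rfl)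
  have h2 : ((2 : ℕ) : ℕ∞) ≤ LocCoh.depth (Localization.AtPrime p) (Localization.AtPrime p) →
      ((2 : ℕ) : ℕ∞) ≤ LocCoh.depth (Localization.AtPrime p) (LocalizedModule p.primeCompl G) :=
    le_idealDepth_of_isReflexive (IsLocalRing.maximalIdeal (Localization.AtPrime p))
      (LocalizedModule p.primeCompl G) 2 (Or.inr rfl)
  by_cases c2 : (2 : ℕ∞) ≤ LocCoh.depth (Localization.AtPrime p) (Localization.AtPrime p)
  · have hε : (2 : ℕ∞) ≤ LocCoh.depth (Localization.AtPrime p)
        (LocalizedModule p.primeCompl G) := by
      exact_mod_cast h2 (by exact_mod_cast c2)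
    have hk2 : (k : WithBot ℕ∞) ≤ ((2 : ℕ∞) : WithBot ℕ∞) := by
      rcases hk with rfl | rfl
      · exact_mod_cast (by norm_num : (1 : ℕ∞) ≤ 2)
      · exact le_of_eq rfl
    exact (min_le_left _ _).trans (hk2.trans (WithBot.coe_le_coe.mpr hε))
  · by_cases c1 : (1 : ℕ∞) ≤ LocCoh.depth (Localization.AtPrime p) (Localization.AtPrime p)
    · have hε : (1 : ℕ∞) ≤ LocCoh.depth (Localization.AtPrime p)
          (LocalizedModule p.primeCompl G) := by
        exact_mod_cast h1 (by exact_mod_cast c1)
      have hδ : LocCoh.depth (Localization.AtPrime p) (Localization.AtPrime p) ≤ 1 := by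
        rw [not_le] at c2
        have h11 : (2 : ℕ∞) = 1 + 1 := by norm_num
        rw [h11] at c2
        exact (ENat.lt_add_one_iff (by simp)).mp c2
      exact hμ.trans (WithBot.coe_le_coe.mpr (hδ.trans hε))
    · rw [not_le, ENat.lt_one_iff_eq_zero] at c1
      rw [c1] at hμ
      exact hμ.trans (WithBot.coe_le_coe.mpr zero_le)

end Loc

end Groth.Agent.H27.ReflLoc
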