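import Mathlib
import Groth.Prelude.Def_CAlgX
import Groth.Agent.H27.RegSmoothU

/-!
# Adic formal smoothness: base change to a finite field extension followed by localization at a
maximal ideal
-/

set_option autoImplicit false
universe u
open IsLocalRing TensorProduct

namespace Groth.Agent.H27.RegSmoothBC

variable {k k' A : Type u} [Field k] [Field k'] [Algebra k k'] [Module.Finite k k'] [CommRing A]
  [Algebra k A]

theorem noeth_tensor [IsNoetherianRing A] : IsNoetherianRing (k' ⊗[k] A) := by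
  haveI : IsNoetherianRing (A ⊗[k] k') := IsNoetherianRing.of_finite A (A ⊗[k] k')
  exact isNoetherianRing_of_ringEquiv (A ⊗[k] k') (Algebra.TensorProduct.comm k A k').toRingEquiv

theorem one_tmul_mem [IsLocalRing A] (n : Ideal (k' ⊗[k] A)) [n.IsMaximal] (a : A)
    (ha : a ∈ maximalIdeal A) : (1 : k') ⊗ₜ[k] a ∈ n := by
  let e : A ⊗[k] k' ≃+* k' ⊗[k] A := (Algebra.TensorProduct.comm k A k').toRingEquiv
  haveI : (n.comap e).IsMaximal := Ideal.comap_isMaximal_of_equiv e
  have hmax := Ideal.isMaximal_comap_of_isIntegral_of_isMaximal (R := A) (n.comap e)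
  have heq := IsLocalRing.eq_maximalIdeal hmax
  have h1 : a ∈ Ideal.comap (algebraMap A (A ⊗[k] k')) (n.comap e) := by
    rw [heq]; exact ha
  have h2 : e (algebraMap A (A ⊗[k] k') a) = (1 : k') ⊗ₜ[k] a := by
    rw [Algebra.TensorProduct.algebraMap_apply]
    exact Algebra.TensorProduct.comm_tmul k a 1
  rw [← h2]
  exact h1

theorem adicSmooth_loc_baseChange [IsLocalRing A]
    (h : CAlgX.IsAdicFormallySmooth k A (maximalIdeal A)) (n : Ideal (k' ⊗[k] A)) [n.IsMaximal] :
    CAlgX.IsAdicFormallySmooth k' (Localization.AtPrime n)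
      (maximalIdeal (Localization.AtPrime n)) := by
  intro E _ _ J hJ ψ hψ
  obtain ⟨N, hN⟩ := hψ
  letI : Algebra k E := ((algebraMap k' E).comp (algebraMap k k')).toAlgebra
  haveI : IsScalarTower k k' E := IsScalarTower.of_algebraMap_eq (fun _ => rfl)
  have hnilJ : IsNilpotent J := ⟨2, by rw [hJ]; rfl⟩
  obtain ⟨φ, hφ⟩ : ∃ φ : A →+* Localization.AtPrime n,
      ∀ a, φ a = algebraMap (k' ⊗[k] A) (Localization.AtPrime n) ((1 : k') ⊗ₜ[k] a) :=
    ⟨(algebraMap (k' ⊗[k] A) (Localization.AtPrime n)).comp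
      (Algebra.TensorProduct.includeRight (R := k) (A := k') (B := A)).toRingHom, fun a => rfl⟩
  have hφc : ∀ c : k, φ (algebraMap k A c) =
      algebraMap k' (Localization.AtPrime n) (algebraMap k k' c) := by
    intro c
    have h1 : (1 : k') ⊗ₜ[k] (algebraMap k A c) = (algebraMap k k' c) ⊗ₜ[k] (1 : A) := by
      rw [Algebra.algebraMap_eq_smul_one, TensorProduct.tmul_smul, TensorProduct.smul_tmul',
        ← Algebra.algebraMap_eq_smul_one]
    rw [hφ, h1, IsScalarTower.algebraMap_apply k' (k' ⊗[k] A) (Localization.AtPrime n),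
      Algebra.TensorProduct.algebraMap_apply]
    rfl
  let ψ₀ : A →ₐ[k] E ⧸ J :=
    { toRingHom := ψ.toRingHom.comp φ
      commutes' := fun c => by
        show ψ (φ (algebraMap k A c)) = Ideal.Quotient.mk J (algebraMap k' E (algebraMap k k' c))
        rw [hφc, ψ.commutes]
        rfl }
  have hψ₀ : ∀ a, ψ₀ a = ψ (φ a) := fun a => rfl
  have hφm : Ideal.map φ (maximalIdeal A) ≤ maximalIdeal (Localization.AtPrime n) := by
    rw [Ideal.map_le_iff_le_comap]
    intro a ha
    rw [Ideal.mem_comap, hφ, ← IsLocalization.AtPrime.map_eq_maximalIdeal n (Localization.AtPrime n)]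
    exact Ideal.mem_map_of_mem _ (one_tmul_mem n a ha)
  have hkill : ∀ x ∈ maximalIdeal A ^ N, ψ₀ x = 0 := by
    intro x hx
    rw [hψ₀]
    apply hN
    have h1 : φ x ∈ Ideal.map φ (maximalIdeal A ^ N) := Ideal.mem_map_of_mem φ hx
    rw [Ideal.map_pow] at h1
    exact Ideal.pow_right_mono hφm N h1
  obtain ⟨χ₀, hχ₀⟩ := h E J hJ ψ₀ ⟨N, hkill⟩
  have hχ₀' : ∀ a, Ideal.Quotient.mk J (χ₀ a) = ψ (φ a) := fun a => AlgHom.congr_fun hχ₀ a
  obtain ⟨χ₁, hχ₁⟩ : ∃ χ₁ : k' ⊗[k] A →ₐ[k'] E,
      ∀ (c : k') (a : A), χ₁ (c ⊗ₜ[k] a) = algebraMap k' E c * χ₀ a :=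
    ⟨Algebra.TensorProduct.lift (Algebra.ofId k' E) χ₀ (fun _ _ => Commute.all _ _),
      fun c a => by rw [Algebra.TensorProduct.lift_tmul, Algebra.ofId_apply]⟩
  have hcomp : ∀ y : k' ⊗[k] A, Ideal.Quotient.mk J (χ₁ y) =
      ψ (algebraMap (k' ⊗[k] A) (Localization.AtPrime n) y) := by
    intro y
    induction y using TensorProduct.induction_on with
    | zero => simp
    | tmul c a =>
      rw [hχ₁, map_mul, hχ₀']
      have h1 : c ⊗ₜ[k] a = algebraMap k' (k' ⊗[k] A) c * ((1 : k') ⊗ₜ[k] a) := by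
        rw [Algebra.TensorProduct.algebraMap_apply, Algebra.TensorProduct.tmul_mul_tmul,
          one_mul]
        congr 1
        simp
      rw [h1, map_mul, map_mul, ← hφ,
        ← IsScalarTower.algebraMap_apply k' (k' ⊗[k] A) (Localization.AtPrime n), ψ.commutes]
      rfl
    | add y z hy hz => rw [map_add, map_add, map_add, map_add, hy, hz]
  have hunits : ∀ s : n.primeCompl, IsUnit (χ₁ (s : k' ⊗[k] A)) := by
    intro s
    rw [← IsNilpotent.isUnit_quotient_mk_iff hnilJ, hcomp]
    exact (IsLocalization.map_units (Localization.AtPrime n) s).map ψ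
  refine ⟨IsLocalization.liftAlgHom (M := n.primeCompl) (f := χ₁) hunits, ?_⟩
  have hring : (Ideal.Quotient.mk J).comp
      (IsLocalization.liftAlgHom (M := n.primeCompl) (S := Localization.AtPrime n)
        (f := χ₁) hunits).toRingHom = ψ.toRingHom := by
    apply IsLocalization.ringHom_ext n.primeCompl
    refine RingHom.ext (fun y => ?_)
    show Ideal.Quotient.mk J (IsLocalization.liftAlgHom (M := n.primeCompl)
      (S := Localization.AtPrime n) (f := χ₁) hunits
        (algebraMap (k' ⊗[k] A) (Localization.AtPrime n) y)) = ψ (algebraMap _ _ y)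
    rw [IsLocalization.liftAlgHom_apply, IsLocalization.lift_eq]
    exact hcomp y
  refine AlgHom.ext (fun z => ?_)
  exact RingHom.congr_fun hring z

end Groth.Agent.H27.RegSmoothBC
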