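import Mathlib
import Groth.Agent.H27.PSLift
import Groth.Agent.S9315

/-!
# Lifting along small extensions (towards S9316)
-/

set_option autoImplicit false
universe u

namespace Groth.Agent.H27.SmallExt

open IsLocalRing

/-- The small-extension lifting hypothesis. -/
def HypH (R S : Type u) [CommRing R] [CommRing S] [IsLocalRing R] [IsLocalRing S]
    [Algebra R S] : Prop :=
  ∀ (A : Type u) [CommRing A] [IsLocalRing A] [IsArtinianRing A] [Algebra R A]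
    [IsLocalHom (algebraMap R A)] (J : Ideal A), J ^ 2 = ⊥ → Module.length A J = 1 →
    ∀ [IsLocalRing (A ⧸ J)] (ψ : S →ₐ[R] A ⧸ J) [IsLocalHom ψ.toRingHom],
      Function.Bijective (ResidueField.map ψ.toRingHom) →
      ∃ χ : S →ₐ[R] A, (Ideal.Quotient.mkₐ R J).comp χ = ψ

section
variable {R S : Type u} [CommRing R] [CommRing S] [IsLocalRing R] [IsLocalRing S]
  [IsNoetherianRing S] [Algebra R S] [IsLocalHom (algebraMap R S)]

theorem mk_isUnit (I : Ideal S) (hIle : I ≤ maximalIdeal S) (s : S)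
    (hs : IsUnit (Ideal.Quotient.mk I s)) : IsUnit s := by
  by_contra hns
  have hsm : s ∈ maximalIdeal S := (mem_maximalIdeal s).mpr (mem_nonunits_iff.mpr hns)
  obtain ⟨t', ht'⟩ := isUnit_iff_exists_inv.mp hs
  obtain ⟨t, rfl⟩ := Ideal.Quotient.mk_surjective t'
  rw [← map_mul, ← map_one (Ideal.Quotient.mk I), Ideal.Quotient.eq] at ht'
  have h1 : s * t - 1 ∈ maximalIdeal S := hIle ht'
  have h2 : s * t ∈ maximalIdeal S := Ideal.mul_mem_right _ _ hsm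
  have h3 : (1 : S) ∈ maximalIdeal S := by
    have := Ideal.sub_mem _ h2 h1
    simpa using this
  exact (Ideal.ne_top_iff_one _).mp (maximalIdeal.isMaximal S).ne_top h3

/-- Length-one case: direct application of the hypothesis. -/
theorem lemA (H : HypH R S) (I : Ideal S) (hIle : I ≤ maximalIdeal S) (k : ℕ)
    (hk : maximalIdeal S ^ k ≤ I)
    (E : Type u) [CommRing E] [Algebra R E] (ρ : E →ₐ[R] S ⧸ I) (hρ : Function.Surjective ρ)
    (hsq : ∀ x y, ρ x = 0 → ρ y = 0 → x * y = 0)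
    (hlen : Module.length E (RingHom.ker ρ) = 1) :
    ∃ χ : S →ₐ[R] E, ∀ s, ρ (χ s) = Ideal.Quotient.mk I s := by
  have hmkI : ∀ s : S, IsUnit (Ideal.Quotient.mk I s) → IsUnit s := mk_isUnit I hIle
  have hIne : I ≠ ⊤ := fun h =>
    (maximalIdeal.isMaximal S).ne_top (top_le_iff.mp (h ▸ hIle))
  haveI : Nontrivial (S ⧸ I) := Ideal.Quotient.nontrivial_iff.mpr hIne
  haveI : IsLocalRing (S ⧸ I) :=
    IsLocalRing.of_surjective' (Ideal.Quotient.mk I) Ideal.Quotient.mk_surjective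
  have hmSk : maximalIdeal (S ⧸ I) ^ k = ⊥ := by
    have h1 : maximalIdeal (S ⧸ I) ≤ (maximalIdeal S).map (Ideal.Quotient.mk I) := by
      intro y hy
      obtain ⟨a, rfl⟩ := Ideal.Quotient.mk_surjective y
      refine Ideal.mem_map_of_mem _ ?_
      rw [mem_maximalIdeal, mem_nonunits_iff]
      intro ha
      exact (mem_nonunits_iff.mp ((mem_maximalIdeal _).mp hy)) (ha.map _)
    apply le_bot_iff.mp
    calc maximalIdeal (S ⧸ I) ^ k
        ≤ ((maximalIdeal S).map (Ideal.Quotient.mk I)) ^ k := Ideal.pow_right_mono h1 _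
      _ = ((maximalIdeal S) ^ k).map (Ideal.Quotient.mk I) := (Ideal.map_pow _ _ _).symm
      _ ≤ I.map (Ideal.Quotient.mk I) := Ideal.map_mono hk
      _ = ⊥ := Ideal.map_quotient_self I
  have hunit : ∀ x : E, IsUnit (ρ x) → IsUnit x := by
    intro x hx
    obtain ⟨t', ht'⟩ := isUnit_iff_exists_inv.mp hx
    obtain ⟨y, rfl⟩ := hρ t'
    have h0 : ρ (x * y - 1) = 0 := by rw [map_sub, map_mul, map_one, ht', sub_self]
    have hjj : (x * y - 1) * (x * y - 1) = 0 := hsq _ _ h0 h0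
    refine isUnit_iff_exists_inv.mpr ⟨y * (1 - (x * y - 1)), ?_⟩
    have h1 : x * (y * (1 - (x * y - 1))) = 1 - (x * y - 1) * (x * y - 1) := by ring
    rw [h1, hjj, sub_zero]
  haveI : Nontrivial E := ρ.toRingHom.domain_nontrivial
  haveI : IsLocalRing E := IsLocalRing.of_isUnit_or_isUnit_one_sub_self (fun a => by
    rcases IsLocalRing.isUnit_or_isUnit_one_sub_self (ρ a) with h | h
    · exact Or.inl (hunit a h)
    · refine Or.inr (hunit (1 - a) ?_)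
      rwa [map_sub, map_one])
  have hJ'sq : (RingHom.ker ρ) ^ 2 = ⊥ := by
    rw [pow_two]
    apply le_bot_iff.mp
    rw [Ideal.mul_le]
    intro x hx y hy
    rw [Ideal.mem_bot]
    exact hsq x y ((RingHom.mem_ker).mp hx) ((RingHom.mem_ker).mp hy)
  have hmA' : ∀ x ∈ maximalIdeal E, ρ x ∈ maximalIdeal (S ⧸ I) := by
    intro x hx
    rw [mem_maximalIdeal, mem_nonunits_iff]
    intro hu
    exact (mem_nonunits_iff.mp ((mem_maximalIdeal _).mp hx)) (hunit x hu)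
  have hmA'pow : maximalIdeal E ^ k ≤ RingHom.ker ρ := by
    have h1 : (maximalIdeal E).map ρ.toRingHom ≤ maximalIdeal (S ⧸ I) := by
      rw [Ideal.map_le_iff_le_comap]
      intro x hx
      exact hmA' x hx
    have h2 : (maximalIdeal E ^ k).map ρ.toRingHom ≤ ⊥ := by
      rw [Ideal.map_pow, ← hmSk]
      exact Ideal.pow_right_mono h1 _
    intro x hx
    rw [RingHom.mem_ker]
    have h3 := h2 (Ideal.mem_map_of_mem ρ.toRingHom hx)
    exact (Ideal.mem_bot.mp h3)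
  have hnil : maximalIdeal E ^ (2 * k) = ⊥ := by
    apply le_bot_iff.mp
    rw [mul_comm, pow_mul, ← hJ'sq]
    exact Ideal.pow_right_mono hmA'pow 2
  haveI : IsLocalHom (algebraMap R E) := ⟨fun r hr => by
    have h1 : IsUnit (ρ (algebraMap R E r)) := hr.map ρ
    rw [AlgHom.commutes] at h1
    have h2 : algebraMap R (S ⧸ I) r = Ideal.Quotient.mk I (algebraMap R S r) := rfl
    rw [h2] at h1
    exact isUnit_of_map_unit (algebraMap R S) r (hmkI _ h1)⟩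
  -- Artinian
  have hfl : IsFiniteLength E (RingHom.ker ρ) :=
    Module.length_ne_top_iff.mp (by rw [hlen]; exact ENat.one_ne_top)
  have hfg : (RingHom.ker ρ).FG := by
    haveI : IsNoetherian E (RingHom.ker ρ) := (isFiniteLength_iff_isNoetherian_isArtinian.mp hfl).1
    exact Module.Finite.iff_fg.mp inferInstance
  have hkeq : RingHom.ker ρ.toRingHom = RingHom.ker ρ := Ideal.ext fun x => Iff.rfl
  haveI : IsNoetherianRing E :=
    Groth.Agent.H27.PSLift.isNoetherianRing_of_sqZero ρ.toRingHom hρ (by rw [hkeq]; exact hJ'sq)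
      (by rw [hkeq]; exact hfg)
  haveI : IsArtinianRing E :=
    (isArtinianRing_iff_isNilpotent_maximalIdeal E).mpr ⟨2 * k, by
      rw [Ideal.zero_eq_bot]; exact hnil⟩
  have hker_ne : RingHom.ker ρ ≠ ⊤ := by
    intro h
    have h1 : (1 : E) ∈ RingHom.ker ρ := h ▸ Submodule.mem_top
    rw [RingHom.mem_ker, map_one] at h1
    exact one_ne_zero h1
  haveI : Nontrivial (E ⧸ RingHom.ker ρ) := Ideal.Quotient.nontrivial_iff.mpr hker_ne
  haveI : IsLocalRing (E ⧸ RingHom.ker ρ) :=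
    IsLocalRing.of_surjective' (Ideal.Quotient.mk _) Ideal.Quotient.mk_surjective
  obtain ⟨e, he⟩ : ∃ e : (E ⧸ RingHom.ker ρ) ≃ₐ[R] S ⧸ I,
      ∀ x, e (Ideal.Quotient.mk _ x) = ρ x :=
    ⟨Ideal.quotientKerAlgEquivOfSurjective hρ, fun x => rfl⟩
  obtain ⟨ψ', hψ'⟩ : ∃ ψ' : S →ₐ[R] E ⧸ RingHom.ker ρ,
      ∀ s, e (ψ' s) = Ideal.Quotient.mk I s :=
    ⟨e.symm.toAlgHom.comp (Ideal.Quotient.mkₐ R I), fun s => by simp⟩
  haveI : IsLocalHom ψ'.toRingHom := ⟨fun s hs => by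
    have h1 : IsUnit (e (ψ' s)) := hs.map e
    rw [hψ'] at h1
    exact hmkI s h1⟩
  have hbij : Function.Bijective (ResidueField.map ψ'.toRingHom) := by
    refine ⟨(ResidueField.map ψ'.toRingHom).injective, ?_⟩
    intro y
    obtain ⟨z, rfl⟩ := residue_surjective y
    obtain ⟨s, hs⟩ : ∃ s, ψ' s = z := by
      obtain ⟨s, hs⟩ := Ideal.Quotient.mk_surjective (e z)
      exact ⟨s, e.injective (by rw [hψ', hs])⟩
    exact ⟨residue S s, by rw [ResidueField.map_residue]; exact congrArg _ hs⟩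
  obtain ⟨χ', hχ'⟩ := H E (RingHom.ker ρ) hJ'sq hlen ψ' hbij
  refine ⟨χ', fun s => ?_⟩
  have h1 : Ideal.Quotient.mk (RingHom.ker ρ) (χ' s) = ψ' s := DFunLike.congr_fun hχ' s
  rw [← he, h1, hψ']

end


section Core
variable {R S E T : Type u} [CommRing R] [CommRing S] [CommRing E] [CommRing T] [Algebra R S]
  [Algebra R E] [Algebra R T] (ρ : E →ₐ[R] T) (q₀ : S →ₐ[R] T) {F : Type u} [Field F]
  [Module F (RingHom.ker ρ)] (q : E →+* F)

/-- Kernel of a functional on `ker ρ`, as an ideal of `E`. -/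
def kerIdeal (hq : ∀ (e : E) (v : RingHom.ker ρ), q e • v = e • v)
    (l : Module.Dual F (RingHom.ker ρ)) : Ideal E where
  carrier := {x | ∃ h : x ∈ RingHom.ker ρ, l ⟨x, h⟩ = 0}
  add_mem' := by
    rintro a b ⟨ha, ha0⟩ ⟨hb, hb0⟩
    refine ⟨(RingHom.ker ρ).add_mem ha hb, ?_⟩
    have h1 : (⟨a + b, (RingHom.ker ρ).add_mem ha hb⟩ : RingHom.ker ρ) = ⟨a, ha⟩ + ⟨b, hb⟩ := rfl
    rw [h1, map_add, ha0, hb0, add_zero]
  zero_mem' := by
    refine ⟨(RingHom.ker ρ).zero_mem, ?_⟩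
    have h1 : (⟨0, (RingHom.ker ρ).zero_mem⟩ : RingHom.ker ρ) = 0 := rfl
    rw [h1, map_zero]
  smul_mem' := by
    rintro c x ⟨hx, hx0⟩
    refine ⟨(RingHom.ker ρ).smul_mem c hx, ?_⟩
    have h1 : (⟨c • x, (RingHom.ker ρ).smul_mem c hx⟩ : RingHom.ker ρ) =
        q c • (⟨x, hx⟩ : RingHom.ker ρ) := by
      rw [hq]; rfl
    rw [h1, map_smul, hx0, smul_zero]

theorem mem_kerIdeal (hq : ∀ (e : E) (v : RingHom.ker ρ), q e • v = e • v)
    (l : Module.Dual F (RingHom.ker ρ)) (x : E) :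
    x ∈ kerIdeal ρ q hq l ↔ ∃ h : x ∈ RingHom.ker ρ, l ⟨x, h⟩ = 0 := Iff.rfl

local notation "ι" => {l : Module.Dual F (RingHom.ker ρ) // l ≠ 0}

/-- The product trick. -/
theorem core (hρ : Function.Surjective ρ)
    (hq : ∀ (e : E) (v : RingHom.ker ρ), q e • v = e • v)
    (hsq : ∀ x y, ρ x = 0 → ρ y = 0 → x * y = 0)
    (hL : ∀ l : Module.Dual F (RingHom.ker ρ), l ≠ 0 →
      ∃ χ : S →ₐ[R] E ⧸ kerIdeal ρ q hq l,
        ∀ (s : S) (e : E), Ideal.Quotient.mk _ e = χ s → ρ e = q₀ s) :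
    ∃ χ : S →ₐ[R] E, ∀ s, ρ (χ s) = q₀ s := by
  classical
  have hL' : ∀ i : ι, ∃ χ : S →ₐ[R] E ⧸ kerIdeal ρ q hq i.1,
      ∀ (s : S) (e : E), Ideal.Quotient.mk _ e = χ s → ρ e = q₀ s := fun i => hL i.1 i.2
  choose χf hχf using hL'
  obtain ⟨c, hcdef⟩ : ∃ c : RingHom.ker ρ →ₗ[F] (ι → F), ∀ v i, c v i = i.1 v :=
    ⟨LinearMap.pi (fun i => i.1), fun v i => rfl⟩
  have hc : LinearMap.ker c = ⊥ := by
    rw [LinearMap.ker_eq_bot']
    intro v hv
    apply (Module.forall_dual_apply_eq_zero_iff F v).mp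
    intro l
    by_cases hl : l = 0
    · subst hl; exact LinearMap.zero_apply v
    · have h1 := congrFun hv ⟨l, hl⟩
      rw [hcdef] at h1
      exact h1
  obtain ⟨r, hr⟩ := LinearMap.exists_leftInverse_of_injective c hc
  have hrc : ∀ v, r (c v) = v := fun v => LinearMap.congr_fun hr v
  obtain ⟨Valid, hValid⟩ : ∃ Valid : S → E → (ι → F) → Prop, ∀ s x w, Valid s x w ↔
      (ρ x = q₀ s ∧ ∀ i : ι, ∃ v : RingHom.ker ρ,
        χf i s = Ideal.Quotient.mk _ (x + v.1) ∧ i.1 v = w i) :=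
    ⟨fun s x w => ρ x = q₀ s ∧ ∀ i : ι, ∃ v : RingHom.ker ρ,
        χf i s = Ideal.Quotient.mk _ (x + v.1) ∧ i.1 v = w i, fun s x w => Iff.rfl⟩
  have hex : ∀ s, ∃ x w, Valid s x w := by
    intro s
    obtain ⟨x, hx⟩ := hρ (q₀ s)
    have h1 : ∀ i : ι, ∃ v : RingHom.ker ρ, χf i s = Ideal.Quotient.mk _ (x + v.1) := by
      intro i
      obtain ⟨e, he⟩ := Ideal.Quotient.mk_surjective (χf i s)
      have h2 : ρ e = q₀ s := hχf i s e he
      refine ⟨⟨e - x, by rw [RingHom.mem_ker, map_sub, h2, hx, sub_self]⟩, ?_⟩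
      have h3 : x + (e - x) = e := by ring
      show χf i s = Ideal.Quotient.mk _ (x + (e - x))
      rw [h3, he]
    choose v hv using h1
    exact ⟨x, fun i => i.1 (v i), (hValid _ _ _).mpr ⟨hx, fun i => ⟨v i, hv i, rfl⟩⟩⟩
  have huniq : ∀ s x w x' w', Valid s x w → Valid s x' w' →
      x + (r w).1 = x' + (r w').1 := by
    intro s x w x' w' h h'
    obtain ⟨hx, hv⟩ := (hValid _ _ _).mp h
    obtain ⟨hx', hv'⟩ := (hValid _ _ _).mp h'
    have hv0 : x' - x ∈ RingHom.ker ρ := by rw [RingHom.mem_ker, map_sub, hx, hx', sub_self]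
    have hw : w = w' + c ⟨x' - x, hv0⟩ := by
      funext i
      obtain ⟨v, hv1, hv2⟩ := hv i
      obtain ⟨v', hv1', hv2'⟩ := hv' i
      have h1 : x + v.1 - (x' + v'.1) ∈ kerIdeal ρ q hq i.1 := by
        rw [← Ideal.Quotient.eq, ← hv1, ← hv1']
      obtain ⟨h2, h3⟩ := (mem_kerIdeal ρ q hq i.1 _).mp h1
      have h4 : (⟨x + v.1 - (x' + v'.1), h2⟩ : RingHom.ker ρ) = v - v' - ⟨x' - x, hv0⟩ := by
        apply Subtype.ext
        show x + v.1 - (x' + v'.1) = v.1 - v'.1 - (x' - x)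
        ring
      rw [h4, map_sub, map_sub, hv2, hv2'] at h3
      rw [Pi.add_apply, hcdef]
      linear_combination h3
    rw [hw, map_add, hrc]
    show x + ((r w').1 + (x' - x)) = x' + (r w').1
    ring
  have hadd : ∀ s s' x w x' w', Valid s x w → Valid s' x' w' →
      Valid (s + s') (x + x') (w + w') := by
    intro s s' x w x' w' h h'
    obtain ⟨hx, hv⟩ := (hValid _ _ _).mp h
    obtain ⟨hx', hv'⟩ := (hValid _ _ _).mp h'
    refine (hValid _ _ _).mpr ⟨by rw [map_add, map_add, hx, hx'], fun i => ?_⟩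
    obtain ⟨v, hv1, hv2⟩ := hv i
    obtain ⟨v', hv1', hv2'⟩ := hv' i
    refine ⟨v + v', ?_, by rw [map_add, hv2, hv2', Pi.add_apply]⟩
    rw [map_add, hv1, hv1', ← map_add]
    have h3 : x + v.1 + (x' + v'.1) = x + x' + (v.1 + v'.1) := by ring
    rw [h3]
    rfl
  have hmul : ∀ s s' x w x' w', Valid s x w → Valid s' x' w' →
      Valid (s * s') (x * x') (q x • w' + q x' • w) := by
    intro s s' x w x' w' h h'
    obtain ⟨hx, hv⟩ := (hValid _ _ _).mp h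
    obtain ⟨hx', hv'⟩ := (hValid _ _ _).mp h'
    refine (hValid _ _ _).mpr ⟨by rw [map_mul, map_mul, hx, hx'], fun i => ?_⟩
    obtain ⟨v, hv1, hv2⟩ := hv i
    obtain ⟨v', hv1', hv2'⟩ := hv' i
    refine ⟨x • v' + x' • v, ?_, ?_⟩
    · rw [map_mul, hv1, hv1', ← map_mul]
      have h0 : v.1 * v'.1 = 0 := hsq _ _ (RingHom.mem_ker.mp v.2) (RingHom.mem_ker.mp v'.2)
      have h3 : (x + v.1) * (x' + v'.1) = x * x' + (x * v'.1 + x' * v.1) := by
        linear_combination h0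
      rw [h3]
      rfl
    · rw [← hq, ← hq, map_add, map_smul, map_smul, hv2, hv2']
      rfl
  have hone : Valid 1 1 0 := by
    refine (hValid _ _ _).mpr ⟨by rw [map_one, map_one], fun i => ⟨0, ?_, by rw [map_zero]; rfl⟩⟩
    rw [map_one]
    show (1 : E ⧸ _) = Ideal.Quotient.mk _ (1 + (0 : E))
    rw [add_zero, map_one]
  have hzero : Valid 0 0 0 := by
    refine (hValid _ _ _).mpr ⟨by rw [map_zero, map_zero], fun i => ⟨0, ?_, by rw [map_zero]; rfl⟩⟩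
    rw [map_zero]
    show (0 : E ⧸ _) = Ideal.Quotient.mk _ (0 + (0 : E))
    rw [add_zero, map_zero]
  have halg : ∀ a : R, Valid (algebraMap R S a) (algebraMap R E a) 0 := by
    intro a
    refine (hValid _ _ _).mpr ⟨by rw [AlgHom.commutes, AlgHom.commutes],
      fun i => ⟨0, ?_, by rw [map_zero]; rfl⟩⟩
    rw [AlgHom.commutes]
    show algebraMap R (E ⧸ _) a = Ideal.Quotient.mk _ (algebraMap R E a + (0 : E))
    rw [add_zero]
    rfl
  have hρV : ∀ s x w, Valid s x w → ρ (x + (r w).1) = q₀ s := by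
    intro s x w h
    obtain ⟨hx, _⟩ := (hValid _ _ _).mp h
    rw [map_add, hx, RingHom.mem_ker.mp (r w).2, add_zero]
  choose xs ws hvalid using hex
  have hχeq : ∀ s x w, Valid s x w → xs s + (r (ws s)).1 = x + (r w).1 :=
    fun s x w h => huniq s _ _ _ _ (hvalid s) h
  have hrsmul : ∀ (e : E) (w : ι → F), ((r (q e • w)).1 : E) = e * (r w).1 := by
    intro e w
    rw [map_smul, hq]
    rfl
  have hVsq : ∀ w w' : ι → F, ((r w).1 : E) * (r w').1 = 0 := fun w w' =>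
    hsq _ _ (RingHom.mem_ker.mp (r w).2) (RingHom.mem_ker.mp (r w').2)
  obtain ⟨f, hf⟩ : ∃ f : S → E, ∀ s, f s = xs s + (r (ws s)).1 := ⟨_, fun s => rfl⟩
  have f1 : f 1 = 1 := by
    rw [hf, hχeq 1 1 0 hone, map_zero]
    show (1 : E) + 0 = 1
    rw [add_zero]
  have f0 : f 0 = 0 := by
    rw [hf, hχeq 0 0 0 hzero, map_zero]
    show (0 : E) + 0 = 0
    rw [add_zero]
  have fmul : ∀ s s', f (s * s') = f s * f s' := by
    intro s s'
    rw [hf, hf, hf, hχeq _ _ _ (hmul _ _ _ _ _ _ (hvalid s) (hvalid s')), map_add]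
    show xs s * xs s' + ((r (q (xs s) • ws s')).1 + (r (q (xs s') • ws s)).1) = _
    rw [hrsmul, hrsmul]
    linear_combination (-1 : E) * hVsq (ws s) (ws s')
  have fadd : ∀ s s', f (s + s') = f s + f s' := by
    intro s s'
    rw [hf, hf, hf, hχeq _ _ _ (hadd _ _ _ _ _ _ (hvalid s) (hvalid s')), map_add]
    show xs s + xs s' + ((r (ws s)).1 + (r (ws s')).1) = _
    ring
  have fcomm : ∀ a : R, f (algebraMap R S a) = algebraMap R E a := by
    intro a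
    rw [hf, hχeq _ _ _ (halg a), map_zero]
    show algebraMap R E a + 0 = _
    rw [add_zero]
  obtain ⟨χ, hχ⟩ : ∃ χ : S →ₐ[R] E, ∀ s, χ s = f s :=
    ⟨{ toFun := f, map_one' := f1, map_mul' := fmul, map_zero' := f0, map_add' := fadd,
       commutes' := fcomm }, fun s => rfl⟩
  refine ⟨χ, fun s => ?_⟩
  rw [hχ, hf]
  exact hρV s _ _ (hvalid s)

end Core


section Main
variable {R S : Type u} [CommRing R] [CommRing S] [IsLocalRing R] [IsLocalRing S]
  [IsNoetherianRing S] [Algebra R S] [IsLocalHom (algebraMap R S)]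

/-- Kernel a vector space over the residue field: product trick plus the length-one case. -/
theorem lemB (H : HypH R S) (I : Ideal S) (hIle : I ≤ maximalIdeal S) (k : ℕ)
    (hk : maximalIdeal S ^ k ≤ I)
    (E : Type u) [CommRing E] [Algebra R E] (ρ : E →ₐ[R] S ⧸ I) (hρ : Function.Surjective ρ)
    (hsq : ∀ x y, ρ x = 0 → ρ y = 0 → x * y = 0)
    (hmV : ∀ x y, ¬ IsUnit (ρ x) → ρ y = 0 → x * y = 0) :
    ∃ χ : S →ₐ[R] E, ∀ s, ρ (χ s) = Ideal.Quotient.mk I s := by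
  classical
  have hIne : I ≠ ⊤ := fun h =>
    (maximalIdeal.isMaximal S).ne_top (top_le_iff.mp (h ▸ hIle))
  haveI : Nontrivial (S ⧸ I) := Ideal.Quotient.nontrivial_iff.mpr hIne
  haveI : IsLocalRing (S ⧸ I) :=
    IsLocalRing.of_surjective' (Ideal.Quotient.mk I) Ideal.Quotient.mk_surjective
  obtain ⟨𝔫, h𝔫⟩ : ∃ 𝔫 : Ideal E, 𝔫 = (maximalIdeal (S ⧸ I)).comap ρ := ⟨_, rfl⟩
  haveI h𝔫max : 𝔫.IsMaximal := by
    rw [h𝔫]; exact Ideal.comap_isMaximal_of_surjective ρ hρ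
  have hmem𝔫 : ∀ x, x ∈ 𝔫 ↔ ¬ IsUnit (ρ x) := by
    intro x
    rw [h𝔫, Ideal.mem_comap, mem_maximalIdeal, mem_nonunits_iff]
  letI : Field (E ⧸ 𝔫) := Ideal.Quotient.field 𝔫
  have htor : Module.IsTorsionBySet E (RingHom.ker ρ) (𝔫 : Set E) := by
    intro x a
    apply Subtype.ext
    show (a : E) * (x : E) = 0
    exact hmV a.1 x.1 ((hmem𝔫 _).mp a.2) (RingHom.mem_ker.mp x.2)
  letI : Module (E ⧸ 𝔫) (RingHom.ker ρ) := Module.IsTorsionBySet.module htor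
  have hq : ∀ (e : E) (v : RingHom.ker ρ), (Ideal.Quotient.mk 𝔫) e • v = e • v :=
    fun e v => htor.mk_smul e v
  refine core ρ (Ideal.Quotient.mkₐ R I) (Ideal.Quotient.mk 𝔫) hρ hq hsq ?_
  intro l hl
  have hKle : ∀ a ∈ kerIdeal ρ (Ideal.Quotient.mk 𝔫) hq l, ρ a = 0 := by
    intro a ha
    obtain ⟨h, _⟩ := (mem_kerIdeal ρ _ hq l a).mp ha
    exact RingHom.mem_ker.mp h
  obtain ⟨ρl, hρl⟩ : ∃ ρl : (E ⧸ kerIdeal ρ (Ideal.Quotient.mk 𝔫) hq l) →ₐ[R] S ⧸ I,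
      ∀ a, ρl (Ideal.Quotient.mk _ a) = ρ a :=
    ⟨Ideal.Quotient.liftₐ _ ρ hKle, fun a => rfl⟩
  have hρls : Function.Surjective ρl := by
    intro t
    obtain ⟨a, rfl⟩ := hρ t
    exact ⟨Ideal.Quotient.mk _ a, hρl a⟩
  have hsql : ∀ x y, ρl x = 0 → ρl y = 0 → x * y = 0 := by
    intro x y hx hy
    obtain ⟨a, rfl⟩ := Ideal.Quotient.mk_surjective x
    obtain ⟨b, rfl⟩ := Ideal.Quotient.mk_surjective y
    rw [hρl] at hx hy
    rw [← map_mul, hsq a b hx hy, map_zero]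
  have hmemK : ∀ (a : E) (ha : a ∈ RingHom.ker ρ),
      a ∈ kerIdeal ρ (Ideal.Quotient.mk 𝔫) hq l ↔ l ⟨a, ha⟩ = 0 := by
    intro a ha
    rw [mem_kerIdeal]
    constructor
    · rintro ⟨h, h0⟩; exact h0
    · intro h0; exact ⟨ha, h0⟩
  have hlen : Module.length (E ⧸ kerIdeal ρ (Ideal.Quotient.mk 𝔫) hq l) (RingHom.ker ρl) = 1 := by
    rw [Module.length_eq_one_iff, isSimpleModule_iff_toSpanSingleton_surjective]
    obtain ⟨v₀, hv₀⟩ : ∃ v₀, l v₀ ≠ 0 := by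
      by_contra hcon
      push Not at hcon
      exact hl (LinearMap.ext hcon)
    constructor
    · have hmem : Ideal.Quotient.mk (kerIdeal ρ (Ideal.Quotient.mk 𝔫) hq l) v₀.1 ∈
          RingHom.ker ρl := by
        rw [RingHom.mem_ker, hρl]; exact RingHom.mem_ker.mp v₀.2
      refine ⟨⟨⟨_, hmem⟩, 0, ?_⟩⟩
      intro h
      have h1 : Ideal.Quotient.mk (kerIdeal ρ (Ideal.Quotient.mk 𝔫) hq l) v₀.1 = 0 :=
        congrArg Subtype.val h
      rw [Ideal.Quotient.eq_zero_iff_mem, hmemK v₀.1 v₀.2] at h1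
      exact hv₀ h1
    · intro x hx y
      obtain ⟨a, ha⟩ := Ideal.Quotient.mk_surjective x.1
      obtain ⟨b, hb⟩ := Ideal.Quotient.mk_surjective y.1
      have haV : a ∈ RingHom.ker ρ := by
        rw [RingHom.mem_ker, ← hρl, ha]; exact RingHom.mem_ker.mp x.2
      have hbV : b ∈ RingHom.ker ρ := by
        rw [RingHom.mem_ker, ← hρl, hb]; exact RingHom.mem_ker.mp y.2
      have hla : l ⟨a, haV⟩ ≠ 0 := by
        intro h0
        apply hx
        apply Subtype.ext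
        show x.1 = 0
        rw [← ha, Ideal.Quotient.eq_zero_iff_mem, hmemK a haV]
        exact h0
      obtain ⟨e, he⟩ := Ideal.Quotient.mk_surjective (l ⟨b, hbV⟩ / l ⟨a, haV⟩)
      refine ⟨Ideal.Quotient.mk _ e, ?_⟩
      apply Subtype.ext
      show Ideal.Quotient.mk _ e * x.1 = y.1
      rw [← ha, ← hb, ← map_mul, Ideal.Quotient.eq]
      have hV : e * a - b ∈ RingHom.ker ρ :=
        (RingHom.ker ρ).sub_mem ((RingHom.ker ρ).mul_mem_left e haV) hbV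
      rw [hmemK _ hV]
      have h4 : (⟨e * a - b, hV⟩ : RingHom.ker ρ) = e • ⟨a, haV⟩ - ⟨b, hbV⟩ := rfl
      rw [h4, map_sub, ← hq, map_smul, he, smul_eq_mul, div_mul_cancel₀ _ hla, sub_self]
  obtain ⟨χ, hχ⟩ := lemA H I hIle k hk _ ρl hρls hsql hlen
  refine ⟨χ, fun s e he => ?_⟩
  rw [← hρl, he, hχ s]
  rfl

/-- Reduction to the surjective case via the preimage subalgebra. -/
theorem lemC (H : HypH R S) (E E₀ : Type u) [CommRing E] [Algebra R E] [CommRing E₀]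
    [Algebra R E₀] [Nontrivial E₀]
    (ρ : E →ₐ[R] E₀) (hρ : Function.Surjective ρ) (χ₀ : S →ₐ[R] E₀) (k : ℕ)
    (hk : ∀ x ∈ maximalIdeal S ^ k, χ₀ x = 0)
    (hsq : ∀ x y, ρ x = 0 → ρ y = 0 → x * y = 0)
    (hmV : ∀ (s : S) (x y : E), s ∈ maximalIdeal S → ρ x = χ₀ s → ρ y = 0 → x * y = 0) :
    ∃ χ : S →ₐ[R] E, ∀ s, ρ (χ s) = χ₀ s := by
  classical
  obtain ⟨f, hf, hfs⟩ : ∃ f : S →ₐ[R] χ₀.range, (∀ s, (f s : E₀) = χ₀ s) ∧
      Function.Surjective f :=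
    ⟨χ₀.rangeRestrict, fun s => rfl, χ₀.rangeRestrict_surjective⟩
  have hImem : ∀ s, s ∈ RingHom.ker f ↔ χ₀ s = 0 := by
    intro s
    rw [RingHom.mem_ker, ← hf s]
    constructor
    · intro h; rw [h]; rfl
    · intro h; exact Subtype.ext h
  have hIne : RingHom.ker f ≠ ⊤ := by
    intro h
    have h1 : (1 : S) ∈ RingHom.ker f := h ▸ Submodule.mem_top
    rw [hImem, map_one] at h1
    exact one_ne_zero h1
  have hIle : RingHom.ker f ≤ maximalIdeal S := IsLocalRing.le_maximalIdeal hIne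
  have hkI : maximalIdeal S ^ k ≤ RingHom.ker f := fun x hx => (hImem x).mpr (hk x hx)
  obtain ⟨e, he⟩ : ∃ e : (S ⧸ RingHom.ker f) ≃ₐ[R] χ₀.range,
      ∀ s, e (Ideal.Quotient.mk _ s) = f s :=
    ⟨Ideal.quotientKerAlgEquivOfSurjective hfs, fun s => rfl⟩
  obtain ⟨E₁, hE₁⟩ : ∃ E₁ : Subalgebra R E, ∀ x, x ∈ E₁ ↔ ρ x ∈ χ₀.range :=
    ⟨χ₀.range.comap ρ, fun x => Iff.rfl⟩
  obtain ⟨ρ', hρ'⟩ : ∃ ρ' : E₁ →ₐ[R] χ₀.range, ∀ x, (ρ' x : E₀) = ρ x.1 :=
    ⟨(ρ.comp E₁.val).codRestrict χ₀.range (fun x => (hE₁ x.1).mp x.2), fun x => rfl⟩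
  obtain ⟨ρ₁, hρ₁⟩ : ∃ ρ₁ : E₁ →ₐ[R] S ⧸ RingHom.ker f, ∀ x, e (ρ₁ x) = ρ' x :=
    ⟨e.symm.toAlgHom.comp ρ', fun x => by simp⟩
  have hkey : ∀ (x : E₁) (s : S), ρ₁ x = Ideal.Quotient.mk _ s ↔ ρ x.1 = χ₀ s := by
    intro x s
    constructor
    · intro h
      have h1 := congrArg e h
      rw [hρ₁, he] at h1
      rw [← hρ', h1, hf]
    · intro h
      apply e.injective
      rw [hρ₁, he]
      apply Subtype.ext
      rw [hρ', hf, h]
  have hρ₁s : Function.Surjective ρ₁ := by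
    intro t
    obtain ⟨s, rfl⟩ := Ideal.Quotient.mk_surjective t
    obtain ⟨x, hx⟩ := hρ (χ₀ s)
    have hxE : x ∈ E₁ := (hE₁ x).mpr (by rw [hx]; exact AlgHom.mem_range_self χ₀ s)
    exact ⟨⟨x, hxE⟩, (hkey _ s).mpr hx⟩
  have hzero : ∀ x : E₁, ρ₁ x = 0 ↔ ρ x.1 = 0 := by
    intro x
    have h1 := hkey x 0
    rwa [map_zero, map_zero] at h1
  have hsq₁ : ∀ x y : E₁, ρ₁ x = 0 → ρ₁ y = 0 → x * y = 0 := fun x y hx hy =>
    Subtype.ext (hsq _ _ ((hzero x).mp hx) ((hzero y).mp hy))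
  have hmV₁ : ∀ x y : E₁, ¬ IsUnit (ρ₁ x) → ρ₁ y = 0 → x * y = 0 := by
    intro x y hx hy
    obtain ⟨s, hs⟩ := Ideal.Quotient.mk_surjective (ρ₁ x)
    have hsm : s ∈ maximalIdeal S := by
      rw [mem_maximalIdeal, mem_nonunits_iff]
      intro hu
      exact hx (hs ▸ hu.map (Ideal.Quotient.mk _))
    have h1 := (hkey x s).mp hs.symm
    exact Subtype.ext (hmV s x.1 y.1 hsm h1 ((hzero y).mp hy))
  obtain ⟨χ₁, hχ₁⟩ := lemB H (RingHom.ker f) hIle k hkI E₁ ρ₁ hρ₁s hsq₁ hmV₁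
  refine ⟨E₁.val.comp χ₁, fun s => ?_⟩
  exact (hkey (χ₁ s) s).mp (hχ₁ s)

/-- One step of the filtration `K ↦ 𝔪 K`. -/
theorem stepK (H : HypH R S) (A : Type u) [CommRing A] [IsLocalRing A] [Algebra R A]
    (J : Ideal A) (hJ : J ^ 2 = ⊥) (n : ℕ) (hn : maximalIdeal A ^ n = ⊥)
    [IsLocalRing (A ⧸ J)] (ψ : S →ₐ[R] A ⧸ J) [IsLocalHom ψ.toRingHom]
    (K : Ideal A) (hKJ : K ≤ J) (χK : S →ₐ[R] A ⧸ K)
    (hχK : ∀ (s : S) (a : A), Ideal.Quotient.mk K a = χK s → Ideal.Quotient.mk J a = ψ s) :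
    ∃ χ : S →ₐ[R] A ⧸ (maximalIdeal A * K),
      ∀ (s : S) (a : A), Ideal.Quotient.mk _ a = χ s → Ideal.Quotient.mk J a = ψ s := by
  classical
  have hψm : ∀ (s : S) (a : A), s ∈ maximalIdeal S → Ideal.Quotient.mk J a = ψ s →
      a ∈ maximalIdeal A := by
    intro s a hs ha
    rw [mem_maximalIdeal, mem_nonunits_iff]
    intro hu
    have h1 : IsUnit (ψ s) := ha ▸ hu.map (Ideal.Quotient.mk J)
    exact (mem_nonunits_iff.mp ((mem_maximalIdeal _).mp hs))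
      (isUnit_of_map_unit ψ.toRingHom s h1)
  have hJne : J ≠ ⊤ := Ideal.Quotient.nontrivial_iff.mp inferInstance
  have hle : maximalIdeal A * K ≤ K := Ideal.mul_le_right
  haveI : Nontrivial (A ⧸ K) :=
    Ideal.Quotient.nontrivial_iff.mpr (fun h => hJne (top_le_iff.mp (h ▸ hKJ)))
  obtain ⟨ρ, hρ⟩ : ∃ ρ : (A ⧸ (maximalIdeal A * K)) →ₐ[R] A ⧸ K,
      ∀ a, ρ (Ideal.Quotient.mk _ a) = Ideal.Quotient.mk K a :=
    ⟨Ideal.Quotient.factorₐ R hle, fun a => Ideal.Quotient.factorₐ_apply_mk R hle a⟩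
  have hρs : Function.Surjective ρ := by
    intro y
    obtain ⟨a, rfl⟩ := Ideal.Quotient.mk_surjective y
    exact ⟨_, hρ a⟩
  have hk : ∀ x ∈ maximalIdeal S ^ n, χK x = 0 := by
    have h5 : (maximalIdeal S).map χK.toRingHom ≤ (maximalIdeal A).map (Ideal.Quotient.mk K) := by
      rw [Ideal.map_le_iff_le_comap]
      intro s hs
      rw [Ideal.mem_comap]
      obtain ⟨a, ha⟩ := Ideal.Quotient.mk_surjective (χK s)
      have h6 : a ∈ maximalIdeal A := hψm s a hs (hχK s a ha)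
      show χK s ∈ _
      rw [← ha]
      exact Ideal.mem_map_of_mem _ h6
    have h4 : (maximalIdeal S ^ n).map χK.toRingHom ≤ ⊥ := by
      rw [Ideal.map_pow]
      calc (Ideal.map χK.toRingHom (maximalIdeal S)) ^ n
          ≤ ((maximalIdeal A).map (Ideal.Quotient.mk K)) ^ n := Ideal.pow_right_mono h5 n
        _ = ((maximalIdeal A) ^ n).map (Ideal.Quotient.mk K) := (Ideal.map_pow _ _ _).symm
        _ = ⊥ := by rw [hn, Ideal.map_bot]
    intro x hx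
    exact Ideal.mem_bot.mp (h4 (Ideal.mem_map_of_mem χK.toRingHom hx))
  have hsq : ∀ x y, ρ x = 0 → ρ y = 0 → x * y = 0 := by
    intro x y hx hy
    obtain ⟨a, rfl⟩ := Ideal.Quotient.mk_surjective x
    obtain ⟨b, rfl⟩ := Ideal.Quotient.mk_surjective y
    rw [hρ, Ideal.Quotient.eq_zero_iff_mem] at hx hy
    have hab : a * b ∈ J ^ 2 := by
      rw [pow_two]; exact Ideal.mul_mem_mul (hKJ hx) (hKJ hy)
    rw [hJ, Ideal.mem_bot] at hab
    rw [← map_mul, hab, map_zero]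
  have hmV : ∀ (s : S) (x y : A ⧸ (maximalIdeal A * K)), s ∈ maximalIdeal S →
      ρ x = χK s → ρ y = 0 → x * y = 0 := by
    intro s x y hs hx hy
    obtain ⟨a, rfl⟩ := Ideal.Quotient.mk_surjective x
    obtain ⟨b, rfl⟩ := Ideal.Quotient.mk_surjective y
    rw [hρ] at hx hy
    rw [Ideal.Quotient.eq_zero_iff_mem] at hy
    have ha : a ∈ maximalIdeal A := hψm s a hs (hχK s a hx)
    rw [← map_mul, Ideal.Quotient.eq_zero_iff_mem]
    exact Ideal.mul_mem_mul ha hy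
  obtain ⟨χ, hχ⟩ := lemC H _ _ ρ hρs χK n hk hsq hmV
  refine ⟨χ, fun s a ha => ?_⟩
  apply hχK s a
  rw [← hρ, ha, hχ]

/-- The lifting property of S9315 from the small-extension hypothesis. -/
theorem main (H : HypH R S) (A : Type u) [CommRing A] [IsLocalRing A] [Algebra R A]
    (J : Ideal A) (hJ : J ^ 2 = ⊥) (n : ℕ) (hn : maximalIdeal A ^ n = ⊥)
    [IsLocalRing (A ⧸ J)] (ψ : S →ₐ[R] A ⧸ J) [IsLocalHom ψ.toRingHom] :
    ∃ χ : S →ₐ[R] A, (Ideal.Quotient.mkₐ R J).comp χ = ψ := by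
  classical
  have hP : ∀ i : ℕ, ∃ χ : S →ₐ[R] A ⧸ (maximalIdeal A ^ i * J),
      ∀ (s : S) (a : A), Ideal.Quotient.mk _ a = χ s → Ideal.Quotient.mk J a = ψ s := by
    intro i
    induction i with
    | zero =>
      have h0 : maximalIdeal A ^ 0 * J = J := by rw [pow_zero, one_mul]
      rw [h0]
      exact ⟨ψ, fun s a ha => ha⟩
    | succ i ih =>
      obtain ⟨χK, hχK⟩ := ih
      have hKK : maximalIdeal A ^ (i + 1) * J = maximalIdeal A * (maximalIdeal A ^ i * J) := by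
        rw [pow_succ', mul_assoc]
      rw [hKK]
      exact stepK H A J hJ n hn ψ _ Ideal.mul_le_right χK hχK
  obtain ⟨χb, hχb⟩ := hP n
  have hbot : maximalIdeal A ^ n * J = ⊥ := by rw [hn, Ideal.bot_mul]
  obtain ⟨b, hb⟩ : ∃ b : (A ⧸ (maximalIdeal A ^ n * J)) →ₐ[R] A,
      ∀ a, b (Ideal.Quotient.mk _ a) = a :=
    ⟨Ideal.Quotient.liftₐ _ (AlgHom.id R A) (fun a ha => by
      rw [hbot, Ideal.mem_bot] at ha; exact ha), fun a => rfl⟩
  refine ⟨b.comp χb, AlgHom.ext fun s => ?_⟩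
  obtain ⟨a, ha⟩ := Ideal.Quotient.mk_surjective (χb s)
  show Ideal.Quotient.mk J (b (χb s)) = ψ s
  rw [← ha, hb]
  exact hχb s a ha

end Main

end Groth.Agent.H27.SmallExt
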