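import Mathlib

/-!
# Extending an element to a system of parameters (helper27)
-/

set_option autoImplicit false
set_option linter.style.haveILetI false
set_option linter.unusedSectionVars false
universe u

namespace Groth.Agent.H27.SopExt

variable (R : Type u) [CommRing R] [IsNoetherianRing R] [IsLocalRing R]

theorem maximalIdeal_height_eq (d : ℕ) (hd : ringKrullDim R = d) :
    (IsLocalRing.maximalIdeal R).height = d := by
  have h := IsLocalRing.maximalIdeal_height_eq_ringKrullDim (R := R)
  rw [hd] at h
  exact_mod_cast h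

theorem sop_claim (d : ℕ) (hd : ringKrullDim R = d) (f : R)
    (hmin : ∀ p ∈ minimalPrimes R, f ∉ p) (k : ℕ) :
    ∀ j : ℕ, j ≤ d - 1 → ∃ g : Fin j → R,
      (∀ i, g i ∈ IsLocalRing.maximalIdeal R ^ (k + 1)) ∧
      ∀ Q : Ideal R, Q.IsPrime → Ideal.span (insert f (Set.range g)) ≤ Q →
        ((j + 1 : ℕ) : ℕ∞) ≤ Q.height := by
  have hmh := maximalIdeal_height_eq R d hd
  intro j
  induction j with
  | zero =>
    intro _
    refine ⟨Fin.elim0, fun i => i.elim0, fun Q hQ hle => ?_⟩
    haveI := hQ
    obtain ⟨P, hP, hPQ⟩ := Ideal.exists_minimalPrimes_le (I := ⊥) (J := Q) bot_le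
    have hfQ : f ∈ Q := hle (Ideal.subset_span (Set.mem_insert _ _))
    have hfP : f ∉ P := hmin P hP
    haveI : P.IsPrime := hP.1.1
    have hlt : P < Q := lt_of_le_of_ne hPQ (fun h => hfP (h ▸ hfQ))
    have h2 := Ideal.height_strict_mono_of_isPrime hlt
    simp only [zero_add, Nat.cast_one]
    exact Order.one_le_iff_pos.mpr (lt_of_le_of_lt (zero_le) h2)
  | succ j ih =>
    intro hj
    obtain ⟨g, hg, hQ⟩ := ih (by omega)
    classical
    have hfin : (Ideal.span (insert f (Set.range g))).minimalPrimes.Finite :=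
      Ideal.finite_minimalPrimes_of_isNoetherianRing R _
    have hne : ∀ P ∈ (Ideal.span (insert f (Set.range g))).minimalPrimes,
        P ≠ IsLocalRing.maximalIdeal R := by
      intro P hP hPm
      have h1 : P.height ≤ ((insert f (Finset.univ.image g) : Finset R).card : ℕ∞) := by
        apply Ideal.height_le_card_of_mem_minimalPrimes_span_finset
        have hc : ((insert f (Finset.univ.image g) : Finset R) : Set R) =
            insert f (Set.range g) := by
          simp
        rw [hc]
        exact hP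
      have h2 : (insert f (Finset.univ.image g) : Finset R).card ≤ j + 1 := by
        refine (Finset.card_insert_le _ _).trans ?_
        have h3 := Finset.card_image_le (s := (Finset.univ : Finset (Fin j))) (f := g)
        simp at h3
        omega
      rw [hPm, hmh] at h1
      have h3 : (d : ℕ∞) ≤ ((j + 1 : ℕ) : ℕ∞) := h1.trans (by exact_mod_cast h2)
      have h4 : d ≤ j + 1 := by exact_mod_cast h3
      omega
    have hex : ∃ y ∈ IsLocalRing.maximalIdeal R ^ (k + 1),
        ∀ P ∈ (Ideal.span (insert f (Set.range g))).minimalPrimes, y ∉ P := by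
      by_contra hcon
      push_neg at hcon
      have hsub : ((IsLocalRing.maximalIdeal R ^ (k + 1) : Ideal R) : Set R) ⊆
          ⋃ P ∈ (↑hfin.toFinset : Set (Ideal R)), ((id P : Ideal R) : Set R) := by
        intro y hy
        obtain ⟨P, hP, hyP⟩ := hcon y hy
        refine Set.mem_biUnion (x := P) ?_ hyP
        simpa using hP
      rw [Ideal.subset_union_prime (f := id) ⊥ ⊥] at hsub
      · obtain ⟨P, hPS, hmP⟩ := hsub
        have hP : P ∈ (Ideal.span (insert f (Set.range g))).minimalPrimes := by simpa using hPS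
        haveI hPp : P.IsPrime := hP.1.1
        have hmP' : IsLocalRing.maximalIdeal R ≤ P := Ideal.IsPrime.le_of_pow_le hmP
        exact hne P hP (le_antisymm (IsLocalRing.le_maximalIdeal hPp.ne_top) hmP')
      · intro P hPS _ _
        have hP : P ∈ (Ideal.span (insert f (Set.range g))).minimalPrimes := by simpa using hPS
        exact hP.1.1
    obtain ⟨y, hym, hy⟩ := hex
    refine ⟨Fin.snoc (α := fun _ => R) g y, fun i => ?_, fun Q hQp hle => ?_⟩
    · refine Fin.lastCases ?_ (fun i => ?_) i
      · rw [Fin.snoc_last]; exact hym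
      · rw [Fin.snoc_castSucc]; exact hg i
    · haveI := hQp
      have hsp : Ideal.span (insert f (Set.range (Fin.snoc (α := fun _ => R) g y))) =
          Ideal.span (insert f (Set.range g)) ⊔ Ideal.span {y} := by
        rw [Fin.range_snoc, Set.insert_comm, Ideal.span_insert, sup_comm]
      rw [hsp] at hle
      have hIQ : Ideal.span (insert f (Set.range g)) ≤ Q := le_sup_left.trans hle
      have hyQ : y ∈ Q := hle (Ideal.mem_sup_right (Ideal.mem_span_singleton_self y))
      obtain ⟨P, hP, hPQ⟩ := Ideal.exists_minimalPrimes_le hIQ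
      haveI : P.IsPrime := hP.1.1
      have hlt : P < Q := lt_of_le_of_ne hPQ (fun h => hy P hP (h ▸ hyQ))
      have h1 := hQ P hP.1.1 hP.1.2
      have h2 := Ideal.height_strict_mono_of_isPrime hlt
      have h3 := Order.add_one_le_of_lt (lt_of_le_of_lt h1 h2)
      exact_mod_cast h3

theorem sop_exists (d : ℕ) (hd : ringKrullDim R = d) (f : R)
    (hf : f ∈ IsLocalRing.maximalIdeal R)
    (hmin : ∀ p ∈ minimalPrimes R, f ∉ p) (k : ℕ) :
    ∃ g : Fin (d - 1) → R, (∀ i, g i ∈ IsLocalRing.maximalIdeal R ^ (k + 1)) ∧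
      IsLocalRing.maximalIdeal R ≤ (Ideal.span (insert f (Set.range g))).radical := by
  have hmh := maximalIdeal_height_eq R d hd
  obtain ⟨g, hg, hQ⟩ := sop_claim R d hd f hmin k (d - 1) le_rfl
  refine ⟨g, hg, ?_⟩
  have hIm : Ideal.span (insert f (Set.range g)) ≤ IsLocalRing.maximalIdeal R := by
    rw [Ideal.span_le]
    rintro x (rfl | ⟨i, rfl⟩)
    · exact hf
    · exact Ideal.pow_le_self (Nat.succ_ne_zero k) (hg i)
  have h0 := hQ _ inferInstance hIm
  rw [hmh] at h0
  have hd1 : d - 1 + 1 = d := by
    have : d - 1 + 1 ≤ d := by exact_mod_cast h0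
    omega
  rw [Ideal.radical_eq_sInf]
  apply le_sInf
  rintro Q ⟨hQle, hQp⟩
  haveI := hQp
  have h1 := hQ Q hQp hQle
  rw [hd1] at h1
  by_contra hmQ
  have hlt : Q < IsLocalRing.maximalIdeal R :=
    lt_of_le_of_ne (IsLocalRing.le_maximalIdeal hQp.ne_top) (fun h => hmQ (h ▸ le_rfl))
  have h2 := Ideal.height_strict_mono_of_isPrime hlt
  rw [hmh] at h2
  exact absurd (lt_of_le_of_lt h1 h2) (lt_irrefl _)

end Groth.Agent.H27.SopExt
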