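import Mathlib
import Groth.Agent.H27.CohenLift
import Groth.Agent.H27.RegSmooth
import Groth.Agent.H27.FieldSmooth
import Groth.Agent.H27.AdicSmooth
import Groth.Agent.H3.MvPSDim

/-!
# Local rings with `𝔪² = 0` as quotients `B/𝔫²` of regular local rings: helper lemmas
-/

set_option autoImplicit false
universe u
open IsLocalRing

namespace Groth.Agent.H27.SqZero

open Groth.Agent.H27.CohenLift

theorem lp_of_field_charP (p : ℕ) [Fact p.Prime] (W : Type*) [Field W] [CharP W p]
    (E : Type*) [CommRing E] [CharP E p] : LP W E := by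
  intro I hI g
  letI : Algebra (ZMod p) W := ZMod.algebra W p
  haveI : Algebra.FormallySmooth (ZMod p) W :=
    Groth.Agent.H27.FieldSmooth.formallySmooth_zmod p W
  have hfs : (algebraMap (ZMod p) W).FormallySmooth :=
    RingHom.formallySmooth_algebraMap.mpr inferInstance
  letI : Algebra (ZMod p) E := ZMod.algebra E p
  obtain ⟨w, -, hw⟩ := Groth.Agent.H27.AdicSmooth.exists_lift_ringHom_nilpotent
    (algebraMap (ZMod p) W) hfs I hI (algebraMap (ZMod p) E) g (Subsingleton.elim _ _)
  exact ⟨w, hw⟩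

theorem indep_of_minimal {R : Type*} [CommRing R] [IsLocalRing R] {ι : Type*} [Fintype ι]
    (x : ι → R) (hx : Ideal.span (Set.range x) = maximalIdeal R)
    (hcard : Fintype.card ι = (maximalIdeal R).spanFinrank)
    (a : ι → R) (ha : ∑ i, a i * x i = 0) (j : ι) : a j ∈ maximalIdeal R := by
  classical
  by_contra hnm
  have hunit : IsUnit (a j) := by
    by_contra hnu
    exact hnm ((mem_maximalIdeal _).mpr hnu)
  obtain ⟨w, hw⟩ := hunit.exists_left_inv
  have hxm : ∀ i, x i ∈ maximalIdeal R := fun i => hx ▸ Ideal.subset_span ⟨i, rfl⟩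
  obtain ⟨T, hT⟩ : ∃ T : Finset R, T = (Finset.univ.erase j).image x := ⟨_, rfl⟩
  have hTm : Ideal.span (T : Set R) ≤ maximalIdeal R := by
    rw [Ideal.span_le]
    intro y hy
    rw [hT, Finset.mem_coe, Finset.mem_image] at hy
    obtain ⟨i, _, rfl⟩ := hy
    exact hxm i
  have hxj : x j ∈ Ideal.span (T : Set R) := by
    have h1 := Finset.add_sum_erase Finset.univ (fun i => a i * x i) (Finset.mem_univ j)
    rw [ha] at h1
    have h2 : a j * x j = - ∑ i ∈ Finset.univ.erase j, a i * x i :=
      eq_neg_of_add_eq_zero_left h1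
    have h3 : x j = w * (a j * x j) := by rw [← mul_assoc, hw, one_mul]
    rw [h3, h2]
    apply Ideal.mul_mem_left
    apply neg_mem
    refine Ideal.sum_mem _ (fun i hi => ?_)
    apply Ideal.mul_mem_left
    apply Ideal.subset_span
    rw [hT]
    exact Finset.mem_coe.mpr (Finset.mem_image_of_mem x hi)
  have hle : maximalIdeal R ≤ Ideal.span (T : Set R) := by
    rw [← hx, Ideal.span_le]
    rintro _ ⟨i, rfl⟩
    by_cases hij : i = j
    · rw [hij]; exact hxj
    · apply Ideal.subset_span
      rw [hT]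
      exact Finset.mem_coe.mpr (Finset.mem_image_of_mem x
        (Finset.mem_erase.mpr ⟨hij, Finset.mem_univ i⟩))
  have heq : Submodule.span R (T : Set R) = maximalIdeal R := le_antisymm hTm hle
  have h4 := Submodule.spanFinrank_span_le_ncard_of_finite (R := R) (Finset.finite_toSet T)
  have h5 : (T : Set R).ncard ≤ Fintype.card ι - 1 := by
    rw [Set.ncard_coe_finset, hT]
    refine Finset.card_image_le.trans ?_
    rw [Finset.card_erase_of_mem (Finset.mem_univ j), Finset.card_univ]
  have h6 : (maximalIdeal R).spanFinrank ≤ Fintype.card ι - 1 := by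
    have h7 : (Submodule.span R (T : Set R)).spanFinrank ≤ Fintype.card ι - 1 := h4.trans h5
    rwa [heq] at h7
  have hpos : 0 < Fintype.card ι := Fintype.card_pos_iff.mpr ⟨j⟩
  omega

theorem gens_with {R : Type*} [CommRing R] [IsLocalRing R] [IsNoetherianRing R] (p : R)
    (hp : p ∈ maximalIdeal R) (hp2 : p ∉ maximalIdeal R ^ 2) :
    ∃ (r : ℕ) (y : Fin r → R), Ideal.span (insert p (Set.range y)) = maximalIdeal R ∧
      r + 1 = (maximalIdeal R).spanFinrank := by
  classical
  have hfg : (maximalIdeal R).FG := IsNoetherian.noetherian _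
  obtain ⟨t, htc, hts⟩ := Submodule.FG.exists_span_finset_card_eq_spanFinrank hfg
  have htm : ∀ a ∈ t, a ∈ maximalIdeal R := fun a ha => by
    rw [← hts]; exact Submodule.subset_span ha
  have hpt : p ∈ Submodule.span R (t : Set R) := by rw [hts]; exact hp
  obtain ⟨f, -, hf⟩ := Submodule.mem_span_finset.mp hpt
  have hex : ∃ a₀ ∈ t, f a₀ ∉ maximalIdeal R := by
    by_contra hcon
    push_neg at hcon
    apply hp2
    rw [← hf, pow_two]
    refine Ideal.sum_mem _ (fun a ha => ?_)
    rw [smul_eq_mul]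
    exact Ideal.mul_mem_mul (hcon a ha) (htm a ha)
  obtain ⟨a₀, ha₀, hfa₀⟩ := hex
  have hunit : IsUnit (f a₀) := by
    by_contra hnu
    exact hfa₀ ((mem_maximalIdeal _).mpr hnu)
  obtain ⟨w, hw⟩ := hunit.exists_left_inv
  obtain ⟨t₁, ht₁⟩ : ∃ t₁ : Finset R, t₁ = t.erase a₀ := ⟨_, rfl⟩
  obtain ⟨r, hr⟩ : ∃ r, r = t₁.card := ⟨_, rfl⟩
  have hcard : r + 1 = t.card := by
    rw [hr, ht₁, Finset.card_erase_of_mem ha₀]
    have : 0 < t.card := Finset.card_pos.mpr ⟨a₀, ha₀⟩
    omega
  let e : t₁ ≃ Fin r := Finset.equivFinOfCardEq hr.symm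
  refine ⟨r, fun i => (e.symm i : R), ?_, hcard.trans htc⟩
  have h1 : Set.range (fun i => ((e.symm i : t₁) : R)) = (t₁ : Set R) := by
    ext y
    constructor
    · rintro ⟨i, rfl⟩
      exact (e.symm i).2
    · intro hy
      refine ⟨e ⟨y, hy⟩, ?_⟩
      show ((e.symm (e ⟨y, hy⟩) : t₁) : R) = y
      rw [Equiv.symm_apply_apply]
  rw [h1]
  apply le_antisymm
  · rw [Ideal.span_le]
    intro b hb
    rcases hb with rfl | hb
    · exact hp
    · rw [ht₁] at hb
      exact htm b (Finset.mem_of_mem_erase hb)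
  · have ha₀S : a₀ ∈ Ideal.span (insert p (t₁ : Set R)) := by
      have h2 := Finset.add_sum_erase t (fun a => f a • a) ha₀
      rw [hf] at h2
      have h3 : f a₀ * a₀ = p - ∑ x ∈ t.erase a₀, f x • x := eq_sub_of_add_eq h2
      have h4 : a₀ = w * (f a₀ * a₀) := by rw [← mul_assoc, hw, one_mul]
      rw [h4, h3]
      apply Ideal.mul_mem_left
      apply Ideal.sub_mem
      · exact Ideal.subset_span (Set.mem_insert _ _)
      · refine Ideal.sum_mem _ (fun b hb => ?_)
        rw [smul_eq_mul]
        apply Ideal.mul_mem_left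
        apply Ideal.subset_span
        apply Set.mem_insert_of_mem
        rw [ht₁]
        exact Finset.mem_coe.mpr hb
    intro b hb
    rw [← hts] at hb
    refine Submodule.span_le.mpr ?_ hb
    intro c hc
    by_cases hca : c = a₀
    · rw [hca]; exact ha₀S
    · apply Ideal.subset_span
      apply Set.mem_insert_of_mem
      rw [ht₁]
      exact Finset.mem_coe.mpr (Finset.mem_erase.mpr ⟨hca, hc⟩)

theorem le_dim_gen (Λ : Type u) [CommRing Λ] : ∀ d : ℕ,
    ((d : ℕ) : WithBot ℕ∞) + ringKrullDim Λ ≤ ringKrullDim (MvPowerSeries (Fin d) Λ)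
  | 0 => by
    rw [Nat.cast_zero, zero_add]
    exact ringKrullDim_le_of_surjective (MvPowerSeries.constantCoeff (σ := Fin 0) (R := Λ))
      (fun a => ⟨MvPowerSeries.C a, MvPowerSeries.constantCoeff_C a⟩)
  | d + 1 => by
    rw [ringKrullDim_eq_of_ringEquiv (MvPowerSeries.finSuccEquiv Λ d).toRingEquiv]
    refine le_trans ?_ ringKrullDim_succ_le_ringKrullDim_powerseries
    rw [Nat.cast_add, Nat.cast_one, add_right_comm]
    gcongr
    exact le_dim_gen Λ d

theorem maximalIdeal_mvPowerSeries_eq {Λ : Type*} [CommRing Λ] [IsLocalRing Λ] (π : Λ)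
    (hπ : maximalIdeal Λ = Ideal.span {π}) (r : ℕ) :
    maximalIdeal (MvPowerSeries (Fin r) Λ) =
      Ideal.span (insert (MvPowerSeries.C π)
        (Set.range (MvPowerSeries.X : Fin r → MvPowerSeries (Fin r) Λ))) := by
  apply le_antisymm
  · intro f hf
    rw [mem_maximalIdeal, mem_nonunits_iff, MvPowerSeries.isUnit_iff_constantCoeff] at hf
    have h1 : MvPowerSeries.constantCoeff f ∈ maximalIdeal Λ := (mem_maximalIdeal _).mpr hf
    rw [hπ, Ideal.mem_span_singleton'] at h1
    obtain ⟨c, hc⟩ := h1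
    have h2 : f = (f - MvPowerSeries.C (MvPowerSeries.constantCoeff f)) +
        MvPowerSeries.C c * MvPowerSeries.C π := by
      rw [← map_mul, hc]; ring
    rw [h2]
    refine Ideal.add_mem _ ?_ ?_
    · have h3 : f - MvPowerSeries.C (MvPowerSeries.constantCoeff f) ∈ Ideal.span
          (Set.range (MvPowerSeries.X : Fin r → MvPowerSeries (Fin r) Λ)) := by
        apply Groth.Agent.H3.MvPSDim.mem_span_X
        rw [map_sub, MvPowerSeries.constantCoeff_C, sub_self]
      exact Ideal.span_mono (Set.subset_insert _ _) h3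
    · exact Ideal.mul_mem_left _ _ (Ideal.subset_span (Set.mem_insert _ _))
  · rw [Ideal.span_le]
    intro g hg
    rw [SetLike.mem_coe, mem_maximalIdeal, mem_nonunits_iff,
      MvPowerSeries.isUnit_iff_constantCoeff]
    rcases hg with rfl | ⟨i, rfl⟩
    · rw [MvPowerSeries.constantCoeff_C]
      have hπm : π ∈ maximalIdeal Λ := by rw [hπ]; exact Ideal.mem_span_singleton_self _
      exact (mem_maximalIdeal _).mp hπm
    · rw [MvPowerSeries.constantCoeff_X]
      exact not_isUnit_zero

theorem isRegularLocalRing_mvPowerSeries_dvr (Λ : Type u) [CommRing Λ] [IsDomain Λ]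
    [IsDiscreteValuationRing Λ] (π : Λ) (hπ : maximalIdeal Λ = Ideal.span {π}) (r : ℕ) :
    IsRegularLocalRing (MvPowerSeries (Fin r) Λ) := by
  apply IsRegularLocalRing.of_spanFinrank_maximalIdeal_le
  have hdim := le_dim_gen Λ r
  rw [IsDiscreteValuationRing.ringKrullDim_eq_one Λ] at hdim
  refine le_trans ?_ hdim
  rw [maximalIdeal_mvPowerSeries_eq π hπ r]
  have hfin : (insert (MvPowerSeries.C π)
      (Set.range (MvPowerSeries.X : Fin r → MvPowerSeries (Fin r) Λ))).Finite :=
    (Set.finite_range _).insert _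
  have h4 := Submodule.spanFinrank_span_le_ncard_of_finite (R := MvPowerSeries (Fin r) Λ) hfin
  have h5 : (Set.range (MvPowerSeries.X : Fin r → MvPowerSeries (Fin r) Λ)).ncard ≤ r := by
    calc _ ≤ Nat.card (Fin r) := by
          rw [← Set.image_univ]
          refine (Set.ncard_image_le Set.finite_univ).trans ?_
          rw [Set.ncard_univ]
      _ = r := by simp
  have h6 : (insert (MvPowerSeries.C π)
      (Set.range (MvPowerSeries.X : Fin r → MvPowerSeries (Fin r) Λ))).ncard ≤ r + 1 :=
    (Set.ncard_insert_le _ _).trans (Nat.add_le_add_right h5 1)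
  exact_mod_cast h4.trans h6

theorem sqzero_iso {A B : Type*} [CommRing A] [CommRing B] [IsLocalRing A] [IsLocalRing B]
    {ι : Type*} [Fintype ι]
    (hA : maximalIdeal A ^ 2 = ⊥) (u : B →+* A) (z : ι → B)
    (hz : maximalIdeal B = Ideal.span (Set.range z))
    (hres : ∀ a : A, ∃ b : B, a - u b ∈ maximalIdeal A)
    (hgen : Ideal.span (Set.range (fun i => u (z i))) = maximalIdeal A)
    (hcard : Fintype.card ι = (maximalIdeal A).spanFinrank) :
    Nonempty (A ≃+* B ⧸ maximalIdeal B ^ 2) := by
  classical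
  have huz : ∀ i, u (z i) ∈ maximalIdeal A := fun i => by
    rw [← hgen]; exact Ideal.subset_span ⟨i, rfl⟩
  have hzi : ∀ i, z i ∈ maximalIdeal B := fun i => by
    rw [hz]; exact Ideal.subset_span ⟨i, rfl⟩
  have hmm : ∀ a ∈ maximalIdeal A, ∀ b ∈ maximalIdeal A, a * b = 0 := by
    intro a ha b hb
    have h1 : a * b ∈ maximalIdeal A ^ 2 := by rw [pow_two]; exact Ideal.mul_mem_mul ha hb
    rw [hA] at h1
    simpa using h1
  have hsurj : Function.Surjective u := by
    intro a
    obtain ⟨b₀, hb₀⟩ := hres a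
    rw [← hgen] at hb₀
    obtain ⟨c, hc⟩ := (Submodule.mem_span_range_iff_exists_fun _).mp hb₀
    choose bb hbb using fun i => hres (c i)
    refine ⟨b₀ + ∑ i, bb i * z i, ?_⟩
    rw [map_add, map_sum]
    have h1 : ∀ i, u (bb i * z i) = c i • u (z i) := by
      intro i
      rw [map_mul, smul_eq_mul]
      have h2 := hmm _ (hbb i) _ (huz i)
      rw [sub_mul, sub_eq_zero] at h2
      exact h2.symm
    rw [Finset.sum_congr rfl (fun i _ => h1 i), hc]
    ring
  have hloc : ∀ b : B, u b ∈ maximalIdeal A → b ∈ maximalIdeal B := by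
    intro b hb
    by_contra hnb
    have hunit : IsUnit b := by
      by_contra hnu
      exact hnb ((mem_maximalIdeal _).mpr hnu)
    exact (mem_maximalIdeal _).mp hb (hunit.map u)
  have hker : RingHom.ker u = maximalIdeal B ^ 2 := by
    apply le_antisymm
    · intro b hb
      rw [RingHom.mem_ker] at hb
      have hbn : b ∈ maximalIdeal B := hloc b (by rw [hb]; exact Ideal.zero_mem _)
      rw [hz] at hbn
      obtain ⟨β, hβ⟩ := (Submodule.mem_span_range_iff_exists_fun _).mp hbn
      have h0 : ∑ i, u (β i) * u (z i) = 0 := by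
        rw [← hb, ← hβ, map_sum]
        refine Finset.sum_congr rfl (fun i _ => ?_)
        rw [smul_eq_mul, map_mul]
      have hβm : ∀ i, β i ∈ maximalIdeal B := fun i =>
        hloc _ (indep_of_minimal (fun i => u (z i)) hgen hcard (fun i => u (β i)) h0 i)
      rw [← hβ, pow_two]
      refine Ideal.sum_mem _ (fun i _ => ?_)
      rw [smul_eq_mul]
      exact Ideal.mul_mem_mul (hβm i) (hzi i)
    · intro b hb
      rw [RingHom.mem_ker]
      have hle : maximalIdeal B ≤ (maximalIdeal A).comap u := by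
        rw [hz, Ideal.span_le]
        rintro _ ⟨i, rfl⟩
        exact huz i
      have h1 : maximalIdeal B ^ 2 ≤ (maximalIdeal A ^ 2).comap u :=
        (Ideal.pow_right_mono hle 2).trans (Ideal.le_comap_pow u 2)
      have h2 := h1 hb
      rw [Ideal.mem_comap, hA] at h2
      simpa using h2
  exact ⟨(RingHom.quotientKerEquivOfSurjective hsurj).symm.trans (Ideal.quotEquivOfEq hker)⟩

end Groth.Agent.H27.SqZero
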