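import Mathlib

/-!
Helper lemmas on surjective morphisms / thickenings (helper27).
-/

set_option autoImplicit false
universe u

namespace Groth.Agent.H27

open AlgebraicGeometry CategoryTheory Limits MorphismProperty

/-- If `f ≫ g` is quasi-compact and `f` is surjective then `g` is quasi-compact. -/
theorem quasiCompact_of_comp_surjective {X Y Z : Scheme.{u}} (f : X ⟶ Y) (g : Y ⟶ Z)
    [QuasiCompact (f ≫ g)] [Surjective f] : QuasiCompact g := by
  constructor
  intro U hU hU'
  have h1 := QuasiCompact.isCompact_preimage (f := f ≫ g) U hU hU'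
  have h2 : g ⁻¹' U = f '' ((f ≫ g) ⁻¹' U) := by
    ext y
    constructor
    · intro hy
      obtain ⟨x, rfl⟩ := f.surjective y
      exact ⟨x, by simpa using hy, rfl⟩
    · rintro ⟨x, hx, rfl⟩
      simpa using hx
  rw [h2]
  exact h1.image f.continuous

set_option backward.isDefEq.respectTransparency.types false in
/-- If `f ≫ g` is universally open and `f` is surjective then `g` is universally open. -/
theorem universallyOpen_of_comp_surjective {X Y Z : Scheme.{u}} (f : X ⟶ Y) (g : Y ⟶ Z)
    [UniversallyOpen (f ≫ g)] [Surjective f] : UniversallyOpen g := by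
  constructor
  intro X' Y' i₁ i₂ f' H
  have h1 : IsOpenMap ((pullback.fst i₁ f ≫ f' : _ ⟶ Y')) :=
    UniversallyOpen.universally_isOpenMap _ _ _ ((IsPullback.of_hasPullback i₁ f).paste_horiz H)
  have hs : Function.Surjective (pullback.fst i₁ f) :=
    (MorphismProperty.pullback_fst (P := @Surjective) _ _ ‹_›).1
  intro U hU
  have : (f' : X' → Y') '' U = (pullback.fst i₁ f ≫ f' : _ ⟶ Y') '' ((pullback.fst i₁ f) ⁻¹' U) := by
    ext y
    constructor
    · rintro ⟨x, hx, rfl⟩
      obtain ⟨z, rfl⟩ := hs x
      exact ⟨z, hx, by simp⟩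
    · rintro ⟨z, hz, rfl⟩
      exact ⟨pullback.fst i₁ f z, hz, by simp⟩
  rw [this]
  exact h1 _ (hU.preimage (pullback.fst i₁ f).continuous)

set_option backward.isDefEq.respectTransparency.types false in
/-- If `f ≫ g` is universally injective and `f` is surjective then `g` is universally injective. -/
theorem universallyInjective_of_comp_surjective {X Y Z : Scheme.{u}} (f : X ⟶ Y) (g : Y ⟶ Z)
    [UniversallyInjective (f ≫ g)] [Surjective f] : UniversallyInjective g := by
  constructor
  intro X' Y' i₁ i₂ f' H
  have h1 : Function.Injective ((pullback.fst i₁ f ≫ f' : _ ⟶ Y')) :=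
    UniversallyInjective.universally_injective _ _ _
      ((IsPullback.of_hasPullback i₁ f).paste_horiz H)
  have hs : Function.Surjective (pullback.fst i₁ f) :=
    (MorphismProperty.pullback_fst (P := @Surjective) _ _ ‹_›).1
  have h2 : Function.Injective ((f' : X' → Y') ∘ (pullback.fst i₁ f : _ → X')) := by
    intro a b hab
    apply h1
    simpa using hab
  exact Function.Injective.of_comp_right h2 hs

/-- A surjective closed immersion is universally open. -/
theorem universallyOpen_of_isClosedImmersion_of_surjective {X Y : Scheme.{u}} (i : X ⟶ Y)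
    [IsClosedImmersion i] [Surjective i] : UniversallyOpen i := by
  constructor
  intro X' Y' i₁ i₂ f' H
  have hf'c : IsClosedImmersion f' := MorphismProperty.of_isPullback H.flip inferInstance
  have hf's : Surjective f' := MorphismProperty.of_isPullback H.flip inferInstance
  let e : X' ≃ₜ Y' := (Equiv.ofBijective f' ⟨f'.isClosedEmbedding.injective, f'.surjective⟩).toHomeomorphOfIsInducing
    f'.isClosedEmbedding.isInducing
  exact e.isOpenMap

/-- Generic transfer across a morphism of thickenings. -/
theorem thickening_iff_of (P : MorphismProperty Scheme.{u}) [P.IsStableUnderBaseChange]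
    [P.IsStableUnderComposition]
    (hthick : ∀ {A B : Scheme.{u}} (i : A ⟶ B), IsClosedImmersion i → Surjective i → P i)
    (hsurj : ∀ {A B C : Scheme.{u}} (f : A ⟶ B) (g : B ⟶ C), Surjective f → P (f ≫ g) → P g)
    {X X' S S' : Scheme.{u}} (iX : X ⟶ X') (iS : S ⟶ S') (f : X ⟶ S) (f' : X' ⟶ S')
    (hX : IsClosedImmersion iX ∧ Surjective iX) (hS : IsClosedImmersion iS ∧ Surjective iS)
    (w : iX ≫ f' = f ≫ iS) : P f ↔ P f' := by
  obtain ⟨hX1, hX2⟩ := hX
  obtain ⟨hS1, hS2⟩ := hS
  constructor
  · intro hf
    have : P (iX ≫ f') := by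
      rw [w]
      exact P.comp_mem _ _ hf (hthick iS hS1 hS2)
    exact hsurj iX f' hX2 this
  · intro hf'
    have : P (f ≫ iS) := by
      rw [← w]
      exact P.comp_mem _ _ (hthick iX hX1 hX2) hf'
    exact MorphismProperty.of_postcomp (W := P) (W' := MorphismProperty.monomorphisms Scheme.{u})
      f iS (inferInstanceAs (Mono iS)) this

end Groth.Agent.H27

namespace Groth.Agent.H27

open AlgebraicGeometry CategoryTheory Limits MorphismProperty

set_option backward.isDefEq.respectTransparency false in
/-- If `i ≫ g` is quasi-separated and `i` is a surjective quasi-compact morphism, then `g` is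
quasi-separated. -/
theorem quasiSeparated_of_comp_surjective {X Y Z : Scheme.{u}} (i : X ⟶ Y) (g : Y ⟶ Z)
    [QuasiSeparated (i ≫ g)] [QuasiCompact i] [Surjective i] : QuasiSeparated g := by
  constructor
  have hmap : QuasiCompact (pullback.map (i ≫ g) (i ≫ g) g g i i (𝟙 Z)
      ((Category.comp_id _).trans rfl) ((Category.comp_id _).trans rfl)) :=
    MorphismProperty.pullbackMap (P := @QuasiCompact) (f := i ≫ g) (g := i ≫ g) (f' := g) (g' := g)
      (i₁ := i) (i₂ := i) inferInstance inferInstance rfl rfl
  have hcomm : pullback.diagonal (i ≫ g) ≫ pullback.map (i ≫ g) (i ≫ g) g g i i (𝟙 Z)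
      ((Category.comp_id _).trans rfl) ((Category.comp_id _).trans rfl) = i ≫ pullback.diagonal g := by
    apply pullback.hom_ext <;> simp
  have : QuasiCompact (i ≫ pullback.diagonal g) := by
    rw [← hcomm]
    infer_instance
  exact quasiCompact_of_comp_surjective i (pullback.diagonal g)

end Groth.Agent.H27
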