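import Mathlib.RingTheory.Binomial
import Mathlib.Algebra.BigOperators.Fin
import Mathlib.Tactic

set_option autoImplicit false

namespace Groth.Agent.H27

open Finset

/-- the truncated binomial series -/
noncomputable def binomSeries {A : Type*} [CommRing A] (m : ℕ) (y : A) (n : ℤ) : A :=
  ∑ j ∈ Finset.range (m+1), (Ring.choose n j) • y ^ j

theorem binomSeries_zero {A : Type*} [CommRing A] (m : ℕ) (y : A) : binomSeries m y 0 = 1 := by
  unfold binomSeries
  rw [Finset.sum_range_succ']
  simp [Ring.choose_zero_right]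

theorem binomSeries_succ {A : Type*} [CommRing A] (m : ℕ) (y : A) (hy : y ^ (m+1) = 0) (n : ℤ) :
    binomSeries m y (n + 1) = (1 + y) * binomSeries m y n := by
  unfold binomSeries
  rw [add_mul, one_mul, Finset.mul_sum]
  rw [Finset.sum_range_succ' (fun j => (Ring.choose (n+1) j) • y ^ j)]
  rw [Finset.sum_range_succ' (fun j => (Ring.choose n j) • y ^ j)]
  rw [Finset.sum_range_succ (fun j => y * ((Ring.choose n j) • y ^ j))]
  have h1 : y * (Ring.choose n m • y ^ m) = 0 := by
    rw [mul_smul_comm, ← pow_succ', hy, smul_zero]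
  rw [h1, add_zero]
  simp only [Ring.choose_zero_right, pow_zero]
  have h2 : ∀ j ∈ Finset.range m, Ring.choose (n + 1) (j + 1) • y ^ (j + 1) =
      Ring.choose n (j + 1) • y ^ (j + 1) + y * (Ring.choose n j • y ^ j) := by
    intro j _
    rw [Ring.choose_succ_succ, add_smul, mul_smul_comm, ← pow_succ', add_comm]
  rw [Finset.sum_congr rfl h2, Finset.sum_add_distrib]
  abel

theorem unit_zpow_eq_binomSeries {A : Type*} [CommRing A] (m : ℕ) (u : Aˣ)
    (hy : ((u : A) - 1) ^ (m+1) = 0) (n : ℤ) :
    ((u ^ n : Aˣ) : A) = binomSeries m ((u : A) - 1) n := by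
  have hu : (1 + ((u : A) - 1)) = (u : A) := by ring
  have hstep : ∀ k : ℤ, binomSeries m ((u : A) - 1) (k + 1) =
      (u : A) * binomSeries m ((u : A) - 1) k := by
    intro k
    rw [binomSeries_succ m _ hy k, hu]
  induction n using Int.induction_on with
  | zero => simp [binomSeries_zero]
  | succ i ih =>
    rw [hstep, ← ih, zpow_add_one, Units.val_mul, mul_comm]
  | pred i ih =>
    have h1 := hstep (-(i : ℤ) - 1)
    rw [sub_add_cancel, ← ih] at h1
    have h2 : ((u ^ (-(i : ℤ)) : Aˣ) : A) = (u : A) * ((u ^ (-(i : ℤ) - 1) : Aˣ) : A) := by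
      rw [← Units.val_mul, ← zpow_one_add]
      congr 2
      ring
    rw [h2] at h1
    exact (u.isUnit.mul_left_cancel h1)

end Groth.Agent.H27
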