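import Mathlib.AlgebraicGeometry.Morphisms.QuasiFinite
import Mathlib.AlgebraicGeometry.Morphisms.FormallyUnramified
import Mathlib.RingTheory.Unramified.LocalStructure
import Mathlib.Tactic

set_option autoImplicit false
universe u
open CategoryTheory AlgebraicGeometry

namespace Groth.Agent.H27

/-- A morphism of schemes that is locally of finite type and formally unramified is locally quasi-finite. -/
theorem locallyQuasiFinite_of_unramified {X Y : Scheme.{u}} (f : X ⟶ Y) (h1 : LocallyOfFiniteType f)
    (h2 : FormallyUnramified f) : LocallyQuasiFinite f := by
  rw [HasRingHomProperty.iff_appLE (P := @LocallyQuasiFinite)]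
  intro U V e
  have a1 := HasRingHomProperty.appLE (P := @LocallyOfFiniteType) f h1 U V e
  have a2 := HasRingHomProperty.appLE (P := @FormallyUnramified) f h2 U V e
  generalize (f.appLE U V e).hom = φ at *
  algebraize [φ]
  show Algebra.QuasiFinite _ _
  infer_instance

end Groth.Agent.H27
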