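import Mathlib

/-!
# Weakly étale toolkit: flatness over `B` from flatness over `A` when `B ⊗[A] B → B` is flat
-/

set_option autoImplicit false
universe u
open TensorProduct

namespace Groth.Agent.H27.WEt

section action

variable (A B : Type u) [CommRing A] [CommRing B] [Algebra A B]
variable (N M' : Type u) [AddCommGroup N] [Module A N] [Module B N] [IsScalarTower A B N]
  [AddCommGroup M'] [Module A M'] [Module B M'] [IsScalarTower A B M']

/-- The action of `B ⊗[A] B` on `N ⊗[A] M'`. -/
noncomputable def rho : (B ⊗[A] B) →ₐ[A] Module.End A (N ⊗[A] M') :=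
  Algebra.TensorProduct.lift
    ((Module.End.rTensorAlgHom A N M').comp (Algebra.lsmul A A N))
    ((Module.End.lTensorAlgHom A M' N).comp (Algebra.lsmul A A M'))
    (fun b b' => by
      show _ * _ = _ * _
      apply TensorProduct.ext'
      intro n m
      rfl)

/-- The `B ⊗[A] B`-module structure on `N ⊗[A] M'`. -/
@[reducible] noncomputable def modR : Module (B ⊗[A] B) (N ⊗[A] M') :=
  Module.compHom _ (rho A B N M').toRingHom

end action

attribute [local instance] modR

section core

variable {A B : Type u} [CommRing A] [CommRing B] [Algebra A B]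
variable {N M' M'' : Type u} [AddCommGroup N] [Module A N] [Module B N] [IsScalarTower A B N]
  [AddCommGroup M'] [Module A M'] [Module B M'] [IsScalarTower A B M']
  [AddCommGroup M''] [Module A M''] [Module B M''] [IsScalarTower A B M'']

lemma tmul_smul_tmul (b b' : B) (n : N) (m : M') :
    (b ⊗ₜ[A] b' : B ⊗[A] B) • (n ⊗ₜ[A] m : N ⊗[A] M') = (b • n) ⊗ₜ[A] (b' • m) := by
  show rho A B N M' (b ⊗ₜ b') (n ⊗ₜ m) = _
  rw [rho, Algebra.TensorProduct.lift_tmul]
  rfl

theorem lTensor_injective_of_flat_lmul
    (h : (Algebra.TensorProduct.lmul' A (S := B)).Flat) [Module.Flat A N]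
    (f : M' →ₗ[B] M'') (hf : Function.Injective f) : Function.Injective (f.lTensor N) := by
  letI algRB : Algebra (B ⊗[A] B) B :=
    (Algebra.TensorProduct.lmul' A (S := B)).toRingHom.toAlgebra
  haveI : Module.Flat (B ⊗[A] B) B := h
  have hsmulB : ∀ (r : B ⊗[A] B) (b : B), r • b = Algebra.TensorProduct.lmul' A r * b :=
    fun r b => rfl
  let fA : M' →ₗ[A] M'' := f.restrictScalars A
  let g : (N ⊗[A] M') →ₗ[B ⊗[A] B] (N ⊗[A] M'') :=
    { toFun := fA.lTensor N
      map_add' := map_add _
      map_smul' := by
        intro r x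
        show fA.lTensor N (r • x) = r • fA.lTensor N x
        induction r using TensorProduct.induction_on with
        | zero => rw [zero_smul, zero_smul, map_zero]
        | tmul b b' =>
          induction x using TensorProduct.induction_on with
          | zero => rw [smul_zero, map_zero, smul_zero]
          | tmul n m =>
            rw [tmul_smul_tmul, LinearMap.lTensor_tmul, LinearMap.lTensor_tmul, tmul_smul_tmul]
            congr 1
            exact f.map_smul b' m
          | add x y hx hy => rw [smul_add, map_add, hx, hy, map_add, smul_add]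
        | add r s hr hs => rw [add_smul, map_add, hr, hs, add_smul] }
  have hgapp : ∀ x, g x = fA.lTensor N x := fun x => rfl
  have hg : Function.Injective g :=
    Module.Flat.lTensor_preserves_injective_linearMap (M := N) fA hf
  have hBg : Function.Injective (g.lTensor B) :=
    Module.Flat.lTensor_preserves_injective_linearMap g hg
  let π' : N ⊗[A] M' →ₗ[A] N ⊗[B] M' := TensorProduct.mapOfCompatibleSMul B A A N M'
  let π'' : N ⊗[A] M'' →ₗ[A] N ⊗[B] M'' := TensorProduct.mapOfCompatibleSMul B A A N M''
  have hπ' : ∀ (r : B ⊗[A] B) (p : N ⊗[A] M'),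
      π' (r • p) = (Algebra.TensorProduct.lmul' A r : B) • π' p := by
    intro r p
    induction r using TensorProduct.induction_on with
    | zero => simp
    | tmul b b' =>
      induction p using TensorProduct.induction_on with
      | zero => simp
      | tmul n m =>
        rw [tmul_smul_tmul]
        show (b • n) ⊗ₜ[B] (b' • m) = (Algebra.TensorProduct.lmul' A (b ⊗ₜ[A] b')) • (n ⊗ₜ[B] m)
        rw [Algebra.TensorProduct.lmul'_apply_tmul, TensorProduct.tmul_smul,
          TensorProduct.smul_tmul', smul_smul, mul_comm, TensorProduct.smul_tmul']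
      | add x y hx hy => rw [smul_add, map_add, hx, hy, map_add, smul_add]
    | add r s hr hs => rw [add_smul, map_add, hr, hs, map_add, add_smul]
  let Θ : N ⊗[B] M'' →+ B ⊗[B ⊗[A] B] (N ⊗[A] M'') :=
    TensorProduct.liftAddHom
      { toFun := fun n =>
          { toFun := fun m => (1 : B) ⊗ₜ[B ⊗[A] B] (n ⊗ₜ[A] m)
            map_zero' := by simp
            map_add' := fun m m' => by rw [tmul_add, tmul_add] }
        map_zero' := by ext m; simp
        map_add' := fun n n' => by ext m; simp [add_tmul, tmul_add] }
      (by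
        intro b n m
        show (1 : B) ⊗ₜ[B ⊗[A] B] ((b • n) ⊗ₜ[A] m) = (1 : B) ⊗ₜ[B ⊗[A] B] (n ⊗ₜ[A] (b • m))
        have e1 : (b • n) ⊗ₜ[A] m = (b ⊗ₜ[A] (1 : B) : B ⊗[A] B) • (n ⊗ₜ[A] m) := by
          rw [tmul_smul_tmul, one_smul]
        have e2 : n ⊗ₜ[A] (b • m) = ((1 : B) ⊗ₜ[A] b : B ⊗[A] B) • (n ⊗ₜ[A] m) := by
          rw [tmul_smul_tmul, one_smul]
        rw [e1, e2, ← TensorProduct.smul_tmul, ← TensorProduct.smul_tmul, hsmulB, hsmulB]
        simp)
  have hΘ : ∀ p : N ⊗[A] M'', Θ (π'' p) = (1 : B) ⊗ₜ[B ⊗[A] B] p := by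
    intro p
    induction p using TensorProduct.induction_on with
    | zero => simp
    | tmul n m => rfl
    | add x y hx hy => rw [map_add, map_add, hx, hy, tmul_add]
  let Λ : B ⊗[B ⊗[A] B] (N ⊗[A] M') →+ N ⊗[B] M' :=
    TensorProduct.liftAddHom
      { toFun := fun b =>
          { toFun := fun p => b • π' p
            map_zero' := by simp
            map_add' := fun p q => by rw [map_add, smul_add] }
        map_zero' := by ext p; simp
        map_add' := fun b b' => by ext p; simp [add_smul] }
      (by
        intro r b p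
        show (r • b) • π' p = b • π' (r • p)
        rw [hπ', smul_smul, hsmulB, mul_comm])
  have hnat : ∀ t : N ⊗[A] M', π'' (fA.lTensor N t) = f.lTensor N (π' t) := by
    intro t
    induction t using TensorProduct.induction_on with
    | zero => simp
    | tmul n m => rfl
    | add x y hx hy => rw [map_add, map_add, hx, hy, map_add, map_add]
  rw [injective_iff_map_eq_zero]
  intro z hz
  obtain ⟨t, rfl⟩ := TensorProduct.mapOfCompatibleSMul_surjective B A A N M' z
  have h2 : Θ (π'' (g t)) = (1 : B) ⊗ₜ[B ⊗[A] B] (g t) := hΘ (g t)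
  have h3 : (1 : B) ⊗ₜ[B ⊗[A] B] (g t) = 0 := by
    rw [← h2, hgapp, hnat]
    show Θ ((f.lTensor N) (π' t)) = 0
    rw [hz, map_zero]
  have h4 : (g.lTensor B) ((1 : B) ⊗ₜ[B ⊗[A] B] t) = 0 := by
    rw [LinearMap.lTensor_tmul]; exact h3
  have h5 : (1 : B) ⊗ₜ[B ⊗[A] B] t = 0 := hBg (by rw [h4, map_zero])
  have h6 : Λ ((1 : B) ⊗ₜ[B ⊗[A] B] t) = π' t := by
    show (1 : B) • π' t = π' t
    rw [one_smul]
  show π' t = 0
  rw [← h6, h5, map_zero]

end core

theorem flat_of_flat_lmul (A B : Type u) [CommRing A] [CommRing B] [Algebra A B]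
    (h : (Algebra.TensorProduct.lmul' A (S := B)).Flat) (N : Type u) [AddCommGroup N]
    [Module B N] [Module A N] [IsScalarTower A B N] [Module.Flat A N] : Module.Flat B N := by
  rw [Module.Flat.iff_lTensor_preserves_injective_linearMap]
  intro M' M'' _ _ _ _ f hf
  letI : AddCommGroup M' := Module.addCommMonoidToAddCommGroup B
  letI : AddCommGroup M'' := Module.addCommMonoidToAddCommGroup B
  letI : Module A M' := Module.compHom M' (algebraMap A B)
  letI : Module A M'' := Module.compHom M'' (algebraMap A B)
  haveI : IsScalarTower A B M' := ⟨fun a b m => by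
    show (a • b) • m = algebraMap A B a • (b • m)
    rw [Algebra.smul_def, mul_smul]⟩
  haveI : IsScalarTower A B M'' := ⟨fun a b m => by
    show (a • b) • m = algebraMap A B a • (b • m)
    rw [Algebra.smul_def, mul_smul]⟩
  exact lTensor_injective_of_flat_lmul h f hf

/-- If `R → R'` is surjective and `R → R' → S` is flat then `R' → S` is flat. -/
theorem flat_of_surjective_comp {R R' S : Type u} [CommRing R] [CommRing R'] [CommRing S]
    (φ : R →+* R') (hφ : Function.Surjective φ) (ψ : R' →+* S) (h : (ψ.comp φ).Flat) :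
    ψ.Flat := by
  letI : Algebra R R' := φ.toAlgebra
  letI : Algebra R' S := ψ.toAlgebra
  letI : Algebra R S := (ψ.comp φ).toAlgebra
  haveI : IsScalarTower R R' S := IsScalarTower.of_algebraMap_eq (fun x => rfl)
  haveI : Module.Flat R S := h
  show Module.Flat R' S
  haveI c1 : TensorProduct.CompatibleSMul R R' R' S :=
    TensorProduct.CompatibleSMul.of_algebraMap_surjective R' S hφ
  exact Module.Flat.of_linearEquiv (TensorProduct.lidOfCompatibleSMul R R' S).symm

end Groth.Agent.H27.WEt
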